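import Cfsg.Agent.Lib.PGroup.AltAut
import Cfsg.Agent.Lib.Classical.SLBasic
import Cfsg.Prelude.Def_Solvable

/-!
# Extensions of `A₆` by `L₃(2)`, and automorphisms of an elementary group of order eight
-/

set_option autoImplicit false
set_option linter.style.haveILetI false

namespace CfsgLib.Sporadic.LargeFischer.EightQuot

/-- The target group of degree three over two elements. -/
abbrev L32 : Type := Matrix.SpecialLinearGroup (Fin 3) (ZMod 2)

theorem l32_simple : IsSimpleGroup L32 := by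
  haveI := CfsgLib.Classical.psl_fin_isSimpleGroup (F := ZMod 2) (k := 3) (by norm_num) (by norm_num)
  have hz : Subgroup.center L32 = ⊥ := by
    refine eq_bot_iff.mpr fun A hA => ?_
    obtain ⟨r, hr, hrA⟩ := Matrix.SpecialLinearGroup.mem_center_iff.mp hA
    have h2 : ∀ a : ZMod 2, a ^ Fintype.card (Fin 3) = 1 → a = 1 := by decide
    rw [h2 r hr, map_one] at hrA
    exact Subgroup.mem_bot.mpr (Subtype.ext hrA.symm)
  let e1 : Matrix.ProjectiveSpecialLinearGroup (Fin 3) (ZMod 2) ≃* L32 :=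
    (QuotientGroup.quotientMulEquivOfEq hz).trans QuotientGroup.quotientBot
  exact e1.symm.isSimpleGroup

theorem l32_card : Nat.card L32 = 168 := by
  have hb : Function.Bijective (Matrix.SpecialLinearGroup.toGL : L32 →* GL (Fin 3) (ZMod 2)) := by
    refine ⟨fun A B h => Subtype.ext (congrArg Units.val h :), fun g => ?_⟩
    have h2 : ∀ a : ZMod 2, a ≠ 0 → a = 1 := by decide
    exact ⟨⟨g.1, h2 _ ((Matrix.GeneralLinearGroup.det g).ne_zero)⟩, Units.ext rfl⟩
  rw [Nat.card_congr (Equiv.ofBijective _ hb), Matrix.card_GL_field]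
  simp [Fin.prod_univ_three]

/-- The automorphisms of an elementary abelian group of order eight. -/
theorem exists_mulAut_equiv {V : Type*} [Group V] [Finite V] (hc : ∀ a b : V, a * b = b * a)
    (h2 : ∀ a : V, a * a = 1) (h8 : Nat.card V = 8) : Nonempty (MulAut V ≃* L32) := by
  classical
  letI : CommGroup V := { (inferInstance : Group V) with mul_comm := hc }
  letI : Module (ZMod 2) (Additive V) := AddCommGroup.zmodModule fun a => by
    rw [two_nsmul]
    exact h2 a.toMul
  haveI : Module.Finite (ZMod 2) (Additive V) := Module.Finite.of_finite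
  have hd : Module.finrank (ZMod 2) (Additive V) = 3 := by
    have := Module.natCard_eq_pow_finrank (K := ZMod 2) (V := Additive V)
    rw [Nat.card_zmod, show Nat.card (Additive V) = 8 from h8] at this
    exact Nat.pow_right_injective le_rfl (a₂ := 3) this.symm
  let b := (Module.finBasisOfFinrankEq (ZMod 2) (Additive V) hd).equivFun
  let ap : L32 → V → V := fun A a => (b.symm ((A : Matrix (Fin 3) (Fin 3) (ZMod 2)).mulVec (b (Additive.ofMul a)))).toMul
  have hap : ∀ (A B : L32) (a : V), ap (A * B) a = ap A (ap B a) := fun A B a => by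
    simp only [ap, ofMul_toMul, LinearEquiv.apply_symm_apply, Matrix.mulVec_mulVec, Matrix.SpecialLinearGroup.coe_mul]
  have hap1 : ∀ a : V, ap 1 a = a := fun a => by
    simp only [ap, Matrix.SpecialLinearGroup.coe_one, Matrix.one_mulVec, LinearEquiv.symm_apply_apply, toMul_ofMul]
  let f : L32 →* MulAut V := MonoidHom.mk' (fun A =>
    { toFun := ap A
      invFun := ap A⁻¹
      left_inv := fun a => by rw [← hap, inv_mul_cancel, hap1]
      right_inv := fun a => by rw [← hap, mul_inv_cancel, hap1]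
      map_mul' := fun a c => by
        show ap A (a * c) = ap A a * ap A c
        simp only [ap, ofMul_mul, map_add, Matrix.mulVec_add, toMul_add] })
    fun A B => MulEquiv.ext fun a => hap A B a
  refine ⟨(MulEquiv.ofBijective f ⟨fun A B e => ?_, fun α => ?_⟩).symm⟩
  · refine Subtype.ext (Matrix.mulVec_injective ?_)
    funext w
    obtain ⟨x, rfl⟩ := b.surjective w
    have e1 : ap A x.toMul = ap B x.toMul := DFunLike.congr_fun e x.toMul
    exact b.symm.injective (Additive.toMul.injective e1)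
  · let L : (Fin 3 → ZMod 2) →ₗ[ZMod 2] (Fin 3 → ZMod 2) := AddMonoidHom.toZModLinearMap 2
      (AddMonoidHom.mk' (fun w => b (Additive.ofMul (α (b.symm w).toMul))) fun u w => by
        simp only [map_add, toMul_add, map_mul, ofMul_mul])
    have hL : Function.Injective L := fun u w e =>
      b.symm.injective (Additive.toMul.injective (α.injective (Additive.ofMul.injective (b.injective e))))
    have hdet : (LinearMap.toMatrix' L).det = 1 := by
      have h1 : ∀ a : ZMod 2, a ≠ 0 → a = 1 := by decide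
      refine h1 _ (IsUnit.ne_zero ((Matrix.isUnit_iff_isUnit_det _).1 (Matrix.mulVec_injective_iff_isUnit.1 ?_)))
      intro u w e
      exact hL (by rwa [← LinearMap.toMatrix'_mulVec, ← LinearMap.toMatrix'_mulVec])
    refine ⟨⟨LinearMap.toMatrix' L, hdet⟩, MulEquiv.ext fun a => ?_⟩
    show (b.symm ((LinearMap.toMatrix' L).mulVec (b (Additive.ofMul a)))).toMul = α a
    rw [LinearMap.toMatrix'_mulVec]
    show (b.symm (b (Additive.ofMul (α (b.symm (b (Additive.ofMul a))).toMul)))).toMul = α a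
    simp only [LinearEquiv.symm_apply_apply, toMul_ofMul]

theorem conj_injective : Function.Injective (MulAut.conj : ↥(alternatingGroup (Fin 6)) → MulAut ↥(alternatingGroup (Fin 6))) := by
  intro a b e
  refine Subtype.ext (CfsgLib.PGroup.AltAut.conjNormal_injective 6 (by norm_num) (MulEquiv.ext fun x => ?_))
  have e' := DFunLike.congr_fun e x
  refine Subtype.ext ?_
  rw [MulAut.conjNormal_apply, MulAut.conjNormal_apply]
  exact congrArg Subtype.val e'

/-- An extension of `A₆` by `L₃(2)` with two-group kernel maps onto the direct product. -/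
theorem exists_surj_prod {N : Type*} [Group N] [Finite N] (ρ : N →* L32) (hρ : Function.Surjective ρ)
    (φ : ↥ρ.ker →* ↥(alternatingGroup (Fin 6))) (hφ : Function.Surjective φ)
    (hinv : ∀ (n : N) (c : ↥ρ.ker), φ c = 1 → φ ⟨n * c * n⁻¹, ρ.normal_ker.conj_mem _ c.2 n⟩ = 1) :
    ∃ Φ : N →* L32 × ↥(alternatingGroup (Fin 6)), Function.Surjective Φ ∧
      ∀ n, Φ n = 1 ↔ ∃ hn : n ∈ ρ.ker, φ ⟨n, hn⟩ = 1 := by
  classical
  haveI := l32_simple
  let cj : N → ↥ρ.ker → ↥ρ.ker := fun n c => ⟨n * c * n⁻¹, ρ.normal_ker.conj_mem _ c.2 n⟩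
  have cmul : ∀ n c d, cj n (c * d) = cj n c * cj n d := fun n c d => Subtype.ext (by simp [cj, mul_assoc])
  have ccomp : ∀ n m c, cj (n * m) c = cj n (cj m c) := fun n m c => Subtype.ext (by simp [cj, mul_assoc])
  have cone : ∀ c, cj 1 c = c := fun c => Subtype.ext (by simp [cj])
  choose σ hσ using hφ
  have key : ∀ n c, φ (cj n c) = φ (cj n (σ (φ c))) := fun n c => by
    have h1 : φ (cj n ((σ (φ c))⁻¹ * c)) = 1 := hinv n _ (by rw [map_mul, map_inv, hσ, inv_mul_cancel])
    have h2 : φ (cj n c) = φ (cj n (σ (φ c))) * φ (cj n ((σ (φ c))⁻¹ * c)) := by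
      rw [← map_mul, ← cmul, mul_inv_cancel_left]
    rw [h2, h1, mul_one]
  let act : N → ↥(alternatingGroup (Fin 6)) → ↥(alternatingGroup (Fin 6)) := fun n a => φ (cj n (σ a))
  have hact : ∀ n c, act n (φ c) = φ (cj n c) := fun n c => (key n c).symm
  have acomp : ∀ n m a, act (n * m) a = act n (act m a) := fun n m a => by
    rw [show act m a = φ (cj m (σ a)) from rfl, hact, ← ccomp]
  have aone : ∀ a, act 1 a = a := fun a => by show φ (cj 1 (σ a)) = a; rw [cone, hσ]
  let α : N →* MulAut ↥(alternatingGroup (Fin 6)) := MonoidHom.mk' (fun n =>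
    { toFun := act n
      invFun := act n⁻¹
      left_inv := fun a => by rw [← acomp, inv_mul_cancel, aone]
      right_inv := fun a => by rw [← acomp, mul_inv_cancel, aone]
      map_mul' := fun a b => by
        conv_lhs => rw [← hσ a, ← hσ b, ← map_mul, hact, cmul, map_mul] })
    fun n m => MulEquiv.ext fun a => acomp n m a
  let inn := (MulAut.conj : ↥(alternatingGroup (Fin 6)) →* MulAut ↥(alternatingGroup (Fin 6)))
  have hαc : ∀ c : ↥ρ.ker, α c = inn (φ c) := fun c => MulEquiv.ext fun a => by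
    obtain ⟨d, rfl⟩ : ∃ d, φ d = a := ⟨σ a, hσ a⟩
    show act (c : N) (φ d) = φ c * φ d * (φ c)⁻¹
    rw [hact, ← map_inv, ← map_mul, ← map_mul]
    rfl
  haveI : inn.range.Normal := ⟨by
    rintro _ ⟨a, rfl⟩ β
    exact ⟨β a, MulEquiv.ext fun x => by
      show β a * x * (β a)⁻¹ = β (a * β.symm x * a⁻¹)
      rw [map_mul, map_mul, map_inv, β.apply_symm_apply]⟩⟩
  set H := inn.range.comap α with hH
  have hker : ρ.ker ≤ H := fun c hc => ⟨φ ⟨c, hc⟩, (hαc ⟨c, hc⟩).symm⟩
  have htop : H = ⊤ := by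
    rcases (Subgroup.Normal.map (inferInstance : H.Normal) ρ hρ).eq_bot_or_eq_top with e | e
    · exfalso
      haveI : Fact (Nat.Prime 7) := ⟨by norm_num⟩
      obtain ⟨x, hx⟩ := exists_prime_orderOf_dvd_card' 7 (G := L32) (by rw [l32_card]; norm_num)
      obtain ⟨n, rfl⟩ := hρ x
      obtain ⟨k, m, hm, hkm⟩ := Nat.exists_eq_two_pow_mul_odd (orderOf_pos n).ne'
      have hpow : (α (n ^ 2 ^ k)) ^ m = 1 := by rw [← map_pow, ← pow_mul, ← hkm, pow_orderOf_eq_one, map_one]
      obtain ⟨s, hs⟩ := CfsgLib.PGroup.AltAut.exists_conjNormal_of_odd (n := 6) (by norm_num) _ hm hpow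
      have hmem : (n ^ 2 ^ k) ^ 2 ∈ H := by
        refine ⟨⟨s * s, Equiv.Perm.mem_alternatingGroup.2 (by rw [map_mul, Int.units_mul_self])⟩, ?_⟩
        rw [pow_two, map_mul α, ← hs, ← map_mul (MulAut.conjNormal (H := alternatingGroup (Fin 6)))]
        exact MulEquiv.ext fun a => Subtype.ext (by rw [MulAut.conjNormal_apply]; rfl)
      have h1 : ρ ((n ^ 2 ^ k) ^ 2) = 1 := by
        have := Subgroup.mem_map_of_mem ρ hmem
        rwa [e, Subgroup.mem_bot] at this
      rw [← pow_mul, ← pow_succ, map_pow] at h1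
      have h7 := orderOf_dvd_of_pow_eq_one h1
      rw [hx] at h7
      have h72 := (by norm_num : Nat.Prime 7).dvd_of_dvd_pow h7
      norm_num at h72
    · refine eq_top_iff.2 fun n _ => ?_
      obtain ⟨h0, hh0, he⟩ : ρ n ∈ H.map ρ := by rw [e]; trivial
      have : h0⁻¹ * n ∈ H := hker (MonoidHom.mem_ker.2 (by rw [map_mul, map_inv, he, inv_mul_cancel]))
      simpa using mul_mem hh0 this
  choose β hβ using fun n : N => (htop ▸ Subgroup.mem_top n : n ∈ H)
  let β' : N →* ↥(alternatingGroup (Fin 6)) := MonoidHom.mk' β fun n m =>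
    conj_injective (by
      show inn (β (n * m)) = inn (β n * β m)
      rw [map_mul inn, hβ, hβ, hβ, map_mul])
  have hβc : ∀ c : ↥ρ.ker, β' c = φ c := fun c => conj_injective ((hβ c).trans (hαc c))
  refine ⟨ρ.prod β', ?_, fun n => ⟨fun e => ?_, ?_⟩⟩
  · rintro ⟨x, a⟩
    obtain ⟨n, rfl⟩ := hρ x
    refine ⟨n * σ ((β' n)⁻¹ * a), Prod.ext ?_ ?_⟩
    · show ρ (n * _) = ρ n
      rw [map_mul, MonoidHom.mem_ker.1 (σ _).2, mul_one]
    · show β' (n * _) = a
      rw [map_mul, hβc, hσ, mul_inv_cancel_left]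
  · have hn : n ∈ ρ.ker := congrArg Prod.fst e
    exact ⟨hn, (hβc ⟨n, hn⟩).symm.trans (congrArg Prod.snd e)⟩
  · rintro ⟨hn, e⟩
    exact Prod.ext hn ((hβc ⟨n, hn⟩).trans e)

/-- The two-core of a group mapping onto the direct product with two-group kernel. -/
theorem pCore_eq_ker {N : Type*} [Group N] [Finite N] (Φ : N →* L32 × ↥(alternatingGroup (Fin 6)))
    (hΦ : Function.Surjective Φ) (h2 : IsPGroup 2 Φ.ker) : Cfsg.pCore 2 N = Φ.ker := by
  haveI := l32_simple
  haveI : IsSimpleGroup ↥(alternatingGroup (Fin 6)) := alternatingGroup.isSimpleGroup (by simp)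
  haveI : Fact (Nat.Prime 2) := ⟨Nat.prime_two⟩
  have key : ∀ {T : Type} [Group T] [Finite T] [IsSimpleGroup T] (f : N →* T), Function.Surjective f →
      3 ∣ Nat.card T → ∀ M : Subgroup N, M.Normal → IsPGroup 2 M → M.map f = ⊥ := by
    intro T _ _ _ f hf h3 M hM hM2
    refine (Subgroup.Normal.map hM f hf).eq_bot_or_eq_top.resolve_right fun e => ?_
    obtain ⟨k, hk⟩ := IsPGroup.iff_card.1 (hM2.map f)
    rw [e, Subgroup.card_top] at hk
    rw [hk] at h3
    exact absurd (Nat.prime_three.dvd_of_dvd_pow h3) (by norm_num)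
  refine le_antisymm (sSup_le ?_) (le_sSup ⟨inferInstance, h2⟩)
  rintro M ⟨hM, hM2⟩ x hx
  have e1 := key ((MonoidHom.fst _ _).comp Φ) (Prod.fst_surjective.comp hΦ) (by rw [l32_card]; norm_num) M hM hM2
  have e2 := key ((MonoidHom.snd _ _).comp Φ) (Prod.snd_surjective.comp hΦ) (by
    rw [nat_card_alternatingGroup, Nat.card_eq_fintype_card, Fintype.card_fin]; decide) M hM hM2
  have a1 := Subgroup.mem_map_of_mem ((MonoidHom.fst _ _).comp Φ) hx
  have a2 := Subgroup.mem_map_of_mem ((MonoidHom.snd _ _).comp Φ) hx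
  rw [e1, Subgroup.mem_bot] at a1
  rw [e2, Subgroup.mem_bot] at a2
  exact MonoidHom.mem_ker.2 (Prod.ext a1 a2)

end CfsgLib.Sporadic.LargeFischer.EightQuot
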