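import Cfsg.Agent.Lib.Sporadic.U62Centralizer.Main
import Cfsg.Agent.Lib.Sporadic.FiTransfer.Transfer
import Cfsg.Agent.Lib.Sporadic.Fi22Out.Main
import Cfsg.Agent.Lib.Components.GenFitting
import Cfsg.Agent.Lib.Components.Quasisimple
import Cfsg.Prelude.Def_Local

/-!
# Recognition of `2·Fi₂₂:2` from the centraliser of the second involution

A group with a central involution `t`, a subgroup of index two, and an element `t'` whose centraliser is a
perfect central extension of `PSU₆(2)` by `⟨t, t'⟩`.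
-/

set_option autoImplicit false
set_option linter.style.haveILetI false
set_option linter.unusedSectionVars false

namespace CfsgLib.Sporadic.LargeFischer

open Subgroup
open scoped commutatorElement

theorem mem_zpowers_two {G : Type*} [Group G] {a : G} (ha : a * a = 1) (x : G) :
    x ∈ Subgroup.zpowers a ↔ x = 1 ∨ x = a := by
  constructor
  · rintro ⟨i, rfl⟩
    rcases Int.even_or_odd i with ⟨j, rfl⟩ | ⟨j, rfl⟩
    · left
      show a ^ (j + j) = 1
      rw [← two_mul, zpow_mul, zpow_two, ha, one_zpow]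
    · right
      show a ^ (2 * j + 1) = a
      rw [zpow_add_one, zpow_mul, zpow_two, ha, one_zpow, one_mul]
  · rintro (rfl | rfl)
    · exact one_mem _
    · exact Subgroup.mem_zpowers _

theorem card_mulAut_fi22 : Nat.card (MulAut Cfsg.Spor.Fi22) = 2 * Nat.card Cfsg.Spor.Fi22 := by
  haveI := CosetCert.FiP.isSimple
  have hinj : Function.Injective (MulAut.conj : Cfsg.Spor.Fi22 →* MulAut Cfsg.Spor.Fi22) := by
    rw [← MonoidHom.ker_eq_bot_iff]
    refine ((MonoidHom.normal_ker _).eq_bot_or_eq_top).resolve_right fun e => ?_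
    have hc : ∀ a b : Cfsg.Spor.Fi22, a * b = b * a := fun a b => by
      have h1 : MulAut.conj a = 1 := MonoidHom.mem_ker.1 (e ▸ Subgroup.mem_top a)
      have h2 : a * b * a⁻¹ = b := congrArg (fun f : MulAut Cfsg.Spor.Fi22 => f b) h1
      exact mul_inv_eq_iff_eq_mul.1 h2
    letI : CommGroup Cfsg.Spor.Fi22 := { (inferInstance : Group Cfsg.Spor.Fi22) with mul_comm := hc }
    have hp := IsSimpleGroup.prime_card (α := Cfsg.Spor.Fi22)
    rw [CosetCert.FiP.card_eq.1] at hp
    norm_num at hp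
  have h1 := (Cfsg.Inn Cfsg.Spor.Fi22).card_mul_index
  have h2 : (Cfsg.Inn Cfsg.Spor.Fi22).index = 2 := CosetCert.FiP.OutFi22.card_out
  have h3 : Nat.card (Cfsg.Inn Cfsg.Spor.Fi22) = Nat.card Cfsg.Spor.Fi22 :=
    (Nat.card_congr (MonoidHom.ofInjective hinj).toEquiv).symm
  rw [h2, h3] at h1
  omega

variable {C : Type*} [Group C] [Finite C]

/-- The recognition. -/
theorem double_fi22 {t t' k : C} (hC : ∀ c : C, c * t = t * c) (htt : t * t = 1) (ht1 : t ≠ 1) (htt' : t' * t' = 1)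
    (ht'1 : t' ≠ 1) (ht'2 : t' ≠ t) (hX : Cfsg.IsQuasisimple ↥(Subgroup.centralizer ({t'} : Set C)))
    (K : Type) [Field K] [Fintype K] (hK : Fintype.card K = 4)
    (f : ↥(Subgroup.centralizer ({t'} : Set C)) →* Cfsg.PSU 6 K 2) (hf : Function.Surjective f)
    (hker : ∀ x : ↥(Subgroup.centralizer ({t'} : Set C)), f x = 1 ↔
      (x : C) = 1 ∨ (x : C) = t ∨ (x : C) = t' ∨ (x : C) = t * t')
    (K₀ : Subgroup C) (hidx : K₀.index = 2) (ht₀ : t ∈ K₀) (hk : k ∉ K₀) (hkt : k * t' * k⁻¹ = t * t')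
    (hfus : ∃ g ∈ K₀, Commute (g * t' * g⁻¹) t' ∧ g * t' * g⁻¹ ≠ t' ∧ g * t' * g⁻¹ ≠ t * t')
    (N : Subgroup C) [N.Normal] (hN : ∀ x, x ∈ N ↔ x = 1 ∨ x = t) :
    Cfsg.IsQuasisimple ↥K₀ ∧ Cfsg.generalizedFittingSubgroup C = K₀ ∧
      Nonempty (C ⧸ N ≃* MulAut Cfsg.Spor.Fi22) := by
  classical
  haveI hK₀n : K₀.Normal := Subgroup.normal_of_index_eq_two hidx
  let X : Subgroup C := Subgroup.centralizer ({t'} : Set C)
  have hXmem : ∀ {x : C}, x ∈ X ↔ x * t' = t' * x := fun {x} => Subgroup.mem_centralizer_singleton_iff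
  have ht'X : t' ∈ X := hXmem.2 rfl
  -- the centraliser lies in the subgroup of index two
  have hXK : X ≤ K₀ := by
    have h1 : commutator ↥X ≤ K₀.subgroupOf X := by
      rw [_root_.commutator_def, Subgroup.commutator_le]
      intro a _ b _
      rw [Subgroup.mem_subgroupOf]
      show (a : C) * b * (a : C)⁻¹ * (b : C)⁻¹ ∈ K₀
      rw [Subgroup.mul_mem_iff_of_index_two hidx, Subgroup.mul_mem_iff_of_index_two hidx,
        Subgroup.mul_mem_iff_of_index_two hidx, inv_mem_iff, inv_mem_iff]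
      tauto
    rw [Group.isPerfect_def.1 hX.1] at h1
    exact fun x hx => Subgroup.mem_subgroupOf.1 (h1 (Subgroup.mem_top (⟨x, hx⟩ : ↥X)))
  -- the quotient
  let mk : C →* C ⧸ N := QuotientGroup.mk' N
  have hmk : ∀ a b : C, mk a = mk b ↔ b = a ∨ b = a * t := fun a b => by
    rw [QuotientGroup.mk'_apply, QuotientGroup.mk'_apply, QuotientGroup.eq, hN, inv_mul_eq_iff_eq_mul,
      inv_mul_eq_iff_eq_mul, mul_one]
  set W₀ : Subgroup (C ⧸ N) := K₀.map mk with hW₀
  have hW₀n : W₀.Normal := hK₀n.map mk (QuotientGroup.mk'_surjective N)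
  let d : ↥W₀ := ⟨mk t', ⟨t', hXK ht'X, rfl⟩⟩
  have hswap : ∀ g : C, Commute (mk g) (mk t') ↔ g * t' * g⁻¹ = t' ∨ g * t' * g⁻¹ = t * t' := fun g => by
    have e : Commute (mk g) (mk t') ↔ mk t' = mk (g * t' * g⁻¹) := by
      rw [map_mul, map_mul, map_inv, eq_comm, mul_inv_eq_iff_eq_mul]
      exact Iff.rfl
    rw [e, hmk, ← hC t']
  let ι₀ : ↥X →* ↥W₀ := (mk.comp X.subtype).codRestrict W₀ fun x => ⟨x, hXK x.2, rfl⟩
  have hι₀ : ∀ x : ↥X, ι₀ x ∈ Subgroup.centralizer ({d} : Set ↥W₀) := fun x =>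
    Subgroup.mem_centralizer_singleton_iff.2 (Subtype.ext (((hswap x).2 (Or.inl
      (mul_inv_eq_iff_eq_mul.2 (hXmem.1 x.2)))).eq))
  let ι : ↥X →* ↥(Subgroup.centralizer ({d} : Set ↥W₀)) := ι₀.codRestrict _ hι₀
  have hιs : Function.Surjective ι := by
    rintro ⟨⟨_, g, hg, rfl⟩, hgc⟩
    have h1 : Commute (mk g) (mk t') := congrArg Subtype.val (Subgroup.mem_centralizer_singleton_iff.1 hgc)
    rcases (hswap g).1 h1 with e | e
    · exact ⟨⟨g, hXmem.2 (mul_inv_eq_iff_eq_mul.1 e)⟩, rfl⟩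
    · exfalso
      have h2 : k⁻¹ * g ∈ X := hXmem.2 (by
        calc k⁻¹ * g * t' = k⁻¹ * (g * t' * g⁻¹) * g := by group
          _ = k⁻¹ * (k * t' * k⁻¹) * g := by rw [e, hkt]
          _ = t' * (k⁻¹ * g) := by group)
      exact hk (inv_mem_iff.1 (((K₀.mul_mem_cancel_right hg).1 (hXK h2))))
  have hικ : ∀ x : ↥X, ι x = 1 ↔ (x : C) = 1 ∨ (x : C) = t := fun x => by
    rw [← hN, ← QuotientGroup.eq_one_iff (N := N)]
    exact ⟨fun e => congrArg (fun y : ↥(Subgroup.centralizer ({d} : Set ↥W₀)) => ((y : ↥W₀) : C ⧸ N)) e,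
      fun e => Subtype.ext (Subtype.ext e)⟩
  have hιne : ι.ker ≠ ⊤ := fun e => by
    have h1 : ι ⟨t', ht'X⟩ = 1 := MonoidHom.mem_ker.1 (e ▸ Subgroup.mem_top _)
    rcases (hικ _).1 h1 with h2 | h2
    · exact ht'1 h2
    · exact ht'2 h2
  have hqd : Cfsg.IsQuasisimple ↥(Subgroup.centralizer ({d} : Set ↥W₀)) :=
    Components.IsQuasisimple.of_mulEquiv (Components.IsQuasisimple.quotient hX ι.ker hιne)
      (QuotientGroup.quotientKerEquivOfSurjective ι hιs)
  have hd2 : orderOf d = 2 := orderOf_eq_prime (hp := ⟨Nat.prime_two⟩)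
    (Subtype.ext (by show mk t' ^ 2 = 1; rw [← map_pow, pow_two, htt', map_one]))
    fun e => by
      have h1 : mk 1 = mk t' := (map_one mk).trans (congrArg Subtype.val e).symm
      rw [hmk, one_mul] at h1
      rcases h1 with h1 | h1
      · exact ht'1 h1
      · exact ht'2 h1
  have hdd : d * d = 1 := by rw [← pow_two, ← hd2, pow_orderOf_eq_one]
  let χ : ↥(Subgroup.centralizer ({d} : Set ↥W₀)) →* Cfsg.PSU 6 K 2 :=
    MonoidHom.liftOfSurjective ι hιs ⟨f, fun x hx => (hker x).2 (((hικ x).1 hx).imp_right Or.inl)⟩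
  have hχ : ∀ x, χ (ι x) = f x := fun x => MonoidHom.liftOfRightInverse_comp_apply _ _ _ _ x
  have hχs : Function.Surjective χ := fun y => by
    obtain ⟨x, rfl⟩ := hf y
    exact ⟨ι x, hχ x⟩
  haveI hdn : ((Subgroup.zpowers d).subgroupOf (Subgroup.centralizer ({d} : Set ↥W₀))).Normal := ⟨by
    intro a ha b
    rw [Subgroup.mem_subgroupOf, mem_zpowers_two hdd] at ha ⊢
    rcases ha with e | e
    · left
      show (b : ↥W₀) * a * (b : ↥W₀)⁻¹ = 1
      rw [e, mul_one, mul_inv_cancel]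
    · right
      show (b : ↥W₀) * a * (b : ↥W₀)⁻¹ = d
      rw [e, Subgroup.mem_centralizer_singleton_iff.1 b.2, mul_inv_cancel_right]⟩
  have hχk : (Subgroup.zpowers d).subgroupOf (Subgroup.centralizer ({d} : Set ↥W₀)) = χ.ker := by
    ext y
    obtain ⟨x, rfl⟩ := hιs y
    rw [MonoidHom.mem_ker, hχ, hker, Subgroup.mem_subgroupOf, mem_zpowers_two hdd]
    have e1 : ((ι x : ↥W₀) = 1) ↔ (x : C) = 1 ∨ (x : C) = t := by
      rw [← hικ]; exact ⟨fun e => Subtype.ext e, fun e => congrArg Subtype.val e⟩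
    have e2 : ((ι x : ↥W₀) = d) ↔ (x : C) = t' ∨ (x : C) = t * t' := by
      rw [← hC t', eq_comm]
      exact ⟨fun e => (hmk _ _).1 (congrArg Subtype.val e), fun e => Subtype.ext ((hmk _ _).2 e)⟩
    rw [e1, e2, or_assoc]
  obtain ⟨g, hg, hgc, hg1, hg2⟩ := hfus
  obtain ⟨hD, hprim, ht, -⟩ := U62Centralizer.type_m22 d hd2 hqd K hK
    ((QuotientGroup.quotientMulEquivOfEq hχk).trans (QuotientGroup.quotientKerEquivOfSurjective χ hχs))
    ⟨⟨mk g, g, hg, rfl⟩, Subgroup.mem_centralizer_singleton_iff.2 (Subtype.ext (by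
        show mk g * mk t' * (mk g)⁻¹ * mk t' = mk t' * (mk g * mk t' * (mk g)⁻¹)
        rw [← map_inv, ← map_mul, ← map_mul, ← map_mul, ← map_mul, hgc.eq])),
      fun e => by
        have h1 : mk t' = mk (g * t' * g⁻¹) := by
          rw [map_mul, map_mul, map_inv]; exact (congrArg Subtype.val e).symm
        rw [hmk, hC t'] at h1
        rcases h1 with h1 | h1
        · exact hg1 h1
        · exact hg2 h1⟩
  obtain ⟨eF, -⟩ := FiTransfer.modelIso hD hprim ht
  haveI := CosetCert.FiP.isSimple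
  haveI hsimp : IsSimpleGroup ↥W₀ := eF.isSimpleGroup
  have hnc : ¬ ∀ a b : ↥W₀, a * b = b * a := fun hc => Components.IsQuasisimple.not_isMulCommutative hqd
    ⟨⟨fun a b => Subtype.ext (hc a b)⟩⟩
  have hcW : ∀ w : ↥W₀, (∀ v, v * w = w * v) → w = 1 := fun w hw => by
    have h1 := ((inferInstance : (Subgroup.center ↥W₀).Normal).eq_bot_or_eq_top).resolve_right fun e =>
      hnc fun a b => Subgroup.mem_center_iff.1 (e ▸ Subgroup.mem_top b : b ∈ Subgroup.center ↥W₀) a
    exact Subgroup.mem_bot.1 (h1 ▸ Subgroup.mem_center_iff.2 hw)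
  -- the conjugation action
  let act : C ⧸ N →* MulAut ↥W₀ := MulAut.conjNormal
  have hact : Function.Injective act := by
    refine (injective_iff_map_eq_one act).2 fun w hw => ?_
    obtain ⟨c, rfl⟩ := QuotientGroup.mk'_surjective N w
    have hc : ∀ x ∈ K₀, mk c * mk x = mk x * mk c := fun x hx => by
      have h1 : mk c * mk x * (mk c)⁻¹ = mk x :=
        congrArg Subtype.val (congrArg (fun e : MulAut ↥W₀ => e ⟨mk x, x, hx, rfl⟩) hw)
      exact mul_inv_eq_iff_eq_mul.1 h1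
    by_cases hcK : c ∈ K₀
    · exact congrArg Subtype.val (hcW (⟨mk c, c, hcK, rfl⟩ : ↥W₀) fun v => Subtype.ext (by
        obtain ⟨_, x, hx, rfl⟩ := v
        exact (hc x hx).symm))
    exfalso
    have hsame : ∀ x : ↥X, c * x * c⁻¹ = x ∨ c * x * c⁻¹ = x * t := fun x => by
      refine (hmk _ _).1 ?_
      rw [map_mul, map_mul, map_inv]
      exact (mul_inv_eq_iff_eq_mul.2 (hc x (hXK x.2))).symm
    let L : Subgroup ↥X := ((MulAut.conj c).toMonoidHom.comp X.subtype).eqLocus X.subtype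
    have hL : commutator ↥X ≤ L := by
      rw [_root_.commutator_def, Subgroup.commutator_le]
      intro a _ b _
      show c * ((a : C) * b * (a : C)⁻¹ * (b : C)⁻¹) * c⁻¹ = (a : C) * b * (a : C)⁻¹ * (b : C)⁻¹
      rw [show c * ((a : C) * b * (a : C)⁻¹ * (b : C)⁻¹) * c⁻¹ =
        (c * a * c⁻¹) * (c * b * c⁻¹) * (c * a * c⁻¹)⁻¹ * (c * b * c⁻¹)⁻¹ by group]
      have key : ∀ p q : C, p * t * q * (p * t)⁻¹ * q⁻¹ = p * q * p⁻¹ * q⁻¹ ∧
          p * (q * t) * p⁻¹ * (q * t)⁻¹ = p * q * p⁻¹ * q⁻¹ := fun p q => by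
        constructor
        · rw [show p * t * q * (p * t)⁻¹ = p * (t * q * t⁻¹) * p⁻¹ by group, ← hC q, mul_inv_cancel_right]
        · rw [show p * (q * t) * p⁻¹ * (q * t)⁻¹ = p * q * (t * p⁻¹ * t⁻¹) * q⁻¹ by group, ← hC p⁻¹,
            mul_inv_cancel_right]
      rcases hsame a with e | e <;> rcases hsame b with e' | e' <;> rw [e, e']
      · exact (key _ _).2
      · exact (key _ _).1
      · rw [(key _ _).1, (key _ _).2]
    rw [Group.isPerfect_def.1 hX.1] at hL
    have h1 : c * t' = t' * c := mul_inv_eq_iff_eq_mul.1 (hL (Subgroup.mem_top (⟨t', ht'X⟩ : ↥X)))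
    exact hcK (hXK (hXmem.2 h1))
  have hcard0 : Nat.card ↥W₀ = Nat.card Cfsg.Spor.Fi22 := Nat.card_congr eF.toEquiv
  have hWidx : W₀.index = 2 := by
    rw [hW₀, ← hidx]
    refine K₀.index_map_eq (QuotientGroup.mk'_surjective N) ?_
    rw [QuotientGroup.ker_mk']
    intro x hx
    rcases (hN x).1 hx with rfl | rfl
    · exact one_mem _
    · exact ht₀
  have hcard : Nat.card (C ⧸ N) = Nat.card (MulAut Cfsg.Spor.Fi22) := by
    rw [card_mulAut_fi22, ← W₀.card_mul_index, hWidx, hcard0, mul_comm]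
  have hiso : Nonempty (C ⧸ N ≃* MulAut Cfsg.Spor.Fi22) := by
    haveI : Finite (MulAut Cfsg.Spor.Fi22) := Nat.finite_of_card_ne_zero (hcard ▸ Nat.card_pos.ne')
    refine ⟨MulEquiv.ofBijective ((MulAut.congr eF).toMonoidHom.comp act)
      ((Nat.bijective_iff_injective_and_card _).2 ⟨(MulAut.congr eF).injective.comp hact, hcard⟩)⟩
  -- the subgroup of index two
  let p : ↥K₀ →* ↥W₀ := mk.subgroupMap K₀
  have hps : Function.Surjective p := MonoidHom.subgroupMap_surjective _ _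
  have hpk : ∀ x : ↥K₀, p x = 1 ↔ (x : C) = 1 ∨ (x : C) = t := fun x => by
    rw [← hN, ← QuotientGroup.eq_one_iff (N := N)]
    exact ⟨fun e => congrArg Subtype.val e, fun e => Subtype.ext e⟩
  have htX : t ∈ X := hXmem.2 (hC t').symm
  have htcomm : (⟨t, ht₀⟩ : ↥K₀) ∈ commutator ↥K₀ := by
    have h1 : (⟨t, htX⟩ : ↥X) ∈ commutator ↥X := Group.isPerfect_def.1 hX.1 ▸ Subgroup.mem_top _
    have h2 := Subgroup.map_mono (f := Subgroup.inclusion hXK)
      (show commutator ↥X ≤ commutator ↥X from le_rfl) (Subgroup.mem_map_of_mem _ h1)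
    rw [_root_.commutator_def, Subgroup.map_commutator] at h2
    rw [_root_.commutator_def]
    exact Subgroup.commutator_mono le_top le_top h2
  have hperfW : commutator ↥W₀ = ⊤ := ((inferInstance : (commutator ↥W₀).Normal).eq_bot_or_eq_top).resolve_left fun e =>
    hnc fun a b => commutatorElement_eq_one_iff_mul_comm.1 (Subgroup.mem_bot.1 (e ▸
      Subgroup.commutator_mem_commutator (Subgroup.mem_top a) (Subgroup.mem_top b) : ⁅a, b⁆ ∈ (⊥ : Subgroup ↥W₀)))
  have hperf : Group.IsPerfect ↥K₀ := by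
    rw [Group.isPerfect_def, eq_top_iff]
    intro x _
    obtain ⟨y, hy, hyx⟩ : p x ∈ (commutator ↥K₀).map p := by
      rw [_root_.commutator_def, Subgroup.map_commutator, Subgroup.map_top_of_surjective p hps,
        ← _root_.commutator_def, hperfW]
      trivial
    have h1 : p (y⁻¹ * x) = 1 := by rw [map_mul, map_inv, hyx, inv_mul_cancel]
    have h2 : y⁻¹ * x ∈ commutator ↥K₀ := by
      rcases (hpk _).1 h1 with e | e
      · rw [show y⁻¹ * x = 1 from Subtype.ext e]; exact one_mem _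
      · rw [show y⁻¹ * x = ⟨t, ht₀⟩ from Subtype.ext e]; exact htcomm
    simpa using mul_mem hy h2
  have hcen : Subgroup.center ↥K₀ = p.ker := by
    ext x
    rw [MonoidHom.mem_ker]
    constructor
    · intro hx
      refine hcW _ fun v => ?_
      obtain ⟨y, rfl⟩ := hps v
      rw [← map_mul, ← map_mul, Subgroup.mem_center_iff.1 hx y]
    · intro hx
      refine Subgroup.mem_center_iff.2 fun y => Subtype.ext ?_
      show (y : C) * x = x * y
      rcases (hpk x).1 hx with e | e <;> rw [e]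
      · rw [mul_one, one_mul]
      · exact hC y
  have hqK : Cfsg.IsQuasisimple ↥K₀ := ⟨hperf,
    ((QuotientGroup.quotientMulEquivOfEq hcen).trans
      (QuotientGroup.quotientKerEquivOfSurjective p hps)).isSimpleGroup⟩
  refine ⟨hqK, ?_, hiso⟩
  have hJ : Cfsg.IsComponent K₀ := ⟨Normal.isSubnormal inferInstance, hqK⟩
  have hcK : Subgroup.centralizer (K₀ : Set C) ≤ N := fun c hc => by
    rw [← QuotientGroup.eq_one_iff (N := N)]
    refine hact ((MulEquiv.ext fun v => Subtype.ext ?_).trans (map_one act).symm)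
    obtain ⟨_, x, hx, rfl⟩ := v
    show mk c * mk x * (mk c)⁻¹ = mk x
    rw [← map_mul, ← Subgroup.mem_centralizer_iff.1 hc x hx, map_mul, mul_inv_cancel_right]
  have hNK : N ≤ K₀ := fun x hx => by
    rcases (hN x).1 hx with rfl | rfl
    · exact one_mem _
    · exact ht₀
  refine le_antisymm (sup_le (Components.layer_le_iff.mpr fun M hM => ?_) ?_)
    ((Components.IsComponent.le_layer hJ).trans le_sup_left)
  · by_contra h
    have hMN := (Components.IsComponent.le_centralizer_of_ne hM hJ fun e => h e.le).trans hcK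
    exact h (hMN.trans hNK)
  · haveI : Group.IsNilpotent ↥(Cfsg.fittingSubgroup C) := Solvable.Cores.fittingSubgroup_isNilpotent
    have h := Components.IsComponent.commutator_solvable_eq_bot hJ (N := Cfsg.fittingSubgroup C)
      (by rw [Subgroup.normalizer_eq_top]; exact le_top)
    rw [Subgroup.commutator_comm, Subgroup.commutator_eq_bot_iff_le_centralizer] at h
    exact (h.trans hcK).trans hNK

end CfsgLib.Sporadic.LargeFischer
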