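import Cfsg.Agent.Lib.Sporadic.LargeFischer.NoncentralInvolution

/-!
# Groups of large Fischer type: reduction of the involution centraliser to one four-group
-/

set_option autoImplicit false
set_option linter.style.haveILetI false
set_option linter.unusedSectionVars false

namespace CfsgLib.Sporadic.LargeFischer.LF

variable {G : Type*} [Group G] [Finite G] {z : G} {Q : Subgroup (Subgroup.centralizer ({z} : Set G))} [Q.Normal]
  {π : G → V6} {ψ : ↥(Subgroup.centralizer ({z} : Set G)) →* (V6 ≃ₗ[ZMod 2] V6)} (h : LF z (qImg Q) π ψ)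
include h

/-- The centraliser of every involution of `Q` outside the class of `z`, given one four-group of lifts of the
multiples of a vector. -/
theorem of_four_group {g : G} (hu : g * z * g⁻¹ ∈ qImg Q) (hne : g * z * g⁻¹ ≠ z) (E : Subgroup G)
    (hEQ : E ≤ qImg Q) (hE : Cfsg.IsElementaryAbelian 2 E) (hE4 : Nat.card E = 4) (hzE : z ∉ E)
    (hline : ∃ w, w ∈ h.model.orb c2 ∧ ∀ a ∈ E, ∃ e : D4, π a = sc w e)
    (hX : Cfsg.IsQuasisimple ↥(Subgroup.centralizer (E : Set G)))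
    [(E.subgroupOf (Subgroup.centralizer (E : Set G))).Normal]
    (F : Type) [Field F] [Fintype F] (hF : Fintype.card F = 4)
    (iso : ↥(Subgroup.centralizer (E : Set G)) ⧸ E.subgroupOf (Subgroup.centralizer (E : Set G)) ≃* Cfsg.PSU 6 F 2)
    {t : G} (ht : t ∈ qImg Q) (ht2 : orderOf t = 2) (hnc : ¬ IsConj z t)
    [hn : ((Subgroup.zpowers t).subgroupOf (Subgroup.centralizer ({t} : Set G))).Normal] :
    Cfsg.IsQuasisimple ↥(Cfsg.generalizedFittingSubgroup ↥(Subgroup.centralizer ({t} : Set G))) ∧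
    (Cfsg.generalizedFittingSubgroup ↥(Subgroup.centralizer ({t} : Set G))).index = 2 ∧
    (∃ htc : t ∈ Subgroup.centralizer ({t} : Set G), (⟨t, htc⟩ : ↥(Subgroup.centralizer ({t} : Set G))) ∈
      Cfsg.generalizedFittingSubgroup ↥(Subgroup.centralizer ({t} : Set G))) ∧
    Nonempty (↥(Subgroup.centralizer ({t} : Set G)) ⧸
      (Subgroup.zpowers t).subgroupOf (Subgroup.centralizer ({t} : Set G)) ≃* MulAut Cfsg.Spor.Fi22) := by
  classical
  have htz : t ≠ z := fun e => hnc (e ▸ IsConj.refl z)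
  obtain ⟨hq, hv0⟩ := h.π_involution ht ht2 htz
  have htt : t * t = 1 := by rw [← pow_two, ← ht2, pow_orderOf_eq_one]
  have hv : π t ∈ h.model.orb c2 := by
    rcases h.model.two_orbits.2.2.2.1 _ hq hv0 with e | e
    · exact e ▸ h.model.self_mem _
    · exfalso
      obtain ⟨k, ⟨c, rfl⟩, hk⟩ := h.model.mem_orb.1 (show π t ∈ h.model.orb (π (g * z * g⁻¹)) by
        rw [h.fused_orbit hu hne, ← e]; exact h.model.self_mem _)
      obtain ⟨d, hd⟩ := h.conj_of_π hu ht hv0 c hk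
      exact hnc (isConj_iff.2 ⟨(d : G) * g, by rw [← hd]; group⟩)
  obtain ⟨w, hw, hline⟩ := hline
  have hw0 : w ≠ 0 := h.model.ne_zero_of_orb c2_facts.2.2.1 hw
  have hinj : ∀ a ∈ E, ∀ b ∈ E, π a = π b → b = a := fun a ha b hb e =>
    ((h.π_eq_iff (hEQ ha) (hEQ hb)).1 e).resolve_right fun e' => hzE (by
      rw [show z = a⁻¹ * b by rw [e', inv_mul_cancel_left]]; exact mul_mem (inv_mem ha) hb)
  have hsurj : ∀ e : D4, ∃ a ∈ E, π a = sc w e := by
    let μ : E → D4 := fun a => (hline a a.2).choose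
    have hμ : ∀ a : E, π a = sc w (μ a) := fun a => (hline a a.2).choose_spec
    have hb : Function.Bijective μ := (Nat.bijective_iff_injective_and_card μ).2
      ⟨fun a b e => Subtype.ext (hinj _ a.2 _ b.2 (by rw [hμ, hμ, e])).symm, by
        rw [hE4, Nat.card_eq_fintype_card]; rfl⟩
    intro e
    obtain ⟨a, rfl⟩ := hb.2 e
    exact ⟨a, a.2, hμ a⟩
  obtain ⟨a₀, ha₀, hπa₀⟩ := hsurj (1, 0)
  rw [sc_one] at hπa₀
  obtain ⟨a₁, ha₁, hπa₁⟩ := hsurj (0, 1)
  rw [sc_om] at hπa₁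
  have hall : ∀ b ∈ E, b = 1 ∨ b = a₀ ∨ b = a₁ ∨ b = a₀ * a₁ := by
    intro b hb
    obtain ⟨⟨e1, e2⟩, he⟩ := hline b hb
    rcases z2 e1 with rfl | rfl <;> rcases z2 e2 with rfl | rfl
    · exact Or.inl (hinj 1 (one_mem _) b hb (by rw [he, h.π_one]; exact (sc_zero w).symm))
    · exact Or.inr (Or.inr (Or.inl (hinj a₁ ha₁ b hb (by rw [he, hπa₁, sc_om]))))
    · exact Or.inr (Or.inl (hinj a₀ ha₀ b hb (by rw [he, hπa₀, sc_one])))
    · exact Or.inr (Or.inr (Or.inr (hinj _ (mul_mem ha₀ ha₁) b hb (by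
        rw [he, h.π_mul _ (hEQ ha₀) _ (hEQ ha₁), hπa₀, hπa₁, sc, one_smul, one_smul]))))
  have hsq : ∀ a ∈ E, a * a = 1 := fun a ha => by rw [← pow_two]; exact hE.2 a ha
  obtain ⟨k, ⟨c, rfl⟩, hk⟩ := h.model.mem_orb.1 (show π t ∈ h.model.orb w by rw [h.model.orb_eq hw]; exact hv)
  obtain ⟨d, hd⟩ := h.conj_of_π (hEQ ha₀) ht hv0 c (by rw [hπa₀, hk])
  have hψd : ψ d w = π t := by rw [← hπa₀, ← h.act d a₀ (hEQ ha₀), hd]
  obtain ⟨a, ha, hπa, hgen⟩ : ∃ a ∈ E, π ((d : G) * a * (d : G)⁻¹) = omV (π t) ∧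
      ∀ b ∈ E, b = 1 ∨ b = a₀ ∨ b = a ∨ b = a₀ * a := by
    rcases h.model.scal _ ⟨d, rfl⟩ with e | e
    · exact ⟨a₁, ha₁, by rw [(h.π_conj d (hEQ ha₁)).2, hπa₁, e, hψd], hall⟩
    · refine ⟨a₀ * a₁, mul_mem ha₀ ha₁, ?_, fun b hb => ?_⟩
      · rw [(h.π_conj d (mul_mem (hEQ ha₀) (hEQ ha₁))).2, h.π_mul _ (hEQ ha₀) _ (hEQ ha₁), map_add, hπa₀, hπa₁, e,
          hψd, omV_sq, ← add_assoc, two_V6, zero_add]
      · have e' : a₀ * (a₀ * a₁) = a₁ := by rw [← mul_assoc, hsq _ ha₀, one_mul]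
        rw [e']
        exact (hall b hb).imp_right (Or.imp_right Or.symm)
  have hXiff : ∀ x : G, x ∈ Subgroup.centralizer (E : Set G) ↔ x * a₀ = a₀ * x ∧ x * a = a * x := fun x =>
    Subgroup.mem_centralizer_iff.trans ⟨fun hx => ⟨(hx a₀ ha₀).symm, (hx a ha).symm⟩, fun ⟨h1, h2⟩ b hb => by
      rcases hgen b hb with rfl | rfl | rfl | rfl
      · rw [one_mul, mul_one]
      · exact h1.symm
      · exact h2.symm
      · exact ((show Commute x a₀ from h1).mul_right h2).eq.symm⟩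
  set t' := (d : G) * a * (d : G)⁻¹ with ht'def
  have ht'Q : t' ∈ qImg Q := h.norm d (Subgroup.mem_centralizer_singleton_iff.1 d.2) a (hEQ ha)
  have htt' : t' * t' = 1 := by
    rw [ht'def, show (d : G) * a * (d : G)⁻¹ * ((d : G) * a * (d : G)⁻¹) = (d : G) * (a * a) * (d : G)⁻¹ by group,
      hsq a ha, mul_one, mul_inv_cancel]
  have hT : ∀ x : G, x ∈ Subgroup.centralizer ({t, t'} : Set G) ↔ (d : G)⁻¹ * x * d ∈ Subgroup.centralizer (E : Set G) := by
    intro x
    have e1 : ∀ b : G, Commute ((d : G)⁻¹ * x * d) b ↔ Commute x ((d : G) * b * (d : G)⁻¹) := fun b => by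
      rw [← Commute.conj_iff (d : G)]
      simp [mul_assoc]
    rw [hXiff, Subgroup.mem_centralizer_iff]
    constructor
    · intro hx
      exact ⟨((e1 a₀).2 (hd.symm ▸ (hx t (by simp)).symm)).eq, ((e1 a).2 (hx t' (by simp)).symm).eq⟩
    · rintro ⟨h1, h2⟩ y (rfl | rfl)
      · exact (hd ▸ ((e1 a₀).1 h1) : Commute x y).eq.symm
      · exact ((e1 a).1 h2).eq.symm
  let eX : ↥(Subgroup.centralizer ({t, t'} : Set G)) ≃* ↥(Subgroup.centralizer (E : Set G)) :=
    { toFun := fun x => ⟨(d : G)⁻¹ * x * d, (hT x).1 x.2⟩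
      invFun := fun x => ⟨(d : G) * x * (d : G)⁻¹, (hT _).2 (by simpa [mul_assoc] using x.2)⟩
      left_inv := fun x => Subtype.ext (by simp [mul_assoc])
      right_inv := fun x => Subtype.ext (by simp [mul_assoc])
      map_mul' := fun x y => Subtype.ext (by simp [mul_assoc]) }
  refine h.involution_centralizer hu hne ht ht'Q htt htt' hv hπa hnc
    (Components.IsQuasisimple.of_mulEquiv hX eX.symm) F hF
    ((iso.toMonoidHom.comp (QuotientGroup.mk' _)).comp eX.toMonoidHom)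
    (iso.surjective.comp ((QuotientGroup.mk'_surjective _).comp eX.surjective)) fun x => ?_
  show iso (QuotientGroup.mk (eX x)) = 1 ↔ _
  rw [MulEquiv.map_eq_one_iff, QuotientGroup.eq_one_iff, Subgroup.mem_subgroupOf]
  show (d : G)⁻¹ * (x : G) * d ∈ E ↔ _
  have hback : ∀ b : G, (d : G)⁻¹ * (x : G) * d = b ↔ (x : G) = (d : G) * b * (d : G)⁻¹ := fun b => by
    constructor <;> intro e
    · rw [← e]; group
    · rw [e]; group
  constructor
  · intro hx
    rcases hgen _ hx with e | e | e | e <;> rw [hback] at e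
    · left; rw [e]; group
    · exact Or.inr (Or.inl (e.trans hd))
    · exact Or.inr (Or.inr (Or.inl e))
    · refine Or.inr (Or.inr (Or.inr ?_))
      rw [e, ← hd, ht'def]; group
  · rintro (e | e | e | e)
    · rw [(hback 1).2 (by rw [e]; group)]; exact one_mem _
    · rw [(hback a₀).2 (e.trans hd.symm)]; exact ha₀
    · rw [(hback a).2 e]; exact ha
    · rw [(hback (a₀ * a)).2 (by rw [e, ← hd, ht'def]; group)]; exact mul_mem ha₀ ha

end CfsgLib.Sporadic.LargeFischer.LF
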