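import Cfsg.Agent.Lib.Sporadic.LargeFischer.Coord

/-!
# The singular subgroup and the elementary group attached to a vector of weight four
-/

set_option autoImplicit false
set_option linter.unusedSectionVars false

namespace CfsgLib.Sporadic.LargeFischer

/-- A multiple of a vector by a scalar in the field with four elements. -/
def sc (v : V6) (a : D4) : V6 := a.1 • v + a.2 • omV v

theorem z2 : ∀ c : ZMod 2, c = 0 ∨ c = 1 := by decide

theorem two_V6 (u : V6) : u + u = 0 := funext fun i => CharTwo.add_self_eq_zero _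

theorem eq_of_add_zero {a b : V6} (e : a + b = 0) : a = b :=
  funext fun i => CharTwo.add_eq_zero.1 (congrFun e i)

theorem om_add : ∀ a b : D4, om (a + b) = om a + om b := by decide

theorem omV_add (u w : V6) : omV (u + w) = omV u + omV w := funext fun i => om_add _ _

theorem omV_zero : omV 0 = 0 := by decide

theorem omV_smul (c : ZMod 2) (u : V6) : omV (c • u) = c • omV u := by
  rcases z2 c with rfl | rfl
  · rw [zero_smul, zero_smul, omV_zero]
  · rw [one_smul, one_smul]

theorem om_sq : ∀ a : D4, om (om a) = a + om a := by decide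

theorem omV_sq (u : V6) : omV (omV u) = u + omV u := funext fun i => om_sq _

theorem omV_cube (u : V6) : omV (omV (omV u)) = u := funext fun i => (omV_om (u i)).2.1

theorem omV_inj {u w : V6} (e : omV u = omV w) : u = w := by rw [← omV_cube u, e, omV_cube]

theorem bs_add_left (u u' w : V6) : bs (u + u') w = bs u w + bs u' w := by
  rw [bs_comm, bs_add, bs_comm w u, bs_comm w u']

theorem bs_zero_right (u : V6) : bs u 0 = 0 := by rw [bs_comm, bs_zero_left]

theorem bs_smul_left (c : ZMod 2) (u w : V6) : bs (c • u) w = c * bs u w := by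
  rcases z2 c with rfl | rfl
  · rw [zero_smul, zero_mul, bs_zero_left]
  · rw [one_smul, one_mul]

theorem bs_smul_right (c : ZMod 2) (u w : V6) : bs w (c • u) = c * bs w u := by
  rw [bs_comm, bs_smul_left, bs_comm u]

theorem bs_self (u : V6) : bs u u = 0 := by
  show qs (u + u) + qs u + qs u = 0
  rw [two_V6, show qs 0 = 0 by decide, zero_add, CharTwo.add_self_eq_zero]

theorem bs_om_self (u : V6) : bs u (omV u) = qs u := by
  show qs (u + omV u) + qs u + qs (omV u) = qs u
  rw [← omV_sq, qs_omV, qs_omV]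
  generalize qs u = c
  revert c; decide

theorem bs_omV (u w : V6) : bs (omV u) (omV w) = bs u w := by
  show qs _ + qs _ + qs _ = qs _ + qs _ + qs _
  rw [← omV_add, qs_omV, qs_omV, qs_omV]

theorem bs_om_swap (u w : V6) : bs (omV u) w = bs u w + bs u (omV w) := by
  have e : omV (w + omV w) = w := by rw [omV_add, omV_sq, add_left_comm, two_V6, add_zero]
  conv_lhs => rw [← e]
  rw [bs_omV, bs_add]

theorem sc_add (v : V6) (a b : D4) : sc v (a + b) = sc v a + sc v b := by
  simp only [sc, Prod.fst_add, Prod.snd_add, add_smul]; abel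

theorem sc_one (v : V6) : sc v (1, 0) = v := by simp [sc]

theorem sc_om (v : V6) : sc v (0, 1) = omV v := by simp [sc]

theorem sc_zero (v : V6) : sc v 0 = 0 := by simp [sc]

theorem omV_sc (v : V6) (a : D4) : omV (sc v a) = sc v (om a) := by
  simp only [sc, om, omV_add, omV_smul, omV_sq, smul_add, add_smul]; abel

theorem cst_eq : ∀ a : D4, cst a = sc one6 a := by decide

/-- Rescaling of the coordinates. -/
def phaseEquiv (a : Fin 6 → ZMod 3) : V6 ≃ₗ[ZMod 2] V6 where
  toFun v i := omp (a i) (v i)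
  invFun v i := omp (-a i) (v i)
  map_add' u w := funext fun i => omp_linear _ _ _
  map_smul' c u := by
    rcases z2 c with rfl | rfl
    · simp only [zero_smul, RingHom.id_apply]
      exact funext fun i => (omp_spec _ (0 : D4)).1
    · simp only [one_smul, RingHom.id_apply]
  left_inv v := funext fun i => by simp only [omp_add, neg_add_cancel]; rfl
  right_inv v := funext fun i => by simp only [omp_add, add_neg_cancel]; rfl

theorem nzd_omp : ∀ (j : ZMod 3) (d : D4), nzd (omp j d) = nzd d := by decide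

theorem omp_om : ∀ (j : ZMod 3) (d : D4), omp j (om d) = om (omp j d) := by decide

theorem omp_nil : ∀ d : D4, omp 0 d = d := fun _ => rfl

/-- The coordinates adapted to a vector in the orbit of the vectors of weight four. -/
theorem exists_theta {K : Subgroup (V6 ≃ₗ[ZMod 2] V6)} (h : Model K) {v : V6} (hv : v ∈ h.orb c4) :
    ∃ θ : V6 ≃ₗ[ZMod 2] V6, θ one6 = v ∧ (∀ w, qs (θ w) = qs w) ∧
      ((∀ w, θ (omV w) = omV (θ w)) ∨ ∀ w, θ (omV w) = omV (omV (θ w))) ∧
      ∀ p : Equiv.Perm (Fin 6), p ∈ alternatingGroup (Fin 6) → ∃ g ∈ K, g v = v ∧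
        (∀ w, g (omV w) = omV (g w)) ∧ ∀ w, g (θ w) = θ (fun i => w (p.symm i)) := by
  obtain ⟨k, hk⟩ := h.two_orbits.2.2.2.2
  obtain ⟨d, hd, hdv⟩ := h.mem_orb.1 (hk.symm ▸ hv : v ∈ h.orb (c6 k))
  have h1 : phaseEquiv (phase0 k) one6 = c6 k := funext fun i => (c6_comp k i).symm
  refine ⟨(phaseEquiv (phase0 k)).trans d, by rw [LinearEquiv.trans_apply, h1, hdv], fun w => ?_, ?_, fun p hp => ?_⟩
  · rw [LinearEquiv.trans_apply, h.quad d hd]
    exact Finset.sum_congr rfl fun i _ => nzd_omp _ _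
  · have hc : ∀ w, phaseEquiv (phase0 k) (omV w) = omV (phaseEquiv (phase0 k) w) := fun w =>
      funext fun i => omp_om _ _
    exact (h.scal d hd).imp (fun e w => by rw [LinearEquiv.trans_apply, hc, e]; rfl)
      fun e w => by rw [LinearEquiv.trans_apply, hc, e]; rfl
  · refine ⟨d * twistPerm k ⟨p, hp⟩ * d⁻¹, mul_mem (mul_mem hd (twistPerm_mem h k _)) (inv_mem hd), ?_, fun w => ?_, fun w => ?_⟩
    · show d (twistPerm k _ (d.symm v)) = v
      rw [← hdv, d.symm_apply_apply, twistPerm_fix]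
    · have ht : ∀ w, twistPerm k ⟨p, hp⟩ (omV w) = omV (twistPerm k ⟨p, hp⟩ w) := fun w => funext fun i => by
        rw [twistPerm_apply]
        show omp _ (om _) = om (twistPerm k ⟨p, hp⟩ w i)
        rw [twistPerm_apply, omp_om]
      show d (twistPerm k _ (d.symm (omV w))) = omV (d (twistPerm k _ (d.symm w)))
      rcases h.scal d hd with e | e
      · have e' : d.symm (omV w) = omV (d.symm w) := d.injective (by rw [d.apply_symm_apply, e, d.apply_symm_apply])
        rw [e', ht, e]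
      · have e' : d.symm (omV w) = omV (omV (d.symm w)) := d.injective (by
          rw [d.apply_symm_apply, e, e, d.apply_symm_apply, omV_cube])
        rw [e', ht, ht, e, e, omV_cube]
    · show d (twistPerm k _ (d.symm (d (phaseEquiv (phase0 k) w)))) = d (phaseEquiv (phase0 k) fun i => w (p.symm i))
      rw [d.symm_apply_apply]
      refine congrArg d (funext fun i => ?_)
      rw [twistPerm_apply]
      show omp _ (omp _ _) = omp _ _
      rw [omp_add, add_assoc, neg_add_cancel, add_zero]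

theorem weight_facts : qs (![(1, 0), (1, 0), (1, 0), 0, (1, 0), 0] : V6) = 0 ∧
    wt (![(1, 0), (1, 0), (1, 0), 0, (1, 0), 0] : V6) = 4 ∧
    wt ((![(1, 0), (1, 0), (1, 0), 0, (1, 0), 0] : V6) + c4) = 2 ∧
    (∀ a, bs (sc c4 a) ![(1, 0), (1, 0), (1, 0), 0, (1, 0), 0] = 0 → a = 0 ∨ a = (1, 0)) ∧
    (∀ a, bs (sc c4 a) ![(1, 0), (1, 0), (1, 0), 0, (1, 0), 0] = 0 →
      bs (sc c4 a) (omV ![(1, 0), (1, 0), (1, 0), 0, (1, 0), 0]) = 0 → a = 0) := by
  decide +kernel

/-- No element commuting with the scalars moves everything by multiples of a vector of that orbit. -/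
theorem no_transvection {K : Subgroup (V6 ≃ₗ[ZMod 2] V6)} (h : Model K) {v : V6} (hv : v ∈ h.orb c4)
    {e : V6 ≃ₗ[ZMod 2] V6} (he : e ∈ K) (hlin : ∀ w, e (omV w) = omV (e w))
    (hline : ∀ u, ∃ a, e u + u = sc v a) : e = 1 := by
  obtain ⟨d₀, hd₀, hd₀v⟩ := h.mem_orb.1 hv
  have hsc : ∀ a, ∃ a', d₀.symm (sc v a) = sc c4 a' := by
    intro a
    have h1 : d₀.symm v = c4 := by rw [← hd₀v, d₀.symm_apply_apply]
    have h2 : ∃ a', d₀.symm (omV v) = sc c4 a' := by
      rcases h.scal _ (inv_mem hd₀) with e1 | e1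
      · exact ⟨(0, 1), by rw [sc_om, ← h1]; exact e1 v⟩
      · exact ⟨om (0, 1), by rw [← omV_sc, sc_om, ← h1]; exact e1 v⟩
    obtain ⟨a', ha'⟩ := h2
    refine ⟨a.1 • (1, 0) + a.2 • a', ?_⟩
    rw [sc, map_add, map_smul, map_smul, h1, ha', sc_add]
    congr 1 <;> [skip; skip]
    · rcases z2 a.1 with e1 | e1 <;> rw [e1] <;> simp [sc_zero, sc_one]
    · rcases z2 a.2 with e1 | e1 <;> rw [e1] <;> simp [sc_zero]
  set f := d₀⁻¹ * e * d₀ with hf
  have hfK : f ∈ K := mul_mem (mul_mem (inv_mem hd₀) he) hd₀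
  have hfl : ∀ w, f (omV w) = omV (f w) := fun w => by
    show d₀.symm (e (d₀ (omV w))) = omV (d₀.symm (e (d₀ w)))
    rcases h.scal d₀ hd₀ with e1 | e1
    · rw [e1, hlin]
      exact d₀.injective (by rw [d₀.apply_symm_apply, e1, d₀.apply_symm_apply])
    · rw [e1, hlin, hlin]
      exact d₀.injective (by rw [d₀.apply_symm_apply, e1, d₀.apply_symm_apply])
  have hfline : ∀ u, ∃ a, f u = u + sc c4 a := fun u => by
    obtain ⟨a, ha⟩ := hline (d₀ u)
    obtain ⟨a', ha'⟩ := hsc a
    refine ⟨a', ?_⟩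
    rw [← ha', ← ha, map_add, d₀.symm_apply_apply]
    show f u = u + (f u + u)
    rw [add_comm (f u), ← add_assoc, two_V6, zero_add]
  obtain ⟨hb, hwt, hwt', hA, hB⟩ := weight_facts
  set b : V6 := ![(1, 0), (1, 0), (1, 0), 0, (1, 0), 0]
  obtain ⟨a, ha⟩ := hfline b
  have hbb : bs (sc c4 a) b = 0 := by
    have h1 := h.quad f hfK b
    rw [ha] at h1
    show qs (sc c4 a + b) + qs (sc c4 a) + qs b = 0
    rw [add_comm (sc c4 a), h1, hb, show ∀ a, qs (sc c4 a) = 0 by decide]; rfl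
  have hfb : f b = b := by
    rcases hA a hbb with rfl | rfl
    · rw [ha, sc_zero, add_zero]
    · exfalso
      rw [sc_one] at ha
      have h4 := h.canon_four hwt
      have h2 := h.canon_two hwt'
      have hm : b + c4 ∈ h.orb b := h.mem_orb.2 ⟨f, hfK, ha⟩
      exact h.two_orbits.1 (h2.symm.trans ((h.orb_eq hm).trans h4))
  have hf1 : f = 1 := LinearEquiv.ext fun u => by
    obtain ⟨a, ha⟩ := hfline u
    have key : ∀ w, f w = w → bs (sc c4 a) w = 0 := fun w hw => by
      have h1 := h.bs_map hfK u w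
      rw [hw, ha, bs_add_left] at h1
      exact add_eq_left.1 h1
    rw [ha, hB a (key b hfb) (key _ (by rw [hfl, hfb])), sc_zero, add_zero]
    rfl
  rwa [hf, mul_assoc, inv_mul_eq_one, eq_comm, mul_eq_right] at hf1

/-- A vector with its stabilised singular subgroup and elementary group. -/
structure Pair {K : Subgroup (V6 ≃ₗ[ZMod 2] V6)} (h : Model K) (v : V6) (R : AddSubgroup V6)
    (E : Subgroup (V6 ≃ₗ[ZMod 2] V6)) : Prop where
  orbit : v ∈ h.orb c4
  sing : ∀ r ∈ R, qs r = 0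
  cardR : Nat.card R = 64
  v_mem : v ∈ R
  inv : ∀ g ∈ K, g v = v → ∀ r ∈ R, g r ∈ R
  E_le : E ≤ K
  E_fix : ∀ e ∈ E, e v = v
  E_act : ∀ e ∈ E, ∀ r ∈ R, e r = r ∨ e r = r + v
  cardE : Nat.card E = 32

/-- The part of `E` commuting with the scalars. -/
def linPart (E : Subgroup (V6 ≃ₗ[ZMod 2] V6)) : Subgroup (V6 ≃ₗ[ZMod 2] V6) where
  carrier := {e | e ∈ E ∧ ∀ w, e (omV w) = omV (e w)}
  one_mem' := ⟨one_mem _, fun _ => rfl⟩
  mul_mem' := fun {a b} ha hb => ⟨mul_mem ha.1 hb.1, fun w => by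
    show a (b (omV w)) = omV (a (b w))
    rw [hb.2, ha.2]⟩
  inv_mem' := fun {a} ha => ⟨inv_mem ha.1, fun w => a.injective (by
    show a (a.symm (omV w)) = a (omV (a.symm w))
    rw [a.apply_symm_apply, ha.2, a.apply_symm_apply])⟩

namespace Pair

variable {K : Subgroup (V6 ≃ₗ[ZMod 2] V6)} {h : Model K} {v : V6} {R : AddSubgroup V6}
  {E : Subgroup (V6 ≃ₗ[ZMod 2] V6)} (P : Pair h v R E)
include P

theorem v_ne : v ≠ 0 := h.ne_zero_of_orb (by decide) P.orbit

theorem bs_R {r r' : V6} (hr : r ∈ R) (hr' : r' ∈ R) : bs r r' = 0 := by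
  show qs (r + r') + qs r + qs r' = 0
  rw [P.sing _ (add_mem hr hr'), P.sing _ hr, P.sing _ hr']; rfl

theorem perp {u : V6} (hu : ∀ r ∈ R, bs u r = 0) : u ∈ R := perp_mem R P.sing P.cardR hu

/-- Elements of `R` whose multiples lie in `R` are multiples of `v`. -/
theorem line_of_both {r : V6} (hr : r ∈ R) (hr' : omV r ∈ R) : ∃ a, r = sc v a := by
  obtain ⟨θ, hθv, hθq, hθom, hθp⟩ := exists_theta h P.orbit
  have hθb : ∀ u w, bs (θ u) (θ w) = bs u w := fun u w => by
    show qs _ + qs _ + qs _ = qs _ + qs _ + qs _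
    rw [← map_add, hθq, hθq, hθq]
  obtain ⟨r₀, rfl⟩ := θ.surjective r
  have hr2 : omV (omV (θ r₀)) ∈ R := by rw [omV_sq]; exact add_mem hr hr'
  have hom : θ (omV r₀) ∈ R := by
    rcases hθom with e | e <;> rw [e] <;> assumption
  have himg : ∀ (w : V6) (l : Fin 7), θ w ∈ R → θ (fun i => w (seven l i)) ∈ R := fun w l hw => by
    obtain ⟨g, hg, hgv, -, hgθ⟩ := hθp (seven l)⁻¹ (inv_mem (seven_mem l))
    have := P.inv g hg hgv _ hw
    rwa [hgθ] at this
  have hperp : bs r₀ (omV one6) = 0 := by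
    have h1 : bs r₀ one6 = 0 := by rw [← hθb, hθv]; exact P.bs_R hr P.v_mem
    have h2 : bs (omV r₀) one6 = 0 := by rw [← hθb, hθv]; exact P.bs_R hom P.v_mem
    rwa [bs_om_swap, h1, zero_add] at h2
  obtain ⟨a, ha⟩ := proportional r₀ (by rw [← hθq]; exact P.sing _ hr)
    (by rw [← hθb, hθv]; exact P.bs_R hr P.v_mem) hperp
    (fun l => by rw [← hθb]; exact P.bs_R hr (himg r₀ l hr))
    (fun l => by rw [← hθb]; exact P.bs_R hr (himg (omV r₀) l hom))
  rw [ha, cst_eq, sc, map_add, map_smul, map_smul, hθv]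
  rcases hθom with e | e <;> rw [e, hθv]
  · exact ⟨a, rfl⟩
  · exact ⟨(a.1 + a.2, a.2), by rw [omV_sq, smul_add, sc, add_smul, add_assoc]⟩

/-- The linear part acts faithfully on `R`. -/
theorem lin_eq_one {e : V6 ≃ₗ[ZMod 2] V6} (he : e ∈ linPart E) (hfix : ∀ r ∈ R, e r = r) : e = 1 := by
  have hy : ∀ u, e u + u ∈ R := fun u => P.perp fun r hr => by
    have h1 := h.bs_map (P.E_le he.1) u r
    rw [hfix r hr] at h1
    rw [bs_add_left, h1, CharTwo.add_self_eq_zero]
  refine no_transvection h P.orbit (P.E_le he.1) he.2 fun u => P.line_of_both (hy u) ?_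
  rw [omV_add, ← he.2]
  exact hy _

theorem lin_ext {e e' : V6 ≃ₗ[ZMod 2] V6} (he : e ∈ linPart E) (he' : e' ∈ linPart E)
    (hfix : ∀ r ∈ R, e r = e' r) : e = e' :=
  inv_mul_eq_one.1 (P.lin_eq_one (mul_mem (inv_mem he) he') fun r hr => by
    show e.symm (e' r) = r
    rw [← hfix r hr, e.symm_apply_apply])

theorem card_linPart : 16 ≤ Nat.card (linPart E) := by
  classical
  by_contra hlt
  push Not at hlt
  have hle : linPart E ≤ E := fun e he => he.1
  have hi : ((linPart E).subgroupOf E).index ≤ 2 := by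
    by_cases hall : ∀ b : E, b ∈ (linPart E).subgroupOf E
    · rw [(Subgroup.eq_top_iff' _).2 hall, Subgroup.index_top]; norm_num
    · push Not at hall
      obtain ⟨a, ha⟩ := hall
      have hsw : ∀ b : E, b ∉ (linPart E).subgroupOf E → ∀ w, (b : V6 ≃ₗ[ZMod 2] V6) (omV w) =
          omV (omV ((b : V6 ≃ₗ[ZMod 2] V6) w)) := fun b hb =>
        (h.scal _ (P.E_le b.2)).resolve_left fun e => hb ⟨b.2, e⟩
      have hnot : ∀ b : E, (∀ w, (b : V6 ≃ₗ[ZMod 2] V6) (omV w) = omV (omV ((b : V6 ≃ₗ[ZMod 2] V6) w))) →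
          b ∉ (linPart E).subgroupOf E := fun b hb hm => by
        have h2 : ∀ w, (b : V6 ≃ₗ[ZMod 2] V6) (omV w) = omV ((b : V6 ≃ₗ[ZMod 2] V6) w) := hm.2
        refine P.v_ne (omV_inj (omV_inj ?_))
        have e1 := (hb v).symm.trans (h2 v)
        rw [P.E_fix _ b.2] at e1
        rw [omV_zero, omV_zero, e1]
        have e2 : omV v = 0 := by
          have e3 := omV_inj e1
          rw [omV_sq] at e1
          exact (omV_zero ▸ congrArg omV ((add_eq_right.1 e1)) : omV v = 0)
        exact e2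
      refine le_of_eq (Subgroup.index_eq_two_iff.2 ⟨a, fun b => ?_⟩)
      by_cases hb : b ∈ (linPart E).subgroupOf E
      · refine Or.inr ⟨hb, hnot _ fun w => ?_⟩
        have h2 : ∀ w, (b : V6 ≃ₗ[ZMod 2] V6) (omV w) = omV ((b : V6 ≃ₗ[ZMod 2] V6) w) := hb.2
        show (b : V6 ≃ₗ[ZMod 2] V6) ((a : V6 ≃ₗ[ZMod 2] V6) (omV w)) = _
        rw [hsw a ha, h2, h2]; rfl
      · refine Or.inl ⟨⟨(b * a).2, fun w => ?_⟩, hb⟩
        show (b : V6 ≃ₗ[ZMod 2] V6) ((a : V6 ≃ₗ[ZMod 2] V6) (omV w)) = _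
        rw [hsw a ha, hsw b hb, hsw b hb, omV_cube]; rfl
  have h1 := ((linPart E).subgroupOf E).card_mul_index
  rw [Nat.card_congr (Subgroup.subgroupOfEquivOfLe hle).toEquiv, P.cardE] at h1
  nlinarith

/-- `R` contains the scalar multiples of `v`. -/
theorem omv_mem : omV v ∈ R := by
  classical
  refine P.perp fun r₀ hr₀ => ?_
  rw [bs_comm]
  by_contra hne
  have h0 : bs r₀ (omV v) = 1 := (z2 _).resolve_left hne
  have hbad := P.card_linPart
  have key : ∀ e ∈ linPart E, ∀ r ∈ R, e r = r + ((if e r₀ = r₀ then 0 else 1) * bs (omV r) v) • v := by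
    intro e he r hr
    have hbs := h.bs_map (P.E_le he.1) (omV r) r₀
    rw [he.2] at hbs
    have ef : ∀ r ∈ R, ∃ c : ZMod 2, e r = r + c • v := fun r hr => by
      rcases P.E_act e he.1 r hr with e1 | e1
      · exact ⟨0, by rw [e1, zero_smul, add_zero]⟩
      · exact ⟨1, by rw [e1, one_smul]⟩
    obtain ⟨c, hc⟩ := ef r hr
    obtain ⟨c₀, hc₀⟩ := ef r₀ hr₀
    have hif : (if e r₀ = r₀ then (0 : ZMod 2) else 1) = c₀ := by
      rcases z2 c₀ with rfl | rfl
      · rw [if_pos (by rw [hc₀, zero_smul, add_zero])]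
      · rw [if_neg fun e1 => P.v_ne (by rw [hc₀, one_smul] at e1; exact add_eq_left.1 e1)]
    rw [hc, hc₀, omV_add, omV_smul, bs_add_left, bs_add, bs_add, bs_smul_left, bs_smul_left, bs_smul_right,
      bs_smul_right, bs_comm (omV v) r₀, h0, bs_comm (omV v) v, bs_om_self,
      P.sing v P.v_mem] at hbs
    rw [hif, hc]
    congr 2
    clear hc hc₀ hif
    revert hbs
    generalize bs (omV r) r₀ = A
    generalize bs (omV r) v = B
    revert A B c c₀
    clear! r
    decide
  have : Nat.card (linPart E) ≤ 2 := by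
    refine (Nat.card_le_card_of_injective (fun e : linPart E => (if (e : V6 ≃ₗ[ZMod 2] V6) r₀ = r₀ then (0 : ZMod 2) else 1))
      fun e e' he => Subtype.ext (P.lin_ext e.2 e'.2 fun r hr => ?_)).trans (by rw [Nat.card_zmod])
    rw [key _ e.2 r hr, key _ e'.2 r hr]
    simp only at he
    rw [he]
  omega

theorem sc_mem (a : D4) : sc v a ∈ R := by
  unfold sc
  rcases z2 a.1 with e1 | e1 <;> rcases z2 a.2 with e2 | e2 <;> rw [e1, e2] <;>
    simp [P.v_mem, P.omv_mem, add_mem, zero_mem]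

theorem E_fix_line {e : V6 ≃ₗ[ZMod 2] V6} (he : e ∈ linPart E) (a : D4) : e (sc v a) = sc v a := by
  rw [sc, map_add, map_smul, map_smul, he.2, P.E_fix e he.1]

end Pair

end CfsgLib.Sporadic.LargeFischer
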