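import Cfsg.Agent.Lib.Sporadic.LargeFischer.Pair
import Cfsg.Agent.Lib.Sporadic.LargeFischer.Invariant

/-!
# Groups of large Fischer type: commutators in `Q` and the canonical lifts attached to an element acting as a scalar
-/

set_option autoImplicit false
set_option linter.style.haveILetI false
set_option linter.unusedSectionVars false

namespace CfsgLib.Sporadic.LargeFischer

open CfsgLib.ThreeTransp.Extraspecial

/-- The powers of `z`, by an exponent modulo two. -/
def zp {G : Type*} [One G] (z : G) (c : ZMod 2) : G := if c = 0 then 1 else z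

theorem zp_zero {G : Type*} [One G] (z : G) : zp z 0 = 1 := rfl

theorem zp_one {G : Type*} [One G] (z : G) : zp z 1 = z := rfl

/-- An element whose product with its two images under `x` is trivial. -/
def IsCan {G : Type*} [Group G] (Q : Subgroup G) (x a : G) : Prop :=
  a ∈ Q ∧ a * (x * a * x⁻¹) * (x * (x * a * x⁻¹) * x⁻¹) = 1

namespace LFBase

variable {G : Type*} [Group G] [Finite G] {z : G} {Q : Subgroup G} {π : G → V6}
  {ψ : ↥(Subgroup.centralizer ({z} : Set G)) →* (V6 ≃ₗ[ZMod 2] V6)} (h : LFBase z Q π ψ)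
include h

theorem zp_add (a b : ZMod 2) : zp z (a + b) = zp z a * zp z b := by
  rcases z2 a with rfl | rfl <;> rcases z2 b with rfl | rfl
  · rw [add_zero, zp_zero, one_mul]
  · rw [zero_add, zp_zero, one_mul]
  · rw [add_zero, zp_zero, mul_one]
  · rw [CharTwo.add_self_eq_zero, zp_zero, zp_one, h.extra.z_sq]

theorem zp_inj {a b : ZMod 2} (e : zp z a = zp z b) : a = b := by
  rcases z2 a with rfl | rfl <;> rcases z2 b with rfl | rfl
  · rfl
  · exact absurd e.symm h.extra.z_ne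
  · exact absurd e h.extra.z_ne
  · rfl

theorem zp_mem (c : ZMod 2) : zp z c ∈ Q := by
  rcases z2 c with rfl | rfl
  · exact one_mem _
  · exact h.extra.z_mem

theorem π_zp (c : ZMod 2) : π (zp z c) = 0 := by
  rcases z2 c with rfl | rfl
  · exact h.π_one
  · exact h.π_z

theorem zp_comm (c : ZMod 2) {g : G} (hg : g * z = z * g) : zp z c * g = g * zp z c := by
  rcases z2 c with rfl | rfl
  · rw [zp_zero, one_mul, mul_one]
  · exact hg.symm

theorem cent_z {a : G} (ha : a ∈ Q) : a * z = z * a := (h.extra.z_comm ha).symm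

theorem sq_eq {a : G} (ha : a ∈ Q) : a * a = zp z (qs (π a)) := by
  rcases z2 (qs (π a)) with e | e <;> rw [e]
  · exact (h.q_iff a ha).1 e
  · rcases h.extra.sq_cases ha with e1 | e1
    · rw [(h.q_iff a ha).2 e1] at e; exact absurd e (by decide)
    · exact e1

/-- The commutator is the polar form. -/
theorem swap {a b : G} (ha : a ∈ Q) (hb : b ∈ Q) : b * a = a * b * zp z (bs (π a) (π b)) := by
  obtain ⟨c, hc⟩ : ∃ c, b * a = a * b * zp z c := by
    rcases h.extra.conj_cases ha hb with e | e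
    · exact ⟨0, by rw [zp_zero, mul_one]; exact mul_inv_eq_iff_eq_mul.1 e⟩
    · refine ⟨1, ?_⟩
      rw [zp_one, mul_inv_eq_iff_eq_mul.1 e, mul_assoc, mul_assoc, h.extra.z_comm hb]
  have hzc := h.zp_comm c (h.cent_z hb)
  have e : a * b * (a * b) = zp z (qs (π a) + qs (π b) + c) := by
    rw [h.zp_add, h.zp_add, ← h.sq_eq ha, ← h.sq_eq hb]
    calc a * b * (a * b) = a * (b * a) * b := by group
      _ = a * a * b * (zp z c * b) := by rw [hc]; group
      _ = a * a * (b * b) * zp z c := by rw [hzc]; group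
  rw [h.sq_eq (mul_mem ha hb), h.π_mul a ha b hb] at e
  have e' := h.zp_inj e
  rw [hc, show c = bs (π a) (π b) from ?_]
  show c = qs (π a + π b) + qs (π a) + qs (π b)
  rw [e']
  exact (by decide : ∀ c x y : ZMod 2, c = x + y + c + x + y) c _ _

theorem commute_of_bs {a b : G} (ha : a ∈ Q) (hb : b ∈ Q) (e : bs (π a) (π b) = 0) : a * b = b * a := by
  rw [h.swap ha hb, e, zp_zero, mul_one]

theorem bs_of_commute {a b : G} (ha : a ∈ Q) (hb : b ∈ Q) (e : a * b = b * a) : bs (π a) (π b) = 0 :=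
  h.zp_inj (mul_left_cancel ((h.swap ha hb).symm.trans (e.symm.trans (mul_one _).symm)))

theorem π_conj (c : ↥(Subgroup.centralizer ({z} : Set G))) {a : G} (ha : a ∈ Q) :
    (c : G) * a * (c : G)⁻¹ ∈ Q ∧ π ((c : G) * a * (c : G)⁻¹) = ψ c (π a) :=
  ⟨h.norm c (Subgroup.mem_centralizer_singleton_iff.1 c.2) a ha, h.act c a ha⟩

variable {x : ↥(Subgroup.centralizer ({z} : Set G))} (hx : ∀ v, ψ x v = omV v)
include hx

theorem triple_π {a : G} (ha : a ∈ Q) :
    π (a * ((x : G) * a * (x : G)⁻¹) * ((x : G) * ((x : G) * a * (x : G)⁻¹) * (x : G)⁻¹)) = 0 ∧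
    a * ((x : G) * a * (x : G)⁻¹) * ((x : G) * ((x : G) * a * (x : G)⁻¹) * (x : G)⁻¹) ∈ Q := by
  obtain ⟨h1, e1⟩ := h.π_conj x ha
  obtain ⟨h2, e2⟩ := h.π_conj x h1
  refine ⟨?_, mul_mem (mul_mem ha h1) h2⟩
  rw [h.π_mul _ (mul_mem ha h1) _ h2, h.π_mul _ ha _ h1, e2, e1, hx, hx, omV_sq]
  exact two_V6 _

/-- An element commuting with `x` centralises what it fixes modulo `z`. -/
theorem fix_pointwise {d : ↥(Subgroup.centralizer ({z} : Set G))} (hd : Commute d x) {a : G} (ha : a ∈ Q)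
    (e : ψ d (π a) = π a) : (d : G) * a * (d : G)⁻¹ = a := by
  obtain ⟨hm, he⟩ := h.π_conj d ha
  rcases (h.π_eq_iff ha hm).1 (he.trans e).symm with e1 | e1
  · exact e1
  exfalso
  have hdz : (d : G) * z * (d : G)⁻¹ = z := mul_inv_eq_iff_eq_mul.2 (Subgroup.mem_centralizer_singleton_iff.1 d.2)
  have hxz : (x : G) * z * (x : G)⁻¹ = z := mul_inv_eq_iff_eq_mul.2 (Subgroup.mem_centralizer_singleton_iff.1 x.2)
  have hdx : (d : G) * x = x * d := congrArg Subtype.val hd.eq
  obtain ⟨hc, hcQ⟩ := h.triple_π hx ha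
  obtain ⟨h1, -⟩ := h.π_conj x ha
  obtain ⟨h2, -⟩ := h.π_conj x h1
  have shift : ∀ b, (d : G) * ((x : G) * b * (x : G)⁻¹) * (d : G)⁻¹ = x * ((d : G) * b * (d : G)⁻¹) * (x : G)⁻¹ := fun b => by
    calc (d : G) * ((x : G) * b * (x : G)⁻¹) * (d : G)⁻¹ = (d * x) * b * ((d : G) * x)⁻¹ := by group
      _ = _ := by rw [hdx]; group
  have push : ∀ b, b ∈ Q → (d : G) * b * (d : G)⁻¹ = b * z →
      (d : G) * ((x : G) * b * (x : G)⁻¹) * (d : G)⁻¹ = x * b * (x : G)⁻¹ * z := fun b _ eb => by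
    rw [shift, eb]
    calc (x : G) * (b * z) * (x : G)⁻¹ = x * b * (x : G)⁻¹ * (x * z * (x : G)⁻¹) := by group
      _ = _ := by rw [hxz]
  have p1 := push a ha e1
  have p2 := push _ h1 p1
  set b := (x : G) * a * (x : G)⁻¹
  set b' := (x : G) * b * (x : G)⁻¹
  have hfix : (d : G) * (a * b * b') * (d : G)⁻¹ = a * b * b' := by
    rcases (h.π_ker _ hcQ).1 hc with e2 | e2 <;> rw [e2]
    · group
    · exact hdz
  refine h.extra.z_ne ?_
  have : a * b * b' * z = a * b * b' := by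
    conv_rhs => rw [← hfix]
    rw [show (d : G) * (a * b * b') * (d : G)⁻¹ =
      ((d : G) * a * (d : G)⁻¹) * ((d : G) * b * (d : G)⁻¹) * ((d : G) * b' * (d : G)⁻¹) by group, e1, p1, p2]
    calc a * b * b' * z = a * b * (z * z) * b' * z := by rw [h.extra.z_sq, mul_one]
      _ = a * (b * z) * z * b' * z := by group
      _ = a * (z * b) * z * b' * z := by rw [h.extra.z_comm h1]
      _ = a * z * (b * z) * (b' * z) := by group
  exact mul_eq_left.1 this

/-- Every vector has exactly one canonical lift. -/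
theorem exists_can (w : V6) : ∃! a, IsCan Q (x : G) a ∧ π a = w := by
  obtain ⟨a, ha, e⟩ := h.π_surj w
  have hxz : (x : G) * z = z * x := Subgroup.mem_centralizer_singleton_iff.1 x.2
  have key : ∀ a ∈ Q, a * z * ((x : G) * (a * z) * (x : G)⁻¹) * ((x : G) * ((x : G) * (a * z) * (x : G)⁻¹) * (x : G)⁻¹) =
      a * ((x : G) * a * (x : G)⁻¹) * ((x : G) * ((x : G) * a * (x : G)⁻¹) * (x : G)⁻¹) * z := by
    intro a ha
    have c1 : (x : G) * (a * z) * (x : G)⁻¹ = x * a * (x : G)⁻¹ * z := by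
      calc (x : G) * (a * z) * (x : G)⁻¹ = x * a * (x : G)⁻¹ * ((x : G) * z * (x : G)⁻¹) := by group
        _ = _ := by rw [hxz, mul_inv_cancel_right]
    obtain ⟨h1, -⟩ := h.π_conj x ha
    obtain ⟨h2, -⟩ := h.π_conj x h1
    rw [c1]
    set b := (x : G) * a * (x : G)⁻¹
    have c2 : (x : G) * (b * z) * (x : G)⁻¹ = x * b * (x : G)⁻¹ * z := by
      calc (x : G) * (b * z) * (x : G)⁻¹ = x * b * (x : G)⁻¹ * ((x : G) * z * (x : G)⁻¹) := by group
        _ = _ := by rw [hxz, mul_inv_cancel_right]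
    rw [c2]
    set b' := (x : G) * b * (x : G)⁻¹
    calc a * z * (b * z) * (b' * z) = a * (z * b) * z * b' * z := by group
      _ = a * (b * z) * z * b' * z := by rw [h.extra.z_comm h1]
      _ = a * b * (z * z) * b' * z := by group
      _ = a * b * b' * z := by rw [h.extra.z_sq, mul_one]
  obtain ⟨hc, hcQ⟩ := h.triple_π hx ha
  refine existsUnique_of_exists_of_unique ?_ ?_
  · rcases (h.π_ker _ hcQ).1 hc with e1 | e1
    · exact ⟨a, ⟨ha, e1⟩, e⟩
    · exact ⟨a * z, ⟨mul_mem ha h.extra.z_mem, by rw [key a ha, e1, h.extra.z_sq]⟩,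
        by rw [h.π_mul a ha z h.extra.z_mem, h.π_z, add_zero, e]⟩
  · rintro b b' ⟨⟨hb, eb⟩, pb⟩ ⟨⟨hb', eb'⟩, pb'⟩
    rcases (h.π_eq_iff hb hb').1 (pb.trans pb'.symm) with rfl | rfl
    · rfl
    · rw [key b hb, eb, one_mul] at eb'
      exact absurd eb' h.extra.z_ne

/-- The canonical lift. -/
noncomputable def can (w : V6) : G := (h.exists_can hx w).choose

theorem can_spec (w : V6) : IsCan Q (x : G) (h.can hx w) ∧ π (h.can hx w) = w :=
  (h.exists_can hx w).choose_spec.1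

theorem can_mem (w : V6) : h.can hx w ∈ Q := (h.can_spec hx w).1.1

theorem π_can (w : V6) : π (h.can hx w) = w := (h.can_spec hx w).2

theorem can_eq {a : G} {w : V6} (ha : IsCan Q (x : G) a) (e : π a = w) : h.can hx w = a :=
  (h.exists_can hx w).unique (h.can_spec hx w) ⟨ha, e⟩

theorem can_zero : h.can hx 0 = 1 := h.can_eq hx ⟨one_mem _, by group⟩ h.π_one

/-- The canonical lifts are permuted by the centraliser of `x`. -/
theorem can_conj {d : ↥(Subgroup.centralizer ({z} : Set G))} (hd : Commute d x) (w : V6) :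
    (d : G) * h.can hx w * (d : G)⁻¹ = h.can hx (ψ d w) := by
  have hdx : (d : G) * x = x * d := congrArg Subtype.val hd.eq
  obtain ⟨⟨hm, ht⟩, hw⟩ := h.can_spec hx w
  obtain ⟨hm', hπ⟩ := h.π_conj d hm
  refine (h.can_eq hx ⟨hm', ?_⟩ (by rw [hπ, hw])).symm
  generalize h.can hx w = a at ht
  have shift : ∀ b, (x : G) * ((d : G) * b * (d : G)⁻¹) * (x : G)⁻¹ = (d : G) * ((x : G) * b * (x : G)⁻¹) * (d : G)⁻¹ := fun b => by
    calc (x : G) * ((d : G) * b * (d : G)⁻¹) * (x : G)⁻¹ = (x * (d : G)) * b * ((x : G) * d)⁻¹ := by group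
      _ = _ := by rw [← hdx]; group
  rw [shift, shift]
  set b := (x : G) * a * (x : G)⁻¹
  set b' := (x : G) * b * (x : G)⁻¹
  rw [show (d : G) * a * (d : G)⁻¹ * ((d : G) * b * (d : G)⁻¹) * ((d : G) * b' * (d : G)⁻¹) =
    (d : G) * (a * b * b') * (d : G)⁻¹ by group, ht]
  group

/-- The product of two commuting canonical lifts. -/
theorem can_mul {u w : V6} (huw : bs u w = 0) :
    h.can hx u * h.can hx w = h.can hx (u + w) * zp z (bs w (omV u)) := by
  obtain ⟨⟨ha, ta⟩, pa⟩ := h.can_spec hx u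
  obtain ⟨⟨hb, tb⟩, pb⟩ := h.can_spec hx w
  set a := h.can hx u
  set b := h.can hx w
  obtain ⟨ha1, pa1⟩ := h.π_conj x ha
  obtain ⟨hb1, pb1⟩ := h.π_conj x hb
  obtain ⟨ha2, pa2⟩ := h.π_conj x ha1
  obtain ⟨hb2, pb2⟩ := h.π_conj x hb1
  rw [pa1] at pa2
  rw [pb1] at pb2
  rw [hx, pa] at pa1
  rw [hx, pb] at pb1
  rw [hx, hx, pa] at pa2
  rw [hx, hx, pb] at pb2
  set B := bs w (omV u) with hB
  have hwu : bs w u = 0 := by rw [bs_comm]; exact huw
  have s1 : bs w (omV (omV u)) = B := by rw [omV_sq, bs_add, hwu, zero_add]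
  have s2 : bs (omV w) (omV (omV u)) = B := bs_omV _ _
  set a₁ := (x : G) * a * (x : G)⁻¹
  set b₁ := (x : G) * b * (x : G)⁻¹
  set a₂ := (x : G) * a₁ * (x : G)⁻¹
  set b₂ := (x : G) * b₁ * (x : G)⁻¹
  have c1 : b * a₁ = a₁ * b * zp z B := by
    rw [h.swap ha1 hb, pa1, pb, bs_comm]
  have c2 : b₁ * a₂ = a₂ * b₁ * zp z B := by
    rw [h.swap ha2 hb1, pa2, pb1, bs_comm, s2]
  have c3 : b * a₂ = a₂ * b * zp z B := by
    rw [h.swap ha2 hb, pa2, pb, bs_comm, s1]
  have hz : ∀ {q}, q ∈ Q → ∀ c, zp z c * q = q * zp z c := fun hq c => h.zp_comm c (h.cent_z hq)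
  have prod : a * b * (a₁ * b₁) * (a₂ * b₂) = zp z B := by
    calc a * b * (a₁ * b₁) * (a₂ * b₂) = a * (b * a₁) * (b₁ * a₂) * b₂ := by group
      _ = a * a₁ * b * zp z B * (a₂ * b₁ * zp z B) * b₂ := by rw [c1, c2]; group
      _ = a * a₁ * b * a₂ * b₁ * (zp z B * zp z B) * b₂ := by
        rw [show a * a₁ * b * zp z B * (a₂ * b₁ * zp z B) * b₂ = a * a₁ * b * (zp z B * (a₂ * b₁)) * zp z B * b₂ by group,
          hz (mul_mem ha2 hb1)]
        group
      _ = a * a₁ * (b * a₂) * b₁ * b₂ := by rw [← h.zp_add, CharTwo.add_self_eq_zero, zp_zero]; group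
      _ = a * a₁ * a₂ * (b * (zp z B * (b₁ * b₂))) := by rw [c3]; group
      _ = a * a₁ * a₂ * (b * b₁ * b₂) * zp z B := by rw [hz (mul_mem hb1 hb2)]; group
      _ = zp z B := by rw [ta, tb, one_mul, one_mul]
  have hc1 : (x : G) * zp z B * (x : G)⁻¹ = zp z B := by
    rw [← h.zp_comm B (Subgroup.mem_centralizer_singleton_iff.1 x.2), mul_inv_cancel_right]
  have hBB : zp z B * zp z B = 1 := by rw [← h.zp_add, CharTwo.add_self_eq_zero, zp_zero]
  have hcan : h.can hx (u + w) = a * b * zp z B := by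
    refine h.can_eq hx ⟨mul_mem (mul_mem ha hb) (h.zp_mem B), ?_⟩ ?_
    · have x1 : (x : G) * (a * b * zp z B) * (x : G)⁻¹ = a₁ * b₁ * zp z B := by
        rw [show (x : G) * (a * b * zp z B) * (x : G)⁻¹ = a₁ * b₁ * ((x : G) * zp z B * (x : G)⁻¹) by
          simp only [a₁, b₁]; group, hc1]
      have x2 : (x : G) * (a₁ * b₁ * zp z B) * (x : G)⁻¹ = a₂ * b₂ * zp z B := by
        rw [show (x : G) * (a₁ * b₁ * zp z B) * (x : G)⁻¹ = a₂ * b₂ * ((x : G) * zp z B * (x : G)⁻¹) by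
          simp only [a₂, b₂]; group, hc1]
      rw [x1, x2]
      calc a * b * zp z B * (a₁ * b₁ * zp z B) * (a₂ * b₂ * zp z B)
          = a * b * (zp z B * (a₁ * b₁)) * (zp z B * (a₂ * b₂)) * zp z B := by group
        _ = a * b * (a₁ * b₁) * (zp z B * (zp z B * (a₂ * b₂))) * zp z B := by rw [hz (mul_mem ha1 hb1)]; group
        _ = a * b * (a₁ * b₁) * (a₂ * b₂) * zp z B := by rw [← mul_assoc (zp z B), hBB, one_mul]
        _ = 1 := by rw [prod, hBB]
    · rw [h.π_mul _ (mul_mem ha hb) _ (h.zp_mem B), h.π_zp, add_zero, h.π_mul _ ha _ hb, pa, pb]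
  rw [hcan, mul_assoc (a * b), hBB, mul_one]

end LFBase

end CfsgLib.Sporadic.LargeFischer
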