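import Cfsg.Agent.Lib.Sporadic.LargeFischer.SemilinearSquare

/-!
# Groups of large Fischer type: a semilinear element of the centraliser of an involution of `Q`
-/

set_option autoImplicit false
set_option linter.style.haveILetI false
set_option linter.unusedSectionVars false

namespace CfsgLib.Sporadic.LargeFischer

/-- What is orthogonal to the hyperplane of a vector is a multiple of it. -/
theorem eq_zero_or_of_perp {v a : V6} (hv : v ≠ 0) (ha : ∀ w, bs w v = 0 → bs a w = 0) : a = 0 ∨ a = v := by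
  obtain ⟨w₀, hw₀⟩ : ∃ w, bs w v = 1 := by
    by_contra hno
    push Not at hno
    exact hv (bs_nondeg fun w => by rw [bs_comm]; exact (z2 _).resolve_right (hno w))
  have key : ∀ b, (∀ w, bs w v = 0 → bs b w = 0) → bs b w₀ = 0 → b = 0 := fun b hb h0 => bs_nondeg fun w => by
    rcases z2 (bs w v) with e | e
    · exact hb w e
    · have := hb (w + w₀) (by rw [bs_add_left, e, hw₀, CharTwo.add_self_eq_zero])
      rwa [bs_add, h0, add_zero] at this
  rcases z2 (bs a w₀) with e | e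
  · exact Or.inl (key a ha e)
  · refine Or.inr (eq_of_add_zero (key (a + v) (fun w hw => ?_) ?_))
    · rw [bs_add_left, ha w hw, bs_comm v, hw, add_zero]
    · rw [bs_add_left, e, bs_comm v, hw₀, CharTwo.add_self_eq_zero]

theorem wt_cp : ∀ (c : ZMod 3) (i k : Fin 6), i ≠ k → wt (cp c i k) = 2 := by decide +kernel

section

variable {K : Subgroup (V6 ≃ₗ[ZMod 2] V6)} (h : Model K)
include h

/-- An element fixing the hyperplane of a singular vector is trivial. -/
theorem Model.eq_one_of_fix_perp {g : V6 ≃ₗ[ZMod 2] V6} (hg : g ∈ K) {v : V6} (hv : v ≠ 0) (hq : qs v = 0)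
    (hfix : ∀ w, bs w v = 0 → g w = w) : g = 1 := LinearEquiv.ext fun u => by
  rcases z2 (bs u v) with e | e
  · exact hfix u e
  · have hy : g u + u = 0 ∨ g u + u = v := eq_zero_or_of_perp hv fun w hw => by
      have h1 := h.bs_map hg u w
      rw [hfix w hw] at h1
      rw [bs_add_left, h1, CharTwo.add_self_eq_zero]
    rcases hy with e' | e'
    · exact eq_of_add_zero e'
    · exfalso
      have h1 := h.quad g hg u
      have e2 : g u = u + v := by rw [← e', add_comm u, add_assoc, two_V6, add_zero]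
      rw [e2] at h1
      have h2 : bs u v = qs (u + v) + qs u + qs v := rfl
      rw [h1, hq, CharTwo.add_self_eq_zero, add_zero, e] at h2
      exact one_ne_zero h2

/-- Conjugates of semilinear elements are semilinear. -/
theorem Model.semilinear_conj {e m : V6 ≃ₗ[ZMod 2] V6} (hm : m ∈ K)
    (hsem : ∀ w, e (omV w) = omV (omV (e w))) (w : V6) :
    (m * e * m⁻¹) (omV w) = omV (omV ((m * e * m⁻¹) w)) := by
  show m (e (m.symm (omV w))) = omV (omV (m (e (m.symm w))))
  rcases h.scal m hm with h1 | h1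
  · have e' : m.symm (omV w) = omV (m.symm w) := m.injective (by rw [m.apply_symm_apply, h1, m.apply_symm_apply])
    rw [e', hsem, h1, h1]
  · have e' : m.symm (omV w) = omV (omV (m.symm w)) := m.injective (by
      rw [m.apply_symm_apply, h1, h1, m.apply_symm_apply, omV_cube])
    rw [e', hsem, hsem, omV_cube, h1]

/-- Adapted coordinates send weight two into its orbit. -/
theorem exists_theta_short {v : V6} (hv : v ∈ h.orb c4) :
    ∃ θ : V6 ≃ₗ[ZMod 2] V6, θ one6 = v ∧ (∀ w, qs (θ w) = qs w) ∧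
      ((∀ w, θ (omV w) = omV (θ w)) ∨ ∀ w, θ (omV w) = omV (omV (θ w))) ∧
      (∀ p : Equiv.Perm (Fin 6), p ∈ alternatingGroup (Fin 6) → ∃ g ∈ K, g v = v ∧
        ∀ w, g (θ w) = θ (fun i => w (p.symm i))) ∧
      ∀ w, wt w = 2 → θ w ∈ h.orb c2 := by
  obtain ⟨k, hk⟩ := h.two_orbits.2.2.2.2
  obtain ⟨d, hd, hdv⟩ := h.mem_orb.1 (hk.symm ▸ hv : v ∈ h.orb (c6 k))
  have h1 : phaseEquiv (phase0 k) one6 = c6 k := funext fun i => (c6_comp k i).symm
  refine ⟨(phaseEquiv (phase0 k)).trans d, by rw [LinearEquiv.trans_apply, h1, hdv], fun w => ?_, ?_,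
    fun p hp => ?_, fun w hw => ?_⟩
  · rw [LinearEquiv.trans_apply, h.quad d hd]
    exact Finset.sum_congr rfl fun i _ => nzd_omp _ _
  · have hc : ∀ w, phaseEquiv (phase0 k) (omV w) = omV (phaseEquiv (phase0 k) w) := fun w =>
      funext fun i => omp_om _ _
    exact (h.scal d hd).imp (fun e w => by rw [LinearEquiv.trans_apply, hc, e]; rfl)
      fun e w => by rw [LinearEquiv.trans_apply, hc, e]; rfl
  · refine ⟨d * twistPerm k ⟨p, hp⟩ * d⁻¹, mul_mem (mul_mem hd (twistPerm_mem h k _)) (inv_mem hd), ?_, fun w => ?_⟩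
    · show d (twistPerm k _ (d.symm v)) = v
      rw [← hdv, d.symm_apply_apply, twistPerm_fix]
    · show d (twistPerm k _ (d.symm (d (phaseEquiv (phase0 k) w)))) = d (phaseEquiv (phase0 k) fun i => w (p.symm i))
      rw [d.symm_apply_apply]
      refine congrArg d (funext fun i => ?_)
      rw [twistPerm_apply]
      show omp _ (omp _ _) = omp _ _
      rw [omp_add, add_assoc, neg_add_cancel, add_zero]
  · have hw' : wt (phaseEquiv (phase0 k) w) = 2 := by
      refine (congrArg Finset.card (Finset.filter_congr fun i _ => not_congr ?_)).trans hw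
      rw [← nzd_zero_iff, ← nzd_zero_iff, show phaseEquiv (phase0 k) w i = omp (phase0 k i) (w i) from rfl, nzd_omp]
    rw [← h.canon_two hw']
    exact h.mem_orb.2 ⟨d, hd, rfl⟩

end

namespace Pair

variable {K : Subgroup (V6 ≃ₗ[ZMod 2] V6)} {h : Model K} {v : V6} {R : AddSubgroup V6}
  {E : Subgroup (V6 ≃ₗ[ZMod 2] V6)} (P : Pair h v R E)
include P

/-- Some member of `E` is a semilinear involution. -/
theorem exists_semilinear : ∃ e ∈ E, (∀ w, e (e w) = w) ∧ ∀ w, e (omV w) = omV (omV (e w)) := by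
  obtain ⟨rp, -, -, -, -, -, -, h16, -⟩ := P.exists_pairs
  obtain ⟨e, he, hes⟩ : ∃ e ∈ E, ¬ ∀ w, e (omV w) = omV (e w) := by
    by_contra hall
    push Not at hall
    rw [show linPart E = E from le_antisymm (fun e he => he.1) fun e he => ⟨he, hall e he⟩, P.cardE] at h16
    omega
  have hsem : ∀ w, e (omV w) = omV (omV (e w)) := (h.scal e (P.E_le he)).resolve_left hes
  have hev : e v = v := P.E_fix e he
  have h2 : e * e = 1 := P.eq_one_of_fix ⟨mul_mem (P.E_le he) (P.E_le he), by show e (e v) = v; rw [hev, hev],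
      fun w => by show e (e (omV w)) = omV (e (e w)); rw [hsem, hsem, hsem, omV_cube]⟩
    fun r hr => by
      show e (e r) = r
      rcases P.E_act e he r hr with e1 | e1
      · rw [e1, e1]
      · rw [e1, map_add, e1, hev, add_assoc, two_V6, add_zero]
  exact ⟨e, he, fun w => congrArg (fun f : V6 ≃ₗ[ZMod 2] V6 => f w) h2, hsem⟩

/-- A member of `E` fixes a vector of `R` in the orbit of the vectors of weight two. -/
theorem exists_fixed_short {e : V6 ≃ₗ[ZMod 2] V6} (he : e ∈ E) : ∃ r, r ∈ h.orb c2 ∧ e r = r := by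
  obtain ⟨θ, hθv, hθq, hθom, hθp, hθ2⟩ := exists_theta_short h P.orbit
  have hθb : ∀ u w, bs (θ u) (θ w) = bs u w := fun u w => by
    show qs _ + qs _ + qs _ = qs _ + qs _ + qs _
    rw [← map_add, hθq, hθq, hθq]
  have homv : θ (omV one6) ∈ R := by
    rcases hθom with e | e <;> rw [e, hθv]
    · exact P.omv_mem
    · rw [omV_sq]; exact add_mem P.v_mem P.omv_mem
  have hcst : ∀ a, θ (cst a) ∈ R := fun a => by
    rw [cst_eq, sc, map_add, map_smul, map_smul, hθv]
    rcases z2 a.1 with e1 | e1 <;> rcases z2 a.2 with e2 | e2 <;> rw [e1, e2] <;>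
      simp [zero_mem, P.v_mem, homv, add_mem]
  have himg : ∀ p : Equiv.Perm (Fin 6), p ∈ alternatingGroup (Fin 6) → ∀ w, θ w ∈ R →
      θ (fun i => w (p.symm i)) ∈ R := fun p hp w hw => by
    obtain ⟨g, hg, hgv, hgθ⟩ := hθp p hp
    have := P.inv g hg hgv _ hw
    rwa [hgθ] at this
  have hshape : ∀ r₀, θ r₀ ∈ R →
      (∃ a, r₀ = cst a) ∨ ∃ c i k a, i ≠ k ∧ r₀ = cp c i k + cst a := fun r₀ hr => by
    refine shape r₀ (by rw [← hθq]; exact P.sing _ hr) (by rw [← hθb, hθv]; exact P.bs_R hr P.v_mem)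
      (by rw [← hθb]; exact P.bs_R hr homv)
      fun l => by rw [← hθb]; exact P.bs_R hr (by simpa [← Equiv.Perm.inv_def] using himg (seven l)⁻¹ (inv_mem (seven_mem l)) r₀ hr)
  obtain ⟨c, i, k, hik, hm⟩ : ∃ c i k, i ≠ k ∧ θ (cp c i k) ∈ R := by
    by_contra hno
    push Not at hno
    have hle : Nat.card R ≤ Nat.card D4 := by
      refine Nat.card_le_card_of_injective (fun r : R => θ.symm r 0) fun r r' e => Subtype.ext ?_
      have hc : ∀ r : R, ∃ a, θ.symm r = cst a := fun r => by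
        rcases hshape (θ.symm r) (by rw [θ.apply_symm_apply]; exact r.2) with ⟨a, ha⟩ | ⟨c, i, k, a, hik, ha⟩
        · exact ⟨a, ha⟩
        · exfalso
          refine hno c i k hik ?_
          have h1 := add_mem (show θ (cp c i k + cst a) ∈ R by rw [← ha, θ.apply_symm_apply]; exact r.2) (hcst a)
          rwa [← map_add, add_assoc, two_V6, add_zero] at h1
      obtain ⟨a, ha⟩ := hc r
      obtain ⟨a', ha'⟩ := hc r'
      have e' : θ.symm r 0 = θ.symm r' 0 := e
      rw [ha, ha'] at e'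
      apply θ.symm.injective
      rw [ha, ha', show a = a' from e']
    rw [P.cardR, Nat.card_eq_fintype_card] at hle
    simp at hle
  have hall : ∀ i' k', i' ≠ k' → θ (cp c i' k') ∈ R := by
    intro i' k' hik'
    obtain ⟨u, w, hu⟩ := exists_two i' k'
    obtain ⟨p, hp, hpa, hpb⟩ := exists_even_move i k i' k' u w hik hik' hu
    have := himg p hp _ hm
    rwa [cp_perm, hpa, hpb] at this
  rcases P.E_act e he _ (hall 0 1 (by decide)) with e1 | e1
  · exact ⟨_, hθ2 _ (wt_cp c 0 1 (by decide)), e1⟩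
  rcases P.E_act e he _ (hall 1 2 (by decide)) with e2 | e2
  · exact ⟨_, hθ2 _ (wt_cp c 1 2 (by decide)), e2⟩
  refine ⟨_, hθ2 _ (wt_cp c 0 2 (by decide)), ?_⟩
  rw [← (cp_facts c).1, map_add, map_add, e1, e2, add_add_add_comm, two_V6, add_zero]

end Pair

namespace LF

variable {G : Type*} [Group G] [Finite G] {z : G} {Q : Subgroup (Subgroup.centralizer ({z} : Set G))} [Q.Normal]
  {π : G → V6} {ψ : ↥(Subgroup.centralizer ({z} : Set G)) →* (V6 ≃ₗ[ZMod 2] V6)} (h : LF z (qImg Q) π ψ)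
include h

/-- Conjugation inside `Q` between two lifts of the scalar of order three. -/
theorem exists_conj_scalar {x : ↥(Subgroup.centralizer ({z} : Set G))} (hx : ∀ v, ψ x v = omV v) (h3 : x ^ 3 = 1)
    {y : ↥(Subgroup.centralizer ({z} : Set G))} (hψy : ψ y = ψ x) (hy3 : y ^ 3 = 1) :
    ∃ qc : ↥(Subgroup.centralizer ({z} : Set G)), ψ qc = 1 ∧ qc * x * qc⁻¹ = y := by
  have hq₀ : ((x⁻¹ * y : ↥(Subgroup.centralizer ({z} : Set G))) : G) ∈ qImg Q :=
    (h.ker _).1 (by rw [map_mul, map_inv, hψy, inv_mul_cancel])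
  obtain ⟨q, hq, hπq⟩ := h.π_surj (omV (omV (π ((x⁻¹ * y : ↥(Subgroup.centralizer ({z} : Set G))) : G))))
  set qc : ↥(Subgroup.centralizer ({z} : Set G)) := ⟨q, h.mem_cent hq⟩ with hqc
  have hψq : ψ qc = 1 := (h.ker qc).2 hq
  set r := x⁻¹ * (qc * x * qc⁻¹) with hr
  have hrQ : (r : G) ∈ qImg Q := (h.ker _).1 (by rw [hr, map_mul, map_inv, map_mul, map_mul, map_inv, hψq,
    one_mul, inv_one, mul_one, inv_mul_cancel])
  have hπr : π (r : G) = π ((x⁻¹ * y : ↥(Subgroup.centralizer ({z} : Set G))) : G) := by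
    obtain ⟨hm, e⟩ := h.π_conj x⁻¹ hq
    have hxi : ψ x⁻¹ (π q) = omV (omV (π q)) := by
      apply (ψ x).injective
      rw [← LinearEquiv.mul_apply, ← map_mul, mul_inv_cancel, map_one, hx, omV_cube]
      rfl
    have hre : (r : G) = ((x⁻¹ : ↥(Subgroup.centralizer ({z} : Set G))) : G) * q *
        ((x⁻¹ : ↥(Subgroup.centralizer ({z} : Set G))) : G)⁻¹ * q⁻¹ := by
      rw [hr, hqc]
      show (x : G)⁻¹ * (q * x * q⁻¹) = (x : G)⁻¹ * q * (x : G)⁻¹⁻¹ * q⁻¹
      group
    rw [hre, h.π_mul _ hm _ (inv_mem hq), h.π_inv hq, e, hxi, hπq]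
    generalize π ((x⁻¹ * y : ↥(Subgroup.centralizer ({z} : Set G))) : G) = u
    rw [omV_cube, omV_sq, add_left_comm, two_V6, add_zero]
  refine ⟨qc, hψq, ?_⟩
  rcases (h.π_eq_iff hrQ hq₀).1 hπr with e | e
  · have e' : x⁻¹ * y = r := Subtype.ext e
    rw [hr] at e'
    exact (mul_left_cancel e').symm
  · exfalso
    have e' : ((y : ↥(Subgroup.centralizer ({z} : Set G))) : G) = ((qc * x * qc⁻¹ : ↥(Subgroup.centralizer ({z} : Set G))) : G) * z := by
      have e1 : (x : G)⁻¹ * (y : G) = (x : G)⁻¹ * ((qc * x * qc⁻¹ : ↥(Subgroup.centralizer ({z} : Set G))) : G) * z := e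
      rw [mul_assoc] at e1
      exact mul_left_cancel e1
    set u := qc * x * qc⁻¹ with hu
    have h1 : (u : G) ^ 3 = 1 := congrArg Subtype.val (by rw [hu, conj_pow, h3, mul_one, mul_inv_cancel] : u ^ 3 = 1)
    have h2 : (y : G) ^ 3 = 1 := congrArg Subtype.val hy3
    have hcu : Commute (u : G) z := Subgroup.mem_centralizer_singleton_iff.1 u.2
    rw [e', hcu.mul_pow, h1, one_mul, pow_succ, pow_two, h.extra.z_sq, one_mul] at h2
    exact h.extra.z_ne h2

variable {g : G} (hu : g * z * g⁻¹ ∈ qImg Q) (hne : g * z * g⁻¹ ≠ z)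
include hu hne

/-- A semilinear involution modulo `Q` lifts to an involution. -/
theorem exists_semilinear_involution {c : ↥(Subgroup.centralizer ({z} : Set G))}
    (hsem : ∀ w, ψ c (omV w) = omV (omV (ψ c w))) (hcc : ∀ w, ψ c (ψ c w) = w) :
    ∃ d : ↥(Subgroup.centralizer ({z} : Set G)), (d : G) * d = 1 ∧ ψ d = ψ c := by
  obtain ⟨x, hx, h3⟩ := h.exists_scalar_cube hu hne
  have hy : ψ (c * x * c⁻¹) * ψ x = 1 := by
    refine LinearEquiv.ext fun w => ?_
    rw [map_mul, map_mul, map_inv]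
    show ψ c (ψ x ((ψ c).symm (ψ x w))) = w
    rw [show (ψ c).symm (ψ x w) = ψ c (ψ x w) from (ψ c).injective (by rw [(ψ c).apply_symm_apply, hcc]), hx, hx,
      hsem, hcc, omV_cube]
  obtain ⟨qc, hψq, hqc⟩ := h.exists_conj_scalar hx h3 (y := (c * x * c⁻¹)⁻¹)
    (by rw [map_inv, ← eq_inv_of_mul_eq_one_right hy])
    (by rw [inv_pow, conj_pow, h3, mul_one, mul_inv_cancel, inv_one])
  have hψd : ψ (qc⁻¹ * c) = ψ c := by rw [map_mul, map_inv, hψq, inv_one, one_mul]
  set d := qc⁻¹ * c with hd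
  have hdx : d * x * d⁻¹ = x⁻¹ := by
    have e : x⁻¹ = qc⁻¹ * (c * x * c⁻¹) * qc := by
      rw [show c * x * c⁻¹ = (qc * x * qc⁻¹)⁻¹ by rw [hqc, inv_inv]]
      group
    rw [e, hd]
    group
  have hddQ : ((d * d : ↥(Subgroup.centralizer ({z} : Set G))) : G) ∈ qImg Q :=
    (h.ker _).1 (LinearEquiv.ext fun w => by rw [map_mul, hψd]; exact hcc w)
  have hddx : (x : G) * ((d * d : ↥(Subgroup.centralizer ({z} : Set G))) : G) =
      ((d * d : ↥(Subgroup.centralizer ({z} : Set G))) : G) * x := by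
    have e : d * d * x * (d * d)⁻¹ = x := by
      calc d * d * x * (d * d)⁻¹ = d * (d * x * d⁻¹) * d⁻¹ := by group
        _ = d * x⁻¹ * d⁻¹ := by rw [hdx]
        _ = (d * x * d⁻¹)⁻¹ := by group
        _ = x := by rw [hdx, inv_inv]
    exact congrArg Subtype.val (mul_inv_eq_iff_eq_mul.1 e).symm
  rcases h.Q_fixed hx hddQ hddx with e | e
  · exact ⟨d, e, hψd⟩
  · exact (h.no_semilinear_square hu hne (c := d) (by rw [hψd]; exact hsem) e).elim

/-- A semilinear element of the centraliser of an involution moving the other lift. -/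
theorem exists_outer_element {t t' : G} (ht : t ∈ qImg Q) (ht' : t' ∈ qImg Q) (htt : t * t = 1) (htt' : t' * t' = 1)
    (hv : π t ∈ h.model.orb c2) (hπ : π t' = omV (π t)) :
    ∃ k : G, k * z = z * k ∧ k * t = t * k ∧ k * k = t ∧ k * t' * k⁻¹ = t * t' := by
  have hq : qs (π t) = 0 := (h.model.qs_zero_of_orb hv).trans c2_facts.1
  have hv0 : π t ≠ 0 := h.model.ne_zero_of_orb c2_facts.2.2.1 hv
  have hcomm : t * t' = t' * t := h.commute_of_bs ht ht' (by rw [hπ, bs_om_self, hq])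
  obtain ⟨R, E, P, -, hE, -⟩ := h.pair_data hu hne
  obtain ⟨e₀, he₀, he₀2, he₀s⟩ := P.exists_semilinear
  obtain ⟨r, hr, her⟩ := P.exists_fixed_short he₀
  obtain ⟨m, hm, hmr⟩ := h.model.mem_orb.1 (show π t ∈ h.model.orb r by rw [h.model.orb_eq hr]; exact hv)
  obtain ⟨c, hψc⟩ : m * e₀ * m⁻¹ ∈ ψ.range := mul_mem (mul_mem hm (P.E_le he₀)) (inv_mem hm)
  have hcs : ∀ w, ψ c (omV w) = omV (omV (ψ c w)) := hψc ▸ h.model.semilinear_conj hm he₀s
  have hcc : ∀ w, ψ c (ψ c w) = w := fun w => by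
    rw [hψc]
    show m (e₀ (m.symm (m (e₀ (m.symm w))))) = w
    rw [m.symm_apply_apply, he₀2, m.apply_symm_apply]
  have hcv : ψ c (π t) = π t := by
    rw [hψc]
    show m (e₀ (m.symm (π t))) = π t
    rw [← hmr, m.symm_apply_apply, her]
  have fixT : ∀ d : ↥(Subgroup.centralizer ({z} : Set G)), (d : G) * d = 1 → ψ d = ψ c → (d : G) * t = t * d := by
    intro d hd hψd
    obtain ⟨hm1, hπ1⟩ := h.π_conj d ht
    rw [hψd, hcv] at hπ1
    rcases (h.π_eq_iff ht hm1).1 hπ1.symm with e | e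
    · exact mul_inv_eq_iff_eq_mul.1 e
    · exfalso
      refine h.no_semilinear_square hu hne (c := d * ⟨t, h.mem_cent ht⟩) ?_ ?_
      · rw [map_mul, (h.ker ⟨t, h.mem_cent ht⟩).2 ht, mul_one, hψd]; exact hcs
      · show (d : G) * t * (d * t) = z
        calc (d : G) * t * (d * t) = d * t * (d : G)⁻¹ * ((d : G) * d) * t := by group
          _ = z := by rw [e, hd, mul_one, mul_assoc, ← h.cent_z ht, ← mul_assoc, htt, one_mul]
  obtain ⟨d, hd, hψd⟩ := h.exists_semilinear_involution hu hne hcs hcc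
  obtain ⟨d', hd', hψd', hdt'⟩ : ∃ d' : ↥(Subgroup.centralizer ({z} : Set G)), (d' : G) * d' = 1 ∧ ψ d' = ψ c ∧
      (d' : G) * t' * (d' : G)⁻¹ = t * t' := by
    obtain ⟨hm1, hπ1⟩ := h.π_conj d ht'
    rw [hψd, hπ, hcs, hcv, omV_sq] at hπ1
    have e0 : π (t * t') = π t + omV (π t) := by rw [h.π_mul t ht t' ht', hπ]
    rcases (h.π_eq_iff (mul_mem ht ht') hm1).1 (e0.trans hπ1.symm) with e | e
    · exact ⟨d, hd, hψd, e⟩
    obtain ⟨w, hw⟩ : ∃ w, bs w (π t) = 1 := by
      by_contra hno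
      push Not at hno
      exact hv0 (bs_nondeg fun w => by rw [bs_comm]; exact (z2 _).resolve_right (hno w))
    have hbv : bs (ψ c w) (π t) = bs w (π t) := by
      conv_lhs => rw [← hcv]
      exact h.model.bs_map ⟨c, rfl⟩ _ _
    have hbw : bs (ψ c w) (omV (π t)) = bs w (π t) + bs w (omV (π t)) := by
      have e1 : ψ c (π t + omV (π t)) = omV (π t) := by
        rw [map_add, hcs, hcv, omV_sq, ← add_assoc, two_V6, zero_add]
      conv_lhs => rw [← e1]
      rw [h.model.bs_map ⟨c, rfl⟩, bs_add]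
    obtain ⟨q, hq, hπq⟩ := h.π_surj (w + ψ c w)
    have hqt : q * t = t * q := h.commute_of_bs hq ht (by
      rw [hπq, bs_add_left, hbv, CharTwo.add_self_eq_zero])
    have hqt' : q * t' = t' * q * z := by
      have e1 := h.swap ht' hq
      rwa [show bs (π t') (π q) = 1 by
        rw [hπ, hπq, bs_comm, bs_add_left, hbw, hw, add_left_comm, CharTwo.add_self_eq_zero, add_zero], zp_one] at e1
    set qd := (⟨q, h.mem_cent hq⟩ : ↥(Subgroup.centralizer ({z} : Set G))) * d with hqd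
    have hψqd : ψ qd = ψ c := by rw [hqd, map_mul, (h.ker ⟨q, h.mem_cent hq⟩).2 hq, one_mul, hψd]
    obtain ⟨hm2, hπ2⟩ := h.π_conj d hq
    have hsq : (qd : G) * qd = 1 := by
      have e1 : (qd : G) * qd = q * ((d : G) * q * (d : G)⁻¹) := by
        show q * (d : G) * (q * d) = _
        rw [inv_eq_of_mul_eq_one_right hd]
        group
      have e2 : π (q * ((d : G) * q * (d : G)⁻¹)) = 0 := by
        rw [h.π_mul q hq _ hm2, hπ2, hψd, hπq, map_add, hcc, add_comm (ψ c w), two_V6]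
      rcases (h.π_ker _ (mul_mem hq hm2)).1 e2 with e3 | e3
      · exact e1.trans e3
      · exact (h.no_semilinear_square hu hne (c := qd) (by rw [hψqd]; exact hcs) (e1.trans e3)).elim
    refine ⟨qd, hsq, hψqd, ?_⟩
    show q * (d : G) * t' * (q * d)⁻¹ = t * t'
    calc q * (d : G) * t' * (q * d)⁻¹ = q * ((d : G) * t' * (d : G)⁻¹) * q⁻¹ := by group
      _ = q * (t * t' * z) * q⁻¹ := by rw [e]
      _ = (q * t) * t' * z * q⁻¹ := by group
      _ = t * (q * t') * z * q⁻¹ := by rw [hqt]; group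
      _ = t * t' * q * (z * z) * q⁻¹ := by rw [hqt']; group
      _ = t * t' := by rw [h.extra.z_sq]; group
  have hdt := fixT d' hd' hψd'
  have hdz : (d' : G) * z = z * d' := Subgroup.mem_centralizer_singleton_iff.1 d'.2
  refine ⟨(d' : G) * t', ?_, ?_, ?_, ?_⟩
  · exact (Commute.mul_left hdz (h.cent_z ht')).eq
  · exact (Commute.mul_left hdt hcomm.symm).eq
  · calc (d' : G) * t' * ((d' : G) * t') = (d' : G) * t' * (d' : G)⁻¹ * ((d' : G) * d') * t' := by group
      _ = t := by rw [hdt', hd', mul_one, mul_assoc, htt', mul_one]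
  · calc (d' : G) * t' * t' * ((d' : G) * t')⁻¹ = (d' : G) * t' * (d' : G)⁻¹ := by group
      _ = t * t' := hdt'

end LF

end CfsgLib.Sporadic.LargeFischer
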