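import Cfsg.Agent.Lib.Sporadic.LargeFischer.Classes

/-!
# Groups of large Fischer type: two conjugates of `Q`
-/

set_option autoImplicit false
set_option linter.style.haveILetI false
set_option linter.unusedSectionVars false

namespace CfsgLib.Sporadic.LargeFischer

open CfsgLib.ThreeTransp.Extraspecial

theorem card_stabilizer {K : Subgroup (V6 ≃ₗ[ZMod 2] V6)} (h : Model K) (v : V6) :
    (h.orb v).card * Nat.card (MulAction.stabilizer K v) = 19595520 := by
  classical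
  rw [← h.card, ← (MulAction.stabilizer K v).card_mul_index, MulAction.index_stabilizer, mul_comm]
  congr 1
  rw [show MulAction.orbit K v = (h.orb v : Set V6) from Set.ext fun w => ?_, Set.ncard_coe_finset]
  rw [Finset.mem_coe, h.mem_orb, MulAction.mem_orbit_iff]
  exact ⟨fun ⟨g, hg⟩ => ⟨g, g.2, hg⟩, fun ⟨g, hg, e⟩ => ⟨⟨g, hg⟩, e⟩⟩

namespace LF

variable {G : Type*} [Group G] [Finite G] {z : G} {Q : Subgroup (Subgroup.centralizer ({z} : Set G))} [Q.Normal]
  {π : G → V6} {ψ : ↥(Subgroup.centralizer ({z} : Set G)) →* (V6 ≃ₗ[ZMod 2] V6)} (h : LF z (qImg Q) π ψ)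
include h

theorem ker_eq : ψ.ker = Q := Subgroup.ext fun c => (MonoidHom.mem_ker.trans (h.ker c)).trans mem_qImg_coe

/-- The quotient by `Q` and the model. -/
noncomputable def quotEquiv : (↥(Subgroup.centralizer ({z} : Set G)) ⧸ Q) ≃* ψ.range :=
  (QuotientGroup.quotientMulEquivOfEq h.ker_eq.symm).trans (QuotientGroup.quotientKerEquivRange ψ)

theorem quotEquiv_mk (c : ↥(Subgroup.centralizer ({z} : Set G))) :
    (h.quotEquiv (QuotientGroup.mk c) : V6 ≃ₗ[ZMod 2] V6) = ψ c := rfl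

/-- Adjusting by an element of `Q` fixes the involution itself. -/
theorem fix_lift {s : G} (hs : s ∈ qImg Q) (h0 : π s ≠ 0) (c : ↥(Subgroup.centralizer ({z} : Set G)))
    (hc : ψ c (π s) = π s) :
    ∃ c', c'⁻¹ * c ∈ Q ∧ ψ c' = ψ c ∧ (c' : G) * s = s * (c' : G) := by
  have hm := h.norm c (Subgroup.mem_centralizer_singleton_iff.1 c.2) _ hs
  rcases (h.π_eq_iff hs hm).1 ((h.act c _ hs).trans hc).symm with e | e
  · exact ⟨c, by simp, rfl, mul_inv_eq_iff_eq_mul.1 e⟩
  · obtain ⟨q, hq, hqe⟩ := h.extra.exists_conj_eq hs (fun e => h0 (e ▸ h.π_one)) (fun e => h0 (e ▸ h.π_z))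
    set qc : ↥(Subgroup.centralizer ({z} : Set G)) := ⟨q, h.mem_cent hq⟩ with hqc
    have hqQ : qc ∈ Q := mem_qImg_coe.1 hq
    refine ⟨qc⁻¹ * c, ?_, ?_, mul_inv_eq_iff_eq_mul.1 ?_⟩
    · rw [show (qc⁻¹ * c)⁻¹ * c = c⁻¹ * qc * c by group]
      exact Subgroup.Normal.conj_mem' inferInstance _ hqQ c
    · rw [map_mul, map_inv, (h.ker qc).2 hq, inv_one, one_mul]
    · show q⁻¹ * c * s * (q⁻¹ * c)⁻¹ = s
      rw [show q⁻¹ * c * s * (q⁻¹ * c)⁻¹ = q⁻¹ * (c * s * (c : G)⁻¹) * q by group, e, ← hqe]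
      group

theorem mem_stab_image {s : G} (hs : s ∈ qImg Q) (h0 : π s ≠ 0) (x : ↥(Subgroup.centralizer ({z} : Set G)) ⧸ Q) :
    x ∈ ((Subgroup.centralizer ({z} : Set G) ⊓ Subgroup.centralizer ({s} : Set G)).subgroupOf
      (Subgroup.centralizer ({z} : Set G))).map (QuotientGroup.mk' Q) ↔
      (h.quotEquiv x : V6 ≃ₗ[ZMod 2] V6) (π s) = π s := by
  constructor
  · rintro ⟨c, hc, rfl⟩
    have hc' : (c : G) * s = s * (c : G) := Subgroup.mem_centralizer_singleton_iff.1 hc.2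
    show ψ c (π s) = π s
    rw [← h.act c s hs, hc', mul_inv_cancel_right]
  · intro hx
    induction x using QuotientGroup.induction_on with | _ c =>
    obtain ⟨c', hmem, -, hc'⟩ := h.fix_lift hs h0 c hx
    exact ⟨c', ⟨c'.2, Subgroup.mem_centralizer_singleton_iff.2 hc'⟩, QuotientGroup.eq.2 hmem⟩

/-- The structure of a pair of conjugates of `Q`. -/
theorem pair_structure {g : G} (hu : g * z * g⁻¹ ∈ qImg Q) (hne : g * z * g⁻¹ ≠ z)
    (X E : Subgroup (↥(Subgroup.centralizer ({z} : Set G)) ⧸ Q))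
    (hX : X = ((Subgroup.centralizer ({z} : Set G) ⊓ Subgroup.centralizer ({g * z * g⁻¹} : Set G)).subgroupOf
      (Subgroup.centralizer ({z} : Set G))).map (QuotientGroup.mk' Q))
    (hE : E = (((qImg Q).map (MulAut.conj g).toMonoidHom ⊓ Subgroup.centralizer ({z} : Set G)).subgroupOf
      (Subgroup.centralizer ({z} : Set G))).map (QuotientGroup.mk' Q)) :
    Cfsg.IsElementaryAbelian 2 (qImg Q ⊓ (qImg Q).map (MulAut.conj g).toMonoidHom : Subgroup G) ∧
    Nat.card ↥(qImg Q ⊓ (qImg Q).map (MulAut.conj g).toMonoidHom) = 2 ^ 7 ∧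
    E ≤ X ∧ (∀ x ∈ X, ∀ y ∈ E, x * y * x⁻¹ ∈ E) ∧ Cfsg.IsElementaryAbelian 2 E ∧ Nat.card E = 32 ∧
    ∃ _ : (E.subgroupOf X).Normal, Nonempty (↥X ⧸ E.subgroupOf X ≃* alternatingGroup (Fin 6)) := by
  classical
  obtain ⟨hsq, hcomm, hzR, hsR, h16, -⟩ := h.inter_props hu hne
  obtain ⟨Rb, -, hsing, hcard, -⟩ := h.inter_image hu hne
  have horb := h.fused_orbit hu hne
  have h' : Extra ((qImg Q).map (MulAut.conj g).toMonoidHom) (g * z * g⁻¹) := h.extra.map_conj g
  have hs1 : g * z * g⁻¹ ≠ 1 := h'.z_ne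
  have h0 : π (g * z * g⁻¹) ≠ 0 := fun e => ((h.π_ker _ hu).1 e).elim hs1 hne
  set s := g * z * g⁻¹ with hs
  set R := qImg Q ⊓ (qImg Q).map (MulAut.conj g).toMonoidHom with hR
  set Qs := (qImg Q).map (MulAut.conj g).toMonoidHom with hQs
  set A := (Qs ⊓ Subgroup.centralizer ({z} : Set G)).subgroupOf (Subgroup.centralizer ({z} : Set G)) with hA
  have hEX : E ≤ X := by
    rw [hE, hX]
    exact Subgroup.map_mono fun a ha =>
      ⟨a.2, Subgroup.mem_centralizer_singleton_iff.2 (h'.z_comm ha.1).symm⟩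
  have hnorm : ∀ x ∈ X, ∀ y ∈ E, x * y * x⁻¹ ∈ E := by
    rw [hX, hE]
    rintro _ ⟨c, hc, rfl⟩ _ ⟨a, ha, rfl⟩
    refine ⟨c * a * c⁻¹, ⟨?_, (c * a * c⁻¹).2⟩, by simp⟩
    exact mem_map_conj.2 (centralizer_conj_le h.normalizer g
      (Subgroup.mem_centralizer_singleton_iff.1 hc.2) (mem_map_conj.1 ha.1))
  have hsQ : ∀ a : ↥(Subgroup.centralizer ({z} : Set G)), (a : G) = 1 ∨ (a : G) = s → a ∈ Q := fun a ha => by
    rcases ha with e | e
    · rw [show a = 1 from Subtype.ext e]; exact one_mem _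
    · exact mem_qImg_coe.1 (e ▸ hu)
  have hElem : Cfsg.IsElementaryAbelian 2 E := by
    rw [hE]
    refine ⟨⟨⟨?_⟩⟩, ?_⟩
    · rintro ⟨_, a, ha, rfl⟩ ⟨_, b, hb, rfl⟩
      refine Subtype.ext ?_
      show (QuotientGroup.mk a : ↥(Subgroup.centralizer ({z} : Set G)) ⧸ Q) * QuotientGroup.mk b = QuotientGroup.mk b * QuotientGroup.mk a
      rw [← QuotientGroup.mk_mul, ← QuotientGroup.mk_mul, QuotientGroup.eq]
      refine hsQ _ ?_
      show ((a : G) * b)⁻¹ * (b * a) = 1 ∨ ((a : G) * b)⁻¹ * (b * a) = s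
      have ea : (a : G) * b * (a : G)⁻¹ = b ∨ (a : G) * b * (a : G)⁻¹ = b * s := h'.conj_cases hb.1 ha.1
      rcases ea with e | e <;> rw [mul_inv_eq_iff_eq_mul.1 e]
      · exact Or.inl (inv_mul_cancel _)
      · refine Or.inr (inv_mul_eq_iff_eq_mul.2 ?_)
        rw [mul_assoc (b : G) s, (h'.z_comm ha.1 : s * (a : G) = a * s), mul_assoc (b : G), mul_assoc (a : G), h'.z_sq, mul_one]
    · rintro _ ⟨a, ha, rfl⟩
      rw [pow_two]
      show (QuotientGroup.mk a : ↥(Subgroup.centralizer ({z} : Set G)) ⧸ Q) * QuotientGroup.mk a = 1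
      rw [← QuotientGroup.mk_mul, QuotientGroup.eq_one_iff]
      exact hsQ _ (h'.sq_cases ha.1)
  -- orders
  have hA4096 : Nat.card A = 4096 := by
    have hgz : g⁻¹ * z * g ∈ qImg Q := h.symm_mem hu hne
    have hne' : g⁻¹ * z * g ≠ z := fun e => hne (calc
      s = g * z * g⁻¹ := hs
      _ = g * (g⁻¹ * z * g) * g⁻¹ := by rw [e]
      _ = z := by group)
    have h1' : g⁻¹ * z * g ≠ 1 := fun e => h.extra.z_ne (by
      have := congrArg (fun t => g * t * g⁻¹) e; simpa [mul_assoc] using this)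
    rw [Nat.card_congr (Subgroup.subgroupOfEquivOfLe (inf_le_right :
      Qs ⊓ Subgroup.centralizer ({z} : Set G) ≤ _)).toEquiv, ← h.card_half hgz h1' hne']
    refine Nat.card_congr (Equiv.subtypeEquiv (MulAut.conj g⁻¹).toEquiv fun a => ?_)
    show a ∈ Qs ⊓ _ ↔ g⁻¹ * a * g⁻¹⁻¹ ∈ _
    rw [inv_inv, Subgroup.mem_inf, Subgroup.mem_inf, hQs, mem_map_conj, Subgroup.mem_centralizer_singleton_iff,
      Subgroup.mem_centralizer_singleton_iff]
    refine and_congr Iff.rfl ⟨fun e => ?_, fun e => ?_⟩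
    · calc g⁻¹ * a * g * (g⁻¹ * z * g) = g⁻¹ * (a * z) * g := by group
        _ = g⁻¹ * z * g * (g⁻¹ * a * g) := by rw [e]; group
    · calc a * z = g * (g⁻¹ * a * g * (g⁻¹ * z * g)) * g⁻¹ := by group
        _ = z * a := by rw [e]; group
  have hRE : Nat.card R * Nat.card E = 4096 := by
    rw [← hA4096, ← ((QuotientGroup.mk' Q).subgroupMap A).ker.card_mul_index, Subgroup.index_ker,
      MonoidHom.range_eq_top.2 (MonoidHom.subgroupMap_surjective _ _), Subgroup.card_top]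
    have hEA : Nat.card E = Nat.card ↥(A.map (QuotientGroup.mk' Q)) := by rw [hE]
    rw [hEA]
    congr 1
    have hz' : ∀ r ∈ R, r ∈ Subgroup.centralizer ({z} : Set G) := fun r hr => h.mem_cent hr.1
    have hrA : ∀ r : ↥R, (⟨(r : G), hz' r r.2⟩ : ↥(Subgroup.centralizer ({z} : Set G))) ∈ A := fun r => by
      rw [hA, Subgroup.mem_subgroupOf]
      exact ⟨r.2.2, hz' r r.2⟩
    refine Nat.card_congr
      { toFun := fun r => ⟨⟨⟨r, hz' r r.2⟩, hrA r⟩,
          Subtype.ext ((QuotientGroup.eq_one_iff _).2 ((mem_qImg_coe (Q := Q)).1 r.2.1))⟩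
        invFun := fun a => ⟨((a : ↥A) : ↥(Subgroup.centralizer ({z} : Set G))),
          Subgroup.mem_inf.2 ⟨mem_qImg_coe.2 ((QuotientGroup.eq_one_iff _).1 (congrArg Subtype.val a.2)), (a : ↥A).2.1⟩⟩
        left_inv := fun r => rfl
        right_inv := fun a => rfl }
  have hR128 : Nat.card R ≤ 128 := by have := singular_card_le Rb hsing; omega
  have hXcard : Nat.card X = 11520 := by
    have hst := card_stabilizer h.model (π s)
    rw [show (h.model.orb (π s)).card = 1701 by rw [horb]; exact h.model.two_orbits.2.2.1] at hst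
    have : Nat.card X = Nat.card (MulAction.stabilizer ψ.range (π s)) :=
      Nat.card_congr (Equiv.subtypeEquiv h.quotEquiv.toEquiv fun x => by
        rw [hX, h.mem_stab_image hu h0]
        exact (MulAction.mem_stabilizer_iff (g := h.quotEquiv x) (a := π s)).symm)
    omega
  -- the alternating group
  obtain ⟨k, hk⟩ := h.model.two_orbits.2.2.2.2
  obtain ⟨d, hd, hdk⟩ := h.model.mem_orb.1 ((horb.trans hk.symm) ▸ h.model.self_mem (π s) : π s ∈ h.model.orb (c6 k))
  let T : ↥(alternatingGroup (Fin 6)) →* ↥(ψ.range) :=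
    ((MulAut.conj (⟨d, hd⟩ : ↥(ψ.range))).toMonoidHom).comp ((twistPerm k).codRestrict ψ.range fun p => twistPerm_mem h.model k p)
  have hTinj : Function.Injective T := fun p q e =>
    twistPerm_injective k (congrArg Subtype.val ((MulAut.conj (⟨d, hd⟩ : ↥(ψ.range))).injective e))
  have hTX : ∀ p, h.quotEquiv.symm (T p) ∈ X := fun p => by
    rw [hX, h.mem_stab_image hu h0, h.quotEquiv.apply_symm_apply]
    show d (twistPerm k p (d.symm (π s))) = π s
    rw [← hdk, d.symm_apply_apply, twistPerm_fix]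
  let Φ : ↥(alternatingGroup (Fin 6)) →* ↥X :=
    (h.quotEquiv.symm.toMonoidHom.comp T).codRestrict X hTX
  have hΦ : Function.Injective Φ := fun p q e => hTinj (h.quotEquiv.symm.injective (congrArg Subtype.val e))
  haveI hn : (E.subgroupOf X).Normal := ⟨fun y hy x => hnorm x x.2 y hy⟩
  haveI : IsSimpleGroup (alternatingGroup (Fin 6)) := alternatingGroup.isSimpleGroup (by simp)
  let η := (QuotientGroup.mk' (E.subgroupOf X)).comp Φ
  have hη : Function.Injective η := by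
    rw [← MonoidHom.ker_eq_bot_iff]
    refine (η.normal_ker.eq_bot_or_eq_top).resolve_right fun e => ?_
    have hsq : ∀ p : ↥(alternatingGroup (Fin 6)), p * p = 1 := fun p => hΦ (by
      have hp : p ∈ η.ker := by rw [e]; trivial
      have hp' : (Φ p : ↥(Subgroup.centralizer ({z} : Set G)) ⧸ Q) ∈ E := (QuotientGroup.eq_one_iff (Φ p)).1 hp
      rw [map_mul, map_one]
      exact Subtype.ext (by rw [Subgroup.coe_mul, ← pow_two]; exact hElem.2 _ hp'))
    have := hsq ⟨finRotate 3 |>.extendDomain (Fin.castLEquiv (by norm_num : 3 ≤ 6)), by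
      rw [Equiv.Perm.mem_alternatingGroup, Equiv.Perm.sign_extendDomain]; decide⟩
    revert this
    decide
  have hle := Nat.card_le_card_of_injective η hη
  have h360 : Nat.card (alternatingGroup (Fin 6)) = 360 := by
    rw [nat_card_alternatingGroup, Nat.card_eq_fintype_card, Fintype.card_fin]
    rfl
  have hmul := (E.subgroupOf X).card_mul_index
  rw [Subgroup.index_eq_card, Nat.card_congr (Subgroup.subgroupOfEquivOfLe hEX).toEquiv, hXcard] at hmul
  rw [h360] at hle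
  have hE32 : Nat.card E = 32 := by nlinarith
  have hR7 : Nat.card R = 128 := by rw [hE32] at hRE; omega
  refine ⟨⟨⟨⟨fun a b => Subtype.ext (hcomm a a.2 b b.2)⟩⟩, fun a ha => by rw [pow_two]; exact hsq a ha⟩,
    hR7, hEX, hnorm, hElem, hE32, hn, ⟨(MulEquiv.ofBijective η ((Nat.bijective_iff_injective_and_card η).2 ⟨hη, ?_⟩)).symm⟩⟩
  rw [hE32] at hmul
  rw [h360]
  omega

end LF

end CfsgLib.Sporadic.LargeFischer
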