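import Cfsg.Agent.Lib.Sporadic.LargeFischer.Setup

/-!
# Groups of large Fischer type: the classes of `C(z)` on the involutions of `Q`
-/

set_option autoImplicit false
set_option linter.style.haveILetI false
set_option linter.unusedSectionVars false

namespace CfsgLib.Sporadic.LargeFischer

open CfsgLib.ThreeTransp.Extraspecial

theorem c2_facts : qs c2 = 0 ∧ qs c4 = 0 ∧ c2 ≠ 0 ∧ c4 ≠ 0 := by decide

namespace LFBase

variable {G : Type*} [Group G] [Finite G] {z : G} {Q : Subgroup G} {π : G → V6}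
  {ψ : ↥(Subgroup.centralizer ({z} : Set G)) →* (V6 ≃ₗ[ZMod 2] V6)} (h : LFBase z Q π ψ)
include h

theorem mem_cent {a : G} (ha : a ∈ Q) : a ∈ Subgroup.centralizer ({z} : Set G) := h.extra.le_centralizer ha

theorem π_z : π z = 0 := (h.π_ker z h.extra.z_mem).2 (Or.inr rfl)

theorem π_one : π 1 = 0 := (h.π_ker 1 (one_mem _)).2 (Or.inl rfl)

theorem π_inv {a : G} (ha : a ∈ Q) : π a⁻¹ = π a := by
  have e := h.π_mul a ha a⁻¹ (inv_mem ha)
  rw [mul_inv_cancel, h.π_one] at e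
  have two : π a + π a = 0 := funext fun i => CharTwo.add_self_eq_zero _
  exact add_left_cancel (e.symm.trans two.symm)

theorem π_eq_iff {a b : G} (ha : a ∈ Q) (hb : b ∈ Q) : π a = π b ↔ b = a ∨ b = a * z := by
  have two : π a + π a = 0 := funext fun i => CharTwo.add_self_eq_zero _
  constructor
  · intro e
    have h1 : π (a⁻¹ * b) = 0 := by rw [h.π_mul _ (inv_mem ha) _ hb, h.π_inv ha, ← e, two]
    rcases (h.π_ker _ (mul_mem (inv_mem ha) hb)).1 h1 with e1 | e1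
    · exact Or.inl (inv_mul_eq_one.1 e1).symm
    · exact Or.inr (inv_mul_eq_iff_eq_mul.1 e1)
  · rintro (rfl | rfl)
    · rfl
    · rw [h.π_mul a ha z h.extra.z_mem, h.π_z, add_zero]

/-- An involution of `Q` other than `z` lies over a singular non-zero vector. -/
theorem π_involution {a : G} (ha : a ∈ Q) (h2 : orderOf a = 2) (hne : a ≠ z) : qs (π a) = 0 ∧ π a ≠ 0 := by
  refine ⟨(h.q_iff a ha).2 ?_, fun e => ?_⟩
  · have := pow_orderOf_eq_one a
    rwa [h2, pow_two] at this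
  · rcases (h.π_ker a ha).1 e with e1 | e1
    · rw [e1, orderOf_one] at h2; omega
    · exact hne e1

/-- Elements over vectors in one orbit are conjugate. -/
theorem conj_of_π {a b : G} (ha : a ∈ Q) (hb : b ∈ Q) (h0 : π b ≠ 0) (c : ↥(Subgroup.centralizer ({z} : Set G)))
    (hc : ψ c (π a) = π b) : ∃ d : ↥(Subgroup.centralizer ({z} : Set G)), (d : G) * a * (d : G)⁻¹ = b := by
  have hm := h.norm c (Subgroup.mem_centralizer_singleton_iff.1 c.2) a ha
  have e : π ((c : G) * a * (c : G)⁻¹) = π b := (h.act c a ha).trans hc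
  rcases (h.π_eq_iff hm hb).1 e with e1 | e1
  · exact ⟨c, e1.symm⟩
  · have h1 : (c : G) * a * (c : G)⁻¹ ≠ 1 := fun e2 => h0 (by rw [← e, e2, h.π_one])
    have h2 : (c : G) * a * (c : G)⁻¹ ≠ z := fun e2 => h0 (by rw [← e, e2, h.π_z])
    obtain ⟨q, hq, hqe⟩ := h.extra.exists_conj_eq hm h1 h2
    refine ⟨⟨q, h.mem_cent hq⟩ * c, ?_⟩
    show q * c * a * (q * c)⁻¹ = b
    rw [show q * c * a * (q * c)⁻¹ = q * (c * a * (c : G)⁻¹) * q⁻¹ by group, hqe, e1]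

theorem exists_lift {v : V6} (hq : qs v = 0) (hv : v ≠ 0) : ∃ a ∈ Q, π a = v ∧ orderOf a = 2 ∧ a ≠ z := by
  obtain ⟨a, ha, e⟩ := h.π_surj v
  refine ⟨a, ha, e, orderOf_eq_prime (hp := ⟨Nat.prime_two⟩) ?_ ?_, ?_⟩
  · rw [pow_two]; exact (h.q_iff a ha).1 (by rw [e, hq])
  · intro e1; exact hv (by rw [← e, e1, h.π_one])
  · intro e1; exact hv (by rw [← e, e1, h.π_z])

theorem normalizer : Subgroup.centralizer ({z} : Set G) ≤ Subgroup.normalizer (Q : Set G) := by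
  intro c hc
  have hc' := Subgroup.mem_centralizer_singleton_iff.1 hc
  refine Subgroup.mem_normalizer_iff.2 fun a => ⟨fun ha => h.norm c hc' a ha, fun ha => ?_⟩
  have := h.norm c⁻¹ (Commute.inv_left hc') _ ha
  simpa [mul_assoc] using this

/-- The half of `Q` centralising one of its involutions. -/
theorem card_half {s : G} (hs : s ∈ Q) (h1 : s ≠ 1) (hne : s ≠ z) :
    Nat.card ↥(Q ⊓ Subgroup.centralizer ({s} : Set G)) = 4096 := by
  set D := Q ⊓ Subgroup.centralizer ({s} : Set G) with hD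
  have hmem : ∀ b : ↥Q, b ∈ D.subgroupOf Q ↔ (b : G) * s * (b : G)⁻¹ = s := fun b => by
    rw [Subgroup.mem_subgroupOf, hD, Subgroup.mem_inf, Subgroup.mem_centralizer_singleton_iff, mul_inv_eq_iff_eq_mul]
    exact ⟨fun e => e.2, fun e => ⟨b.2, e⟩⟩
  obtain ⟨q, hq, hqe⟩ := h.extra.exists_conj_eq hs h1 hne
  have hidx : (D.subgroupOf Q).index = 2 := Subgroup.index_eq_two_iff.2 ⟨⟨q, hq⟩, fun b => by
    rw [hmem, hmem]
    have e : ((b * ⟨q, hq⟩ : ↥Q) : G) * s * ((b * ⟨q, hq⟩ : ↥Q) : G)⁻¹ = (b : G) * s * (b : G)⁻¹ * z := by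
      show (b : G) * q * s * ((b : G) * q)⁻¹ = _
      calc (b : G) * q * s * ((b : G) * q)⁻¹ = b * (q * s * q⁻¹) * (b : G)⁻¹ := by group
        _ = b * s * (z * (b : G)⁻¹) := by rw [hqe]; group
        _ = _ := by rw [h.extra.z_comm (inv_mem b.2)]; group
    rw [e]
    rcases h.extra.conj_cases hs b.2 with c | c <;> rw [c]
    · exact Or.inr ⟨rfl, fun e1 => h.extra.z_ne (mul_eq_left.1 e1)⟩
    · exact Or.inl ⟨by rw [mul_assoc, h.extra.z_sq, mul_one], fun e1 => h.extra.z_ne (mul_eq_left.1 e1)⟩⟩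
  have := (D.subgroupOf Q).card_mul_index
  rw [hidx, Nat.card_congr (Subgroup.subgroupOfEquivOfLe (inf_le_left : D ≤ Q)).toEquiv, h.card_Q] at this
  change Nat.card ↥D * 2 = 8192 at this
  omega

/-- The symmetry: `z` lies in the conjugate of `Q` belonging to a conjugate of `z` inside `Q`. -/
theorem symm_mem_of (hnp : ¬ IsPGroup 2 ↥(Subgroup.centralizer ({z} : Set G))) {g : G} (hu : g * z * g⁻¹ ∈ Q) (hne : g * z * g⁻¹ ≠ z) : g⁻¹ * z * g ∈ Q := by
  refine mem_conj_of_nonabelian h.extra h.cent_le h.normalizer hu hne ?_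
  by_contra hc
  push Not at hc
  refine hnp (isPGroup_centralizer_of_abelian h.extra h.cent_le h.normalizer hu
    (fun e => h.extra.z_ne (conj_eq_one_iff.1 e)) hne ?_ fun b hb c hc' hbu hcu => hc b hb c hc' hbu hcu)
  rw [show g * z * g⁻¹ * (g * z * g⁻¹) = g * (z * z) * g⁻¹ by group, h.extra.z_sq, mul_one, mul_inv_cancel]

end LFBase

namespace LF

variable {G : Type*} [Group G] [Finite G] {z : G} {Q : Subgroup G} {π : G → V6}
  {ψ : ↥(Subgroup.centralizer ({z} : Set G)) →* (V6 ≃ₗ[ZMod 2] V6)} (h : LF z Q π ψ)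
include h

/-- Exactly two orbits. -/
theorem two_classes : ∃ s t : G, s ∈ Q ∧ t ∈ Q ∧ orderOf s = 2 ∧ orderOf t = 2 ∧ s ≠ z ∧ t ≠ z ∧
    (¬ ∃ d : ↥(Subgroup.centralizer ({z} : Set G)), (d : G) * s * (d : G)⁻¹ = t) ∧
    ∀ x ∈ Q, orderOf x = 2 → x ≠ z → (∃ d : ↥(Subgroup.centralizer ({z} : Set G)), (d : G) * s * (d : G)⁻¹ = x) ∨
      ∃ d : ↥(Subgroup.centralizer ({z} : Set G)), (d : G) * t * (d : G)⁻¹ = x := by
  obtain ⟨hq2, hq4, hn2, hn4⟩ := c2_facts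
  obtain ⟨hne, -, -, hall, -⟩ := h.model.two_orbits
  obtain ⟨s, hs, es, os, ns⟩ := h.exists_lift hq2 hn2
  obtain ⟨t, ht, et, ot, nt⟩ := h.exists_lift hq4 hn4
  refine ⟨s, t, hs, ht, os, ot, ns, nt, ?_, fun x hx h2 hxz => ?_⟩
  · rintro ⟨d, hd⟩
    refine hne (h.model.orb_eq (h.model.mem_orb.2 ⟨ψ d, ⟨d, rfl⟩, ?_⟩)).symm
    rw [← es, ← et, ← hd, h.act d s hs]
  · obtain ⟨hq, hv⟩ := h.π_involution hx h2 hxz
    have key : ∀ a ∈ Q, h.model.orb (π x) = h.model.orb (π a) →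
        ∃ d : ↥(Subgroup.centralizer ({z} : Set G)), (d : G) * a * (d : G)⁻¹ = x := by
      intro a ha e
      obtain ⟨g, ⟨c, rfl⟩, hg⟩ := h.model.mem_orb.1 (e ▸ h.model.self_mem (π x))
      exact h.conj_of_π ha hx hv c hg
    rcases hall _ hq hv with e | e
    · exact Or.inl (key s hs (es ▸ e))
    · exact Or.inr (key t ht (et ▸ e))

theorem not_isPGroup : ¬ IsPGroup 2 ↥(Subgroup.centralizer ({z} : Set G)) := by
  intro hp
  haveI : Fact (Nat.Prime 2) := ⟨Nat.prime_two⟩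
  haveI := h.model.finite_K
  obtain ⟨n, hn⟩ := IsPGroup.iff_card.1 (hp.of_surjective ψ.rangeRestrict ψ.rangeRestrict_surjective)
  rw [h.model.card] at hn
  have h3 : 3 ∣ 2 ^ n := hn ▸ (by norm_num : 3 ∣ 19595520)
  exact absurd (Nat.prime_three.dvd_of_dvd_pow h3) (by norm_num)

/-- The symmetry: `z` lies in the conjugate of `Q` belonging to a conjugate of `z` inside `Q`. -/
theorem symm_mem {g : G} (hu : g * z * g⁻¹ ∈ Q) (hne : g * z * g⁻¹ ≠ z) : g⁻¹ * z * g ∈ Q :=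
  h.symm_mem_of h.not_isPGroup hu hne

/-- The intersection of `Q` with one of its conjugates. -/
theorem inter_props {g : G} (hu : g * z * g⁻¹ ∈ Q) (hne : g * z * g⁻¹ ≠ z) :
    let R := Q ⊓ Q.map (MulAut.conj g).toMonoidHom
    (∀ a ∈ R, a * a = 1) ∧ (∀ a ∈ R, ∀ b ∈ R, a * b = b * a) ∧ z ∈ R ∧ g * z * g⁻¹ ∈ R ∧ 16 ≤ Nat.card R ∧
    ∀ c : ↥(Subgroup.centralizer ({z} : Set G)), (c : G) * (g * z * g⁻¹) = g * z * g⁻¹ * c →
      ∀ a ∈ R, (c : G) * a * (c : G)⁻¹ ∈ R := by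
  intro R
  set s := g * z * g⁻¹ with hs
  have h' : Extra (Q.map (MulAut.conj g).toMonoidHom) s := h.extra.map_conj g
  have hzR : z ∈ R := ⟨h.extra.z_mem, mem_map_conj.2 (h.symm_mem hu hne)⟩
  have hsR : s ∈ R := ⟨hu, h'.z_mem⟩
  have hsq : ∀ a ∈ R, a * a = 1 := fun a ha => by
    rcases h.extra.sq_cases ha.1 with e | e
    · exact e
    · rcases h'.sq_cases ha.2 with e' | e'
      · exact e'
      · exact absurd (e'.symm.trans e) hne
  have hcomm : ∀ a ∈ R, ∀ b ∈ R, a * b = b * a := fun a ha b hb => by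
    rcases h.extra.conj_cases hb.1 ha.1 with e | e
    · exact mul_inv_eq_iff_eq_mul.1 e
    · rcases h'.conj_cases hb.2 ha.2 with e' | e'
      · exact mul_inv_eq_iff_eq_mul.1 e'
      · exact absurd (mul_left_cancel (e'.symm.trans e)) hne
  refine ⟨hsq, hcomm, hzR, hsR, ?_, fun c hc a ha =>
    ⟨h.norm c (Subgroup.mem_centralizer_singleton_iff.1 c.2) a ha.1,
      mem_map_conj.2 (centralizer_conj_le h.normalizer g hc (mem_map_conj.1 ha.2))⟩⟩
  -- lower bound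
  have hs1 : s ≠ 1 := h'.z_ne
  set D := Q ⊓ Subgroup.centralizer ({s} : Set G) with hD
  have hDs : ∀ d : ↥D, (d : G) * s = s * d := fun d => Subgroup.mem_centralizer_singleton_iff.1 d.2.2
  have hin : ∀ d : ↥D, g⁻¹ * d * g ∈ Subgroup.centralizer ({z} : Set G) := fun d => by
    rw [Subgroup.mem_centralizer_singleton_iff]
    calc g⁻¹ * d * g * z = g⁻¹ * ((d : G) * s) * g := by rw [hs]; group
      _ = z * (g⁻¹ * d * g) := by rw [hDs d, hs]; group
  let f : ↥D →* (V6 ≃ₗ[ZMod 2] V6) := ψ.comp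
    { toFun := fun d => ⟨g⁻¹ * d * g, hin d⟩
      map_one' := Subtype.ext (by simp)
      map_mul' := fun a b => Subtype.ext (by simp [mul_assoc]) }
  have hf : ∀ d : ↥D, f d = 1 ↔ (d : G) ∈ R := fun d => by
    show ψ ⟨g⁻¹ * d * g, hin d⟩ = 1 ↔ _
    rw [h.ker]
    exact ⟨fun e => ⟨d.2.1, mem_map_conj.2 e⟩, fun e => mem_map_conj.1 e.2⟩
  have hRD : R ≤ D := fun a ha => ⟨ha.1, Subgroup.mem_centralizer_singleton_iff.2 (h'.z_comm ha.2).symm⟩
  have hk : Nat.card f.ker = Nat.card R := by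
    rw [show f.ker = R.subgroupOf D by ext d; rw [MonoidHom.mem_ker, hf, Subgroup.mem_subgroupOf],
      Nat.card_congr (Subgroup.subgroupOfEquivOfLe hRD).toEquiv]
  have hmul := f.ker.card_mul_index
  rw [Subgroup.index_ker, hk, h.card_half hu hs1 hne] at hmul
  have h1 : Nat.card f.range ∣ 19595520 := by
    rw [← h.model.card]
    exact Subgroup.card_dvd_of_le (fun x ⟨a, ha⟩ => ⟨_, ha⟩)
  have h2 : Nat.card f.range ∣ 4096 := ⟨Nat.card R, by rw [← hmul, mul_comm]⟩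
  have h3 : Nat.card f.range ≤ 256 :=
    Nat.le_of_dvd (by norm_num) ((Nat.dvd_gcd h1 h2).trans (by norm_num))
  nlinarith

/-- The image of the intersection. -/
theorem inter_image {g : G} (hu : g * z * g⁻¹ ∈ Q) (hne : g * z * g⁻¹ ≠ z) :
    ∃ Rb : AddSubgroup V6, (∀ v, v ∈ Rb ↔ ∃ a ∈ Q ⊓ Q.map (MulAut.conj g).toMonoidHom, π a = v) ∧
      (∀ v ∈ Rb, qs v = 0) ∧ 2 * Nat.card Rb = Nat.card ↥(Q ⊓ Q.map (MulAut.conj g).toMonoidHom) ∧
      ∀ k ∈ ψ.range, k (π (g * z * g⁻¹)) = π (g * z * g⁻¹) → ∀ v ∈ Rb, k v ∈ Rb := by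
  obtain ⟨hsq, -, hzR, hsR, -, hinv⟩ := h.inter_props hu hne
  set R := Q ⊓ Q.map (MulAut.conj g).toMonoidHom with hR
  let φ : Additive ↥R →+ V6 := AddMonoidHom.mk' (fun a => π (a.toMul : ↥R)) fun a b =>
    h.π_mul _ (a.toMul : ↥R).2.1 _ (b.toMul : ↥R).2.1
  refine ⟨φ.range, fun v => ⟨?_, ?_⟩, ?_, ?_, ?_⟩
  · rintro ⟨a, rfl⟩; exact ⟨_, (a.toMul : ↥R).2, rfl⟩
  · rintro ⟨a, ha, rfl⟩; exact ⟨Additive.ofMul ⟨a, ha⟩, rfl⟩
  · rintro _ ⟨a, rfl⟩
    exact (h.q_iff _ (a.toMul : ↥R).2.1).2 (hsq _ (a.toMul : ↥R).2)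
  · have hk : Nat.card φ.ker = 2 := by
      have e : (φ.ker : Set (Additive ↥R)) = {0, Additive.ofMul ⟨z, hzR⟩} := by
        ext a
        rw [SetLike.mem_coe, AddMonoidHom.mem_ker]
        show π ((a.toMul : ↥R) : G) = 0 ↔ _
        rw [h.π_ker _ (a.toMul : ↥R).2.1]
        exact or_congr ⟨fun e => Additive.toMul.injective (Subtype.ext e), fun e => by rw [e]; rfl⟩
          ⟨fun e => Additive.toMul.injective (Subtype.ext e), fun e => by rw [e]; rfl⟩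
      rw [← SetLike.coe_sort_coe, Nat.card_coe_set_eq, e, Set.ncard_pair]
      exact fun e1 => h.extra.z_ne (congrArg (fun a : Additive ↥R => ((a.toMul : ↥R) : G)) e1).symm
    have := φ.ker.card_mul_index
    rw [AddSubgroup.index_ker, hk] at this
    exact this.trans (Nat.card_congr Additive.toMul)
  · rintro _ ⟨c, rfl⟩ hfix _ ⟨a, rfl⟩
    obtain ⟨c', hψ, hc'⟩ : ∃ c', ψ c' = ψ c ∧ (c' : G) * (g * z * g⁻¹) * (c' : G)⁻¹ = g * z * g⁻¹ := by
      have hm := h.norm c (Subgroup.mem_centralizer_singleton_iff.1 c.2) _ hu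
      rcases (h.π_eq_iff hu hm).1 ((h.act c _ hu).trans hfix).symm with e | e
      · exact ⟨c, rfl, e⟩
      · obtain ⟨q, hq, hqe⟩ := h.extra.exists_conj_eq hu (fun e => h.extra.z_ne (conj_eq_one_iff.1 e)) hne
        refine ⟨(⟨q, h.mem_cent hq⟩ : ↥(Subgroup.centralizer ({z} : Set G)))⁻¹ * c, ?_, ?_⟩
        · rw [map_mul, map_inv, (h.ker ⟨q, h.mem_cent hq⟩).2 hq, inv_one, one_mul]
        · show q⁻¹ * c * (g * z * g⁻¹) * (q⁻¹ * c)⁻¹ = g * z * g⁻¹
          rw [show q⁻¹ * c * (g * z * g⁻¹) * (q⁻¹ * c)⁻¹ = q⁻¹ * (c * (g * z * g⁻¹) * (c : G)⁻¹) * q by group, e, ← hqe]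
          group
    refine ⟨Additive.ofMul ⟨(c' : G) * (a.toMul : ↥R) * (c' : G)⁻¹,
      hinv c' (mul_inv_eq_iff_eq_mul.1 hc') _ (a.toMul : ↥R).2⟩, ?_⟩
    show π ((c' : G) * (a.toMul : ↥R) * (c' : G)⁻¹) = ψ c (π ((a.toMul : ↥R) : G))
    rw [h.act c' _ (a.toMul : ↥R).2.1, hψ]

/-- Conjugates of `z` in `Q` lie over the orbit of the vectors of weight four. -/
theorem fused_orbit {g : G} (hu : g * z * g⁻¹ ∈ Q) (hne : g * z * g⁻¹ ≠ z) :
    h.model.orb (π (g * z * g⁻¹)) = h.model.orb c4 := by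
  have hs2 : g * z * g⁻¹ * (g * z * g⁻¹) = 1 := by
    rw [show g * z * g⁻¹ * (g * z * g⁻¹) = g * (z * z) * g⁻¹ by group, h.extra.z_sq, mul_one, mul_inv_cancel]
  have hs1 : g * z * g⁻¹ ≠ 1 := fun e => h.extra.z_ne (conj_eq_one_iff.1 e)
  have hv : π (g * z * g⁻¹) ≠ 0 := fun e => ((h.π_ker _ hu).1 e).elim hs1 hne
  rcases h.model.two_orbits.2.2.2.1 _ ((h.q_iff _ hu).2 hs2) hv with e | e
  · exfalso
    obtain ⟨k, hk, hkv⟩ := h.model.mem_orb.1 (e.symm ▸ h.model.self_mem c2 : c2 ∈ h.model.orb (π (g * z * g⁻¹)))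
    obtain ⟨Rb, hRb, hsing, hcard, hinv⟩ := h.inter_image hu hne
    have h16 := (h.inter_props hu hne).2.2.2.2.1
    have := small_invariant h.model (Rb.map k.toAddEquiv.toAddMonoidHom) ?_ ?_
    · rw [AddSubgroup.card_map_of_injective (f := k.toAddEquiv.toAddMonoidHom) k.injective] at this
      omega
    · rintro _ ⟨w, hw, rfl⟩
      show qs (k w) = 0
      rw [h.model.quad k hk, hsing w hw]
    · rintro d hd hdc _ ⟨w, hw, rfl⟩
      refine ⟨(k⁻¹ * d * k) w, hinv _ (mul_mem (mul_mem (inv_mem hk) hd) hk) ?_ w hw, ?_⟩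
      · show k.symm (d (k _)) = _
        rw [hkv, hdc, ← hkv, k.symm_apply_apply]
      · show k (k.symm (d (k w))) = d (k w)
        rw [k.apply_symm_apply]
  · exact e

/-- The conjugates of `z` in `Q` other than `z` form one orbit. -/
theorem one_orbit {s t : G} (hs : s ∈ Q) (ht : t ∈ Q) (cs : IsConj z s) (ct : IsConj z t) (hs1 : s ≠ z) (ht1 : t ≠ z) :
    ∃ d : ↥(Subgroup.centralizer ({z} : Set G)), (d : G) * s * (d : G)⁻¹ = t := by
  obtain ⟨g, rfl⟩ := isConj_iff.1 cs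
  obtain ⟨g', rfl⟩ := isConj_iff.1 ct
  have e1 := h.fused_orbit hs hs1
  have e2 := h.fused_orbit ht ht1
  obtain ⟨k, ⟨c, rfl⟩, hk⟩ := h.model.mem_orb.1 ((e2.trans e1.symm) ▸ h.model.self_mem (π (g' * z * g'⁻¹)))
  refine h.conj_of_π hs ht (fun e => ((h.π_ker _ ht).1 e).elim (fun e3 => h.extra.z_ne (conj_eq_one_iff.1 e3)) ht1) c hk

end LF

end CfsgLib.Sporadic.LargeFischer
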