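import Cfsg.Agent.Lib.Sporadic.LargeFischer.Split
import Cfsg.Prelude.Def_CaseTheorems

/-!
# Groups of large Fischer type: the centraliser of the subgroup of order three is `6·PSU₄(3)`
-/

set_option autoImplicit false
set_option linter.style.haveILetI false
set_option linter.unusedSectionVars false

namespace CfsgLib.Sporadic.LargeFischer

open CfsgLib.ThreeTransp.Extraspecial
open scoped commutatorElement

/-- The phases whose difference along two disjoint cycles is constant. -/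
def stair : Fin 6 → ZMod 3 := ![0, 1, 2, 0, 1, 2]

/-- Two disjoint cycles. -/
def twoCycles : Equiv.Perm (Fin 6) := Equiv.swap 0 1 * Equiv.swap 1 2 * Equiv.swap 3 4 * Equiv.swap 4 5

theorem stair_facts : twoCycles ∈ alternatingGroup (Fin 6) ∧ ∑ i, stair i = 0 ∧
    ∀ i, stair (twoCycles.symm i) + -stair i = 2 := by
  refine ⟨?_, by decide +kernel, by decide +kernel⟩
  rw [Equiv.Perm.mem_alternatingGroup]
  decide +kernel

theorem omp_two : ∀ d : D4, omp 2 d = om (om d) := by decide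

namespace LFBase

variable {G : Type*} [Group G] [Finite G] {z : G} {Q : Subgroup (Subgroup.centralizer ({z} : Set G))} [Q.Normal]
  {π : G → V6} {ψ : ↥(Subgroup.centralizer ({z} : Set G)) →* (V6 ≃ₗ[ZMod 2] V6)} (h : LFBase z (qImg Q) π ψ)
include h

/-- An element of `Q` commuting with `x` is central. -/
theorem Q_fixed {x : ↥(Subgroup.centralizer ({z} : Set G))} (hx : ∀ v, ψ x v = omV v) {a : G} (ha : a ∈ qImg Q)
    (hc : (x : G) * a = a * x) : a = 1 ∨ a = z := by
  refine (h.π_ker a ha).1 ?_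
  obtain ⟨-, e⟩ := h.π_conj x ha
  rw [hc, mul_inv_cancel_right, hx] at e
  exact funext fun i => (omV_om (π a i)).2.2 (congrFun e i).symm

/-- Elements of `M` are adjusted inside `Q` to commute with `x`. -/
theorem exists_commuting {x : ↥(Subgroup.centralizer ({z} : Set G))} (hx : ∀ v, ψ x v = omV v) (h3 : x ^ 3 = 1)
    (c : ↥(Subgroup.centralizer ({z} : Set G))) (hc : ∀ w, ψ c (omV w) = omV (ψ c w)) :
    ∃ d, Commute d x ∧ ψ d = ψ c := by
  set y := c * x * c⁻¹ with hy
  have hψy : ψ y = ψ x := by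
    rw [hy, map_mul, map_mul, map_inv, mul_inv_eq_iff_eq_mul]
    refine LinearEquiv.ext fun v => ?_
    show ψ c (ψ x v) = ψ x (ψ c v)
    rw [hx, hx, hc]
  have hq₀ : ((x⁻¹ * y : ↥(Subgroup.centralizer ({z} : Set G))) : G) ∈ qImg Q :=
    (h.ker _).1 (by rw [map_mul, map_inv, hψy, inv_mul_cancel])
  obtain ⟨q, hq, hπq⟩ := h.π_surj (omV (omV (π ((x⁻¹ * y : ↥(Subgroup.centralizer ({z} : Set G))) : G))))
  set qc : ↥(Subgroup.centralizer ({z} : Set G)) := ⟨q, h.mem_cent hq⟩ with hqc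
  have hψq : ψ qc = 1 := (h.ker qc).2 hq
  set r := x⁻¹ * (qc * x * qc⁻¹) with hr
  have hrQ : (r : G) ∈ qImg Q := (h.ker _).1 (by rw [hr, map_mul, map_inv, map_mul, map_mul, map_inv, hψq,
    one_mul, inv_one, mul_one, inv_mul_cancel])
  have hπr : π (r : G) = π ((x⁻¹ * y : ↥(Subgroup.centralizer ({z} : Set G))) : G) := by
    obtain ⟨hm, e⟩ := h.π_conj x⁻¹ hq
    have hxi : ψ x⁻¹ (π q) = omV (omV (π q)) := by
      apply (ψ x).injective
      rw [← LinearEquiv.mul_apply, ← map_mul, mul_inv_cancel, map_one, hx, omV_cube]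
      rfl
    have hre : (r : G) = ((x⁻¹ : ↥(Subgroup.centralizer ({z} : Set G))) : G) * q *
        ((x⁻¹ : ↥(Subgroup.centralizer ({z} : Set G))) : G)⁻¹ * q⁻¹ := by
      rw [hr, hqc]
      show (x : G)⁻¹ * (q * x * q⁻¹) = (x : G)⁻¹ * q * (x : G)⁻¹⁻¹ * q⁻¹
      group
    rw [hre, h.π_mul _ hm _ (inv_mem hq), h.π_inv hq, e, hxi, hπq]
    generalize π ((x⁻¹ * y : ↥(Subgroup.centralizer ({z} : Set G))) : G) = u
    rw [omV_cube, omV_sq, add_left_comm, two_V6, add_zero]
  have hzx : (x : G) * z = z * x := Subgroup.mem_centralizer_singleton_iff.1 x.2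
  have hconj3 : ∀ k : ↥(Subgroup.centralizer ({z} : Set G)), (k * x * k⁻¹) ^ 3 = 1 := fun k => by
    rw [conj_pow, h3, mul_one, mul_inv_cancel]
  have key : qc * x * qc⁻¹ = y := by
    rcases (h.π_eq_iff hrQ hq₀).1 hπr with e | e
    · have e' : x⁻¹ * y = r := Subtype.ext e
      rw [hr] at e'
      exact (mul_left_cancel e').symm
    · exfalso
      have e' : ((y : ↥(Subgroup.centralizer ({z} : Set G))) : G) = ((qc * x * qc⁻¹ : ↥(Subgroup.centralizer ({z} : Set G))) : G) * z := by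
        have e1 : (x : G)⁻¹ * (y : G) = (x : G)⁻¹ * ((qc * x * qc⁻¹ : ↥(Subgroup.centralizer ({z} : Set G))) : G) * z := e
        rw [mul_assoc] at e1
        exact mul_left_cancel e1
      set u := qc * x * qc⁻¹ with hu
      have h1 : (u : G) ^ 3 = 1 := congrArg Subtype.val (hconj3 qc)
      have h2 : (y : G) ^ 3 = 1 := congrArg Subtype.val (hconj3 c)
      have hcu : Commute (u : G) z := Subgroup.mem_centralizer_singleton_iff.1 u.2
      rw [e', hcu.mul_pow, h1, one_mul, pow_succ, pow_two, h.extra.z_sq, one_mul] at h2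
      exact h.extra.z_ne h2
  refine ⟨qc⁻¹ * c, ?_, by rw [map_mul, map_inv, hψq, inv_one, one_mul]⟩
  show qc⁻¹ * c * x = x * (qc⁻¹ * c)
  calc qc⁻¹ * c * x = qc⁻¹ * (c * x * c⁻¹) * c := by group
    _ = qc⁻¹ * (qc * x * qc⁻¹) * c := by rw [key, hy]
    _ = _ := by group

end LFBase

namespace LF

variable {G : Type*} [Group G] [Finite G] {z : G} {Q : Subgroup (Subgroup.centralizer ({z} : Set G))} [Q.Normal]
  {π : G → V6} {ψ : ↥(Subgroup.centralizer ({z} : Set G)) →* (V6 ≃ₗ[ZMod 2] V6)} (h : LF z (qImg Q) π ψ)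
include h

/-- The generator of a complement of order three acting as the scalar. -/
theorem exists_generator {g₀ : G} (hu₀ : g₀ * z * g₀⁻¹ ∈ qImg Q) (hne₀ : g₀ * z * g₀⁻¹ ≠ z)
    (X : Subgroup ↥(Subgroup.centralizer ({z} : Set G))) (hX : Nat.card X = 3) (hXQ : (X ⊔ Q).Normal) :
    ∃ x ∈ X, x ^ 3 = 1 ∧ (∀ v, ψ x v = omV v) ∧ ∀ d, d ∈ Subgroup.centralizer (X : Set ↥(Subgroup.centralizer ({z} : Set G))) ↔ Commute d x := by
  classical
  obtain ⟨N, M, hNn, hMn, hNM, hidx, hN, hQN, -, ⟨eU⟩, hsimp, hU, hC, hM, hNcases⟩ := h.exists_M hu₀ hne₀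
  obtain ⟨x₀, hx₀X, hx₀1⟩ : ∃ x ∈ X, x ≠ 1 := X.bot_or_exists_ne_one.resolve_left fun e => by
    rw [e, Subgroup.card_bot] at hX; omega
  have hpow : ∀ a ∈ X, a ^ 3 = 1 := fun a ha => by
    have h0 : (⟨a, ha⟩ : ↥X) ^ Nat.card X = 1 := pow_card_eq_one'
    rw [hX] at h0
    exact congrArg Subtype.val h0
  have hXM : ∀ a ∈ X, a ∈ M := fun a ha => (hM a).2 fun w => by
    have e : a = (a * a) * (a * a) := by
      rw [show a * a * (a * a) = a ^ 3 * a by rw [pow_succ, pow_two]; group, hpow a ha, one_mul]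
    rw [e, map_mul ψ (a * a) (a * a)]
    show ψ (a * a) (ψ (a * a) (omV w)) = omV (ψ (a * a) (ψ (a * a) w))
    rcases h.model.scal _ ⟨a * a, rfl⟩ with e1 | e1
    · rw [e1, e1]
    · rw [e1, e1, e1, omV_cube]
  haveI := hNn
  haveI := hMn
  haveI := hXQ
  haveI : IsSimpleGroup (↥M ⧸ N.subgroupOf M) := eU.isSimpleGroup
  have hXQM : X ⊔ Q ≤ M := sup_le (fun a ha => hXM a ha) (hQN.trans hNM)
  have hx₀N : x₀ ∈ N := by
    rcases (Subgroup.Normal.map (inferInstance : ((X ⊔ Q).subgroupOf M).Normal) _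
      (QuotientGroup.mk'_surjective (N.subgroupOf M))).eq_bot_or_eq_top with e | e
    · rw [Subgroup.map_eq_bot_iff, QuotientGroup.ker_mk'] at e
      exact Subgroup.mem_subgroupOf.1 (e (show (⟨x₀, hXM x₀ hx₀X⟩ : ↥M) ∈ (X ⊔ Q).subgroupOf M from
        Subgroup.mem_subgroupOf.2 (Subgroup.mem_sup_left hx₀X)))
    · exfalso
      have hs : Function.Surjective fun a : ↥X => ((⟨a, hXM a a.2⟩ : ↥M) : ↥M ⧸ N.subgroupOf M) := by
        intro u
        obtain ⟨m, hm, rfl⟩ : u ∈ ((X ⊔ Q).subgroupOf M).map (QuotientGroup.mk' (N.subgroupOf M)) := by rw [e]; trivial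
        obtain ⟨a, ha, q, hq, hmq⟩ := Subgroup.mem_sup_of_normal_right.1 (Subgroup.mem_subgroupOf.1 hm)
        refine ⟨⟨a, ha⟩, QuotientGroup.eq.2 ?_⟩
        rw [Subgroup.mem_subgroupOf]
        show a⁻¹ * (m : ↥(Subgroup.centralizer ({z} : Set G))) ∈ N
        rw [← hmq, inv_mul_cancel_left]
        exact hQN hq
      have := Nat.card_le_card_of_surjective _ hs
      rw [Nat.card_congr eU.toEquiv, hU, hX] at this
      omega
  have hx₀Q : x₀ ∉ Q := fun hm => hx₀1 (by
    have h8 : x₀ ^ 8192 = 1 := by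
      have h0 : (⟨x₀, hm⟩ : ↥Q) ^ Nat.card Q = 1 := pow_card_eq_one'
      have hQc : Nat.card Q = 8192 := by
        rw [← h.card_Q]
        exact Nat.card_congr (Subgroup.equivMapOfInjective _ _ (Subgroup.subtype_injective _)).toEquiv
      rw [hQc] at h0
      exact congrArg Subtype.val h0
    have h1 : x₀ ^ Nat.gcd 3 8192 = 1 := pow_gcd_eq_one.2 ⟨hpow x₀ hx₀X, h8⟩
    rwa [show Nat.gcd 3 8192 = 1 from rfl, pow_one] at h1)
  obtain ⟨x, hxX, hx1, hxω⟩ : ∃ x ∈ X, x ≠ 1 ∧ ∀ v, ψ x v = omV v := by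
    rcases hNcases x₀ hx₀N with e | e | e
    · exact absurd e hx₀Q
    · exact ⟨x₀, hx₀X, hx₀1, e⟩
    · refine ⟨x₀⁻¹, inv_mem hx₀X, inv_ne_one.2 hx₀1, fun v => (ψ x₀).injective ?_⟩
      rw [← LinearEquiv.mul_apply, ← map_mul, mul_inv_cancel, map_one, e, omV_cube]
      rfl
  refine ⟨x, hxX, hpow x hxX, hxω, fun d => ?_⟩
  have hzp : X = Subgroup.zpowers x := (Subgroup.eq_of_le_of_card_ge (Subgroup.zpowers_le.2 hxX) (by
    rw [hX, Nat.card_zpowers, orderOf_eq_prime (hp := ⟨Nat.prime_three⟩) (hpow x hxX) hx1])).symm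
  rw [Subgroup.mem_centralizer_iff]
  constructor
  · intro hd; exact (hd x hxX).symm
  · intro hd a ha
    rw [hzp] at ha
    obtain ⟨i, rfl⟩ := ha
    exact (hd.zpow_right i).eq.symm

/-- The structure of the centraliser. -/
theorem centralizer_structure {g₀ : G} (hu₀ : g₀ * z * g₀⁻¹ ∈ qImg Q) (hne₀ : g₀ * z * g₀⁻¹ ≠ z)
    (X : Subgroup ↥(Subgroup.centralizer ({z} : Set G))) (hX : Nat.card X = 3) (hXQ : (X ⊔ Q).Normal) :
    Cfsg.IsQuasisimple ↥(Subgroup.centralizer (X : Set ↥(Subgroup.centralizer ({z} : Set G)))) ∧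
    IsCyclic ↥(Subgroup.center ↥(Subgroup.centralizer (X : Set ↥(Subgroup.centralizer ({z} : Set G))))) ∧
    Nat.card ↥(Subgroup.center ↥(Subgroup.centralizer (X : Set ↥(Subgroup.centralizer ({z} : Set G))))) = 6 ∧
    ∃ (K : Type) (_ : Field K) (_ : Fintype K), Fintype.card K = 9 ∧
      Nonempty (↥(Subgroup.centralizer (X : Set ↥(Subgroup.centralizer ({z} : Set G)))) ⧸
        Subgroup.center ↥(Subgroup.centralizer (X : Set ↥(Subgroup.centralizer ({z} : Set G)))) ≃* Cfsg.PSU 4 K 3) := by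
  classical
  obtain ⟨N, M, hNn, hMn, hNM, hidx, hN, hQN, -, ⟨eU⟩, hsimp, hU, hC, hM, hNcases⟩ := h.exists_M hu₀ hne₀
  obtain ⟨x, hxX, h3, hx, hS⟩ := h.exists_generator hu₀ hne₀ X hX hXQ
  set S := Subgroup.centralizer (X : Set ↥(Subgroup.centralizer ({z} : Set G))) with hSdef
  have hSM : ∀ d ∈ S, d ∈ M := fun d hd => (hM d).2 fun w => by
    rw [← hx, ← hx, ← LinearEquiv.mul_apply, ← map_mul, ((hS d).1 hd).eq, map_mul, LinearEquiv.mul_apply]
  set zc : ↥(Subgroup.centralizer ({z} : Set G)) := ⟨z, h.mem_cent h.extra.z_mem⟩ with hzc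
  have hzx : Commute zc x := Subtype.ext (Subgroup.mem_centralizer_singleton_iff.1 x.2).symm
  have hψx : ψ x ≠ 1 := fun e => by
    have := hx c2
    rw [e] at this
    revert this
    decide
  have hx1 : x ≠ 1 := fun e => hψx (by rw [e, map_one])
  have ox : orderOf x = 3 := orderOf_eq_prime (hp := ⟨Nat.prime_three⟩) h3 hx1
  have hz2 : zc * zc = 1 := Subtype.ext h.extra.z_sq
  have oz : orderOf zc = 2 := orderOf_eq_prime (hp := ⟨Nat.prime_two⟩) (by rw [pow_two, hz2])
    fun e => h.extra.z_ne (congrArg Subtype.val e)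
  have ow : orderOf (x * zc) = 6 := by
    rw [hzx.symm.orderOf_mul_eq_mul_orderOf_of_coprime (by rw [ox, oz]; norm_num), ox, oz]
  let w : ↥S := ⟨x * zc, (hS _).2 (Commute.mul_left (Commute.refl x) hzx)⟩
  have hwc : w ∈ Subgroup.center ↥S := Subgroup.mem_center_iff.2 fun d => Subtype.ext (by
    have h1 : Commute (d : ↥(Subgroup.centralizer ({z} : Set G))) zc :=
      Subtype.ext (Subgroup.mem_centralizer_singleton_iff.1 (d : ↥(Subgroup.centralizer ({z} : Set G))).2)
    exact (((hS _).1 d.2).mul_right h1).eq)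
  haveI := hNn
  let φ : ↥S →* U43 := eU.toMonoidHom.comp ((QuotientGroup.mk' (N.subgroupOf M)).comp (Subgroup.inclusion hSM))
  have hφs : Function.Surjective φ := by
    intro u
    obtain ⟨m, hm⟩ := QuotientGroup.mk'_surjective (N.subgroupOf M) (eU.symm u)
    obtain ⟨d, hd, hψd⟩ := h.exists_commuting hx h3 m ((hM _).1 m.2)
    refine ⟨⟨d, (hS d).2 hd⟩, ?_⟩
    show eU _ = u
    rw [← eU.apply_symm_apply u, ← hm]
    refine congrArg eU (QuotientGroup.eq.2 ?_)
    rw [Subgroup.mem_subgroupOf]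
    show d⁻¹ * (m : ↥(Subgroup.centralizer ({z} : Set G))) ∈ N
    refine hQN (mem_qImg_coe.1 ((h.ker _).1 ?_))
    rw [map_mul, map_inv, hψd, inv_mul_cancel]
  have hsmall : ∀ d : ↥S, (d : ↥(Subgroup.centralizer ({z} : Set G))) ∈ Q → (d : ↥(Subgroup.centralizer ({z} : Set G))) ∈ Subgroup.zpowers (x * zc) := by
    intro d hd
    rcases h.Q_fixed hx (mem_qImg_coe.2 hd) (congrArg Subtype.val ((hS _).1 d.2).eq).symm with e | e
    · rw [show (d : ↥(Subgroup.centralizer ({z} : Set G))) = 1 from Subtype.ext e]; exact one_mem _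
    · refine ⟨3, ?_⟩
      show (x * zc) ^ (3 : ℤ) = _
      rw [show ((3 : ℤ)) = ((3 : ℕ) : ℤ) by rfl, zpow_natCast, hzx.symm.mul_pow, h3, one_mul, pow_succ, pow_two, hz2, one_mul]
      exact Subtype.ext e.symm
  have hxmem : x ∈ Subgroup.zpowers (x * zc) := by
    refine ⟨4, ?_⟩
    show (x * zc) ^ (4 : ℤ) = x
    rw [show ((4 : ℤ)) = ((4 : ℕ) : ℤ) by rfl, zpow_natCast, hzx.symm.mul_pow, pow_succ x, h3, one_mul,
      show zc ^ 4 = (zc * zc) * (zc * zc) by rw [← pow_two zc, ← pow_two (zc ^ 2), ← pow_mul], hz2, mul_one, mul_one]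
  have hker : φ.ker = Subgroup.zpowers w := by
    refine le_antisymm (fun d hd => ?_) (Subgroup.zpowers_le.2 ?_)
    · have hdN : (d : ↥(Subgroup.centralizer ({z} : Set G))) ∈ N := by
        have h1 : eU (Subgroup.inclusion hSM d : ↥M ⧸ N.subgroupOf M) = 1 := hd
        rw [MulEquiv.map_eq_one_iff, QuotientGroup.eq_one_iff] at h1
        exact h1
      suffices hmem : (d : ↥(Subgroup.centralizer ({z} : Set G))) ∈ Subgroup.zpowers (x * zc) by
        obtain ⟨i, hi⟩ := hmem
        exact ⟨i, Subtype.ext (by rw [Subgroup.coe_zpow]; exact hi)⟩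
      have hxS : x ∈ S := (hS x).2 (Commute.refl x)
      rcases hNcases _ hdN with e | e | e
      · exact hsmall d e
      · have h1 := hsmall (⟨x, hxS⟩⁻¹ * d) (mem_qImg_coe.1 ((h.ker _).1 (by
          show ψ (x⁻¹ * (d : ↥(Subgroup.centralizer ({z} : Set G)))) = 1
          rw [map_mul, map_inv, inv_mul_eq_one]
          exact LinearEquiv.ext fun v => by rw [hx, e])))
        have := mul_mem hxmem h1
        rwa [Subgroup.coe_mul, Subgroup.coe_inv, mul_inv_cancel_left] at this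
      · have h1 := hsmall ((⟨x, hxS⟩ * ⟨x, hxS⟩)⁻¹ * d) (mem_qImg_coe.1 ((h.ker _).1 (by
          show ψ ((x * x)⁻¹ * (d : ↥(Subgroup.centralizer ({z} : Set G)))) = 1
          rw [map_mul, map_inv, inv_mul_eq_one, map_mul]
          exact LinearEquiv.ext fun v => by rw [LinearEquiv.mul_apply, hx, hx, e])))
        have := mul_mem (mul_mem hxmem hxmem) h1
        rwa [Subgroup.coe_mul, Subgroup.coe_inv, Subgroup.coe_mul, mul_inv_cancel_left] at this
    · show eU (Subgroup.inclusion hSM w : ↥M ⧸ N.subgroupOf M) = 1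
      rw [MulEquiv.map_eq_one_iff, QuotientGroup.eq_one_iff, Subgroup.mem_subgroupOf]
      show x * zc ∈ N
      refine mul_mem ?_ (hQN (mem_qImg_coe.1 h.extra.z_mem))
      obtain ⟨n, hn, hnω⟩ : ∃ n ∈ N, ∀ v, ψ n v = omV v := by
        by_contra hcon
        push Not at hcon
        have hle : N ≤ Q := fun c hc => by
          rcases hNcases c hc with e | e | e
          · exact e
          · obtain ⟨v, hv⟩ := hcon c hc; exact absurd (e v) hv
          · obtain ⟨v, hv⟩ := hcon (c * c) (mul_mem hc hc)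
            refine absurd ?_ hv
            rw [map_mul, LinearEquiv.mul_apply, e, e, omV_cube]
        have := Subgroup.card_le_of_le hle
        rw [hN, show Nat.card Q = 8192 by
          rw [← h.card_Q]
          exact Nat.card_congr (Subgroup.equivMapOfInjective _ _ (Subgroup.subtype_injective _)).toEquiv] at this
        omega
      have h1 : n⁻¹ * x ∈ N := hQN (mem_qImg_coe.1 ((h.ker _).1 (by
        rw [map_mul, map_inv, inv_mul_eq_one]
        exact LinearEquiv.ext fun v => by rw [hnω, hx])))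
      simpa using mul_mem hn h1
  -- the centre
  have hU0 : ∀ a : U43, (∀ b, a * b = b * a) → a = 1 := by
    intro a ha
    rcases (Subgroup.Normal.eq_bot_or_eq_top (H := Subgroup.center U43) inferInstance) with e | e
    · exact Subgroup.mem_bot.1 (e ▸ Subgroup.mem_center_iff.2 fun b => (ha b).symm)
    · exfalso
      haveI : Fact (Nat.Prime 7) := ⟨by norm_num⟩
      haveI : Finite U43 := Nat.finite_of_card_ne_zero (by rw [hU]; norm_num)
      obtain ⟨b, hb⟩ := exists_prime_orderOf_dvd_card' (G := U43) 7 (by rw [hU]; norm_num)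
      have hn : (Subgroup.zpowers b).Normal := ⟨fun c hc d => by
        have hd : d ∈ Subgroup.center U43 := by rw [e]; trivial
        rwa [show d * c = c * d from (Subgroup.mem_center_iff.1 hd c).symm, mul_inv_cancel_right]⟩
      rcases hn.eq_bot_or_eq_top with e1 | e1
      · rw [Subgroup.zpowers_eq_bot] at e1; rw [e1, orderOf_one] at hb; omega
      · have h1 := Nat.card_zpowers b
        rw [e1, Subgroup.card_top, hU, hb] at h1
        omega
  have hcen : Subgroup.center ↥S = φ.ker := by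
    refine le_antisymm (fun d hd => MonoidHom.mem_ker.2 (hU0 _ fun b => ?_)) (hker ▸ Subgroup.zpowers_le.2 hwc)
    obtain ⟨c, rfl⟩ := hφs b
    rw [← map_mul, ← map_mul, Subgroup.mem_center_iff.1 hd c]
  have hcard : Nat.card ↥(Subgroup.center ↥S) = 6 := by
    rw [hcen, hker, Nat.card_zpowers, ← Subgroup.orderOf_coe w]
    exact ow
  have hcyc : IsCyclic ↥(Subgroup.center ↥S) := by rw [hcen, hker]; infer_instance
  let eS : ↥S ⧸ Subgroup.center ↥S ≃* U43 :=
    (QuotientGroup.quotientMulEquivOfEq hcen).trans (QuotientGroup.quotientKerEquivOfSurjective φ hφs)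
  refine ⟨⟨?_, ?_⟩, hcyc, hcard, ⟨CfsgLib.Chevalley.G2Two.F9, inferInstance, inferInstance,
    CfsgLib.Chevalley.G2Two.F9.card_F9, ⟨eS⟩⟩⟩
  rotate_left
  · haveI := hsimp
    exact eS.isSimpleGroup
  -- perfectness
  set Dd := commutator ↥S with hDd
  have hdec : ∀ d : ↥S, ∃ d₀ ∈ Dd, d₀⁻¹ * d ∈ φ.ker := by
    intro d
    haveI := hsimp
    have htop : Dd.map φ = ⊤ := by
      rcases (Subgroup.Normal.map (inferInstance : Dd.Normal) φ hφs).eq_bot_or_eq_top with e | e
      · exfalso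
        haveI : Finite U43 := Nat.finite_of_card_ne_zero (by rw [hU]; norm_num)
        haveI : Nontrivial U43 := Finite.one_lt_card_iff_nontrivial.1 (by rw [hU]; norm_num)
        obtain ⟨a, ha⟩ := exists_ne (1 : U43)
        refine ha (hU0 a fun b => ?_)
        obtain ⟨a', rfl⟩ := hφs a
        obtain ⟨b', rfl⟩ := hφs b
        rw [← commutatorElement_eq_one_iff_mul_comm, ← map_commutatorElement, ← Subgroup.mem_bot, ← e]
        exact ⟨_, Subgroup.commutator_mem_commutator (Subgroup.mem_top a') (Subgroup.mem_top b'), rfl⟩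
      · exact e
    obtain ⟨d₀, hd₀, e⟩ : φ d ∈ Dd.map φ := by rw [htop]; trivial
    exact ⟨d₀, hd₀, by rw [MonoidHom.mem_ker, map_mul, map_inv, e, inv_mul_cancel]⟩
  let xs : ↥S := ⟨x, (hS x).2 (Commute.refl x)⟩
  let zs : ↥S := ⟨zc, (hS zc).2 hzx⟩
  have hxD : xs ∈ Dd := by
    obtain ⟨hp, ha, hst⟩ := stair_facts
    obtain ⟨_, ⟨p, rfl⟩, hpv⟩ := h.model.perm twoCycles hp
    obtain ⟨_, ⟨t, rfl⟩, htv⟩ := h.model.diag stair ha
    have hpl : ∀ v, ψ p (omV v) = omV (ψ p v) := fun v => funext fun i => by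
      have e := hpv (omV v) (twoCycles.symm i)
      rw [Equiv.apply_symm_apply] at e
      rw [e]
      show om (v (twoCycles.symm i)) = om (ψ p v i)
      rw [← hpv v (twoCycles.symm i), Equiv.apply_symm_apply]
    have htl : ∀ v, ψ t (omV v) = omV (ψ t v) := fun v => funext fun i => by
      rw [htv]
      show omp _ (om (v i)) = om (ψ t v i)
      rw [htv, omp_om]
    obtain ⟨dp, hdp, edp⟩ := h.exists_commuting hx h3 p hpl
    obtain ⟨dt, hdt, edt⟩ := h.exists_commuting hx h3 t htl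
    have hc : ψ (⁅dp, dt⁆) = ψ x * ψ x := by
      rw [commutatorElement_def, map_mul, map_mul, map_mul, map_inv, map_inv, edp, edt,
        mul_inv_eq_iff_eq_mul, mul_inv_eq_iff_eq_mul]
      refine LinearEquiv.ext fun v => funext fun i => ?_
      show ψ p (ψ t v) i = ψ x (ψ x (ψ t (ψ p v))) i
      rw [hx, hx]
      show _ = om (om (ψ t (ψ p v) i))
      rw [htv]
      have e1 := hpv (ψ t v) (twoCycles.symm i)
      rw [Equiv.apply_symm_apply] at e1
      have e2 := hpv v (twoCycles.symm i)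
      rw [Equiv.apply_symm_apply] at e2
      rw [e1, htv, e2, ← omp_two, omp_add]
      congr 1
      rw [← hst i, add_assoc, neg_add_cancel, add_zero]
    let c₀ : ↥S := ⁅(⟨dp, (hS dp).2 hdp⟩ : ↥S), ⟨dt, (hS dt).2 hdt⟩⁆
    have hc₀ : c₀ ∈ Dd := Subgroup.commutator_mem_commutator (Subgroup.mem_top _) (Subgroup.mem_top _)
    have hr : ((xs * xs)⁻¹ * c₀ : ↥S).1 ∈ Q := by
      refine mem_qImg_coe.1 ((h.ker _).1 ?_)
      show ψ ((x * x)⁻¹ * ⁅dp, dt⁆) = 1
      rw [map_mul, map_inv, hc, map_mul, inv_mul_cancel]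
    have hcases : c₀ = xs * xs ∨ c₀ = xs * xs * zs := by
      rcases h.Q_fixed hx (mem_qImg_coe.2 hr) (congrArg Subtype.val ((hS _).1 ((xs * xs)⁻¹ * c₀).2).eq).symm with e | e
      · exact Or.inl (inv_mul_eq_one.1 (Subtype.ext (Subtype.ext e))).symm
      · exact Or.inr (inv_mul_eq_iff_eq_mul.1 (Subtype.ext (Subtype.ext e) : (xs * xs)⁻¹ * c₀ = zs))
    have hx3 : xs * xs * (xs * xs) = xs := Subtype.ext (show x * x * (x * x) = x by
      rw [show x * x * (x * x) = x ^ 3 * x by rw [pow_succ, pow_two]; group, h3, one_mul])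
    have hzs2 : zs * zs = 1 := Subtype.ext hz2
    have hzsc : ∀ d : ↥S, zs * d = d * zs := fun d => Subtype.ext (Subtype.ext
      (Subgroup.mem_centralizer_singleton_iff.1 (d : ↥(Subgroup.centralizer ({z} : Set G))).2).symm)
    have h2 : c₀ * c₀ = xs := by
      rcases hcases with e | e <;> rw [e]
      · exact hx3
      · rw [mul_assoc (xs * xs) zs, ← mul_assoc zs, hzsc (xs * xs), mul_assoc (xs * xs) zs, hzs2, mul_one, hx3]
    exact h2 ▸ mul_mem hc₀ hc₀
  have hzD : zs ∈ Dd := by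
    by_contra hzn
    refine h.no_complement hu₀ hne₀ hx (Dd.map S.subtype) ?_ ?_ ?_
    · rintro _ ⟨d, -, rfl⟩; exact (hS _).1 d.2
    · rintro _ ⟨d, hd, rfl⟩ hq
      rcases h.Q_fixed hx hq (congrArg Subtype.val ((hS _).1 d.2).eq).symm with e | e
      · exact Subtype.ext e
      · exact absurd (show zs ∈ Dd from (show zs = d from Subtype.ext (Subtype.ext e.symm)) ▸ hd) hzn
    · intro c hc
      obtain ⟨d, hd, hψd⟩ := h.exists_commuting hx h3 c hc
      obtain ⟨d₀, hd₀, hk⟩ := hdec ⟨d, (hS d).2 hd⟩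
      rw [hker] at hk
      obtain ⟨i, hi⟩ := hk
      refine ⟨((d₀ * xs ^ i : ↥S) : ↥(Subgroup.centralizer ({z} : Set G))),
        ⟨_, mul_mem hd₀ (zpow_mem hxD i), rfl⟩, ?_⟩
      have e : d = (d₀ : ↥(Subgroup.centralizer ({z} : Set G))) * (x * zc) ^ i := by
        have := congrArg (fun a : ↥S => (d₀ * a : ↥S).1) hi
        simp only [mul_inv_cancel_left] at this
        rw [← this, Subgroup.coe_mul, Subgroup.coe_zpow]
      rw [← hψd, e, Subgroup.coe_mul, Subgroup.coe_zpow, map_mul, map_mul, map_zpow, map_zpow, map_mul,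
        show ψ zc = 1 from (h.ker zc).2 h.extra.z_mem, mul_one]
  have hw : w ∈ Dd := (show w = xs * zs from rfl) ▸ mul_mem hxD hzD
  refine Group.isPerfect_def.2 ((Subgroup.eq_top_iff' _).2 fun d => ?_)
  obtain ⟨d₀, hd₀, hk⟩ := hdec d
  have : φ.ker ≤ Dd := hker ▸ Subgroup.zpowers_le.2 hw
  simpa using mul_mem hd₀ (this hk)

end LF

end CfsgLib.Sporadic.LargeFischer
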