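import Mathlib

/-!
# The coordinate model of the module of `3·PSU₄(3)`
-/

set_option autoImplicit false
set_option linter.unusedSectionVars false

namespace CfsgLib.Sporadic.LargeFischer

/-- The additive group of the field with four elements. -/
abbrev D4 : Type := ZMod 2 × ZMod 2

/-- The module. -/
abbrev V6 : Type := Fin 6 → D4

/-- Multiplication by a primitive cube root of unity. -/
def om (d : D4) : D4 := (d.2, d.1 + d.2)

/-- Multiplication by its powers. -/
def omp (j : ZMod 3) (d : D4) : D4 := if j = 0 then d else if j = 1 then om d else om (om d)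

/-- The norm. -/
def nzd (d : D4) : ZMod 2 := if d = 0 then 0 else 1

/-- The quadratic form: the parity of the support. -/
def qs (v : V6) : ZMod 2 := ∑ i, nzd (v i)

/-- The scalar of order three. -/
def omV (v : V6) : V6 := fun i => om (v i)

/-- A group of isometries of `V6` containing the monomial group `3⁵:A₆` and of order `2·3·|PSU₄(3)|`. -/
structure Model (K : Subgroup (V6 ≃ₗ[ZMod 2] V6)) : Prop where
  quad : ∀ g ∈ K, ∀ v, qs (g v) = qs v
  diag : ∀ a : Fin 6 → ZMod 3, ∑ i, a i = 0 → ∃ g ∈ K, ∀ v i, g v i = omp (a i) (v i)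
  perm : ∀ p : Equiv.Perm (Fin 6), p ∈ alternatingGroup (Fin 6) → ∃ g ∈ K, ∀ v i, g v (p i) = v i
  scal : ∀ g ∈ K, (∀ v, g (omV v) = omV (g v)) ∨ ∀ v, g (omV v) = omV (omV (g v))
  card : Nat.card K = 19595520

end CfsgLib.Sporadic.LargeFischer
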