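import Mathlib

/-!
# Weights of an abelian group of exponent three on a group of exponent two

An automorphism `ω` of order three without non-zero fixed points replaces the primitive cube root of unity; a
commutative group of exponent three commuting with `ω` decomposes the space into weight spaces.
-/

set_option autoImplicit false
set_option linter.unusedSectionVars false

namespace CfsgLib.Sporadic.LargeFischer

/-- An action of a group of exponent three on a group of exponent two, commuting with a fixed-point-free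
automorphism of order three. -/
structure Twisted (T Y : Type*) [Group T] [AddCommGroup Y] where
  σ : T → Y →+ Y
  ω : Y →+ Y
  two : ∀ y : Y, y + y = 0
  fpf : ∀ y, ω y = y → y = 0
  ω_cube : ∀ y, ω (ω (ω y)) = y
  σ_one : ∀ y, σ 1 y = y
  σ_mul : ∀ t u y, σ (t * u) y = σ t (σ u y)
  σ_ω : ∀ t y, σ t (ω y) = ω (σ t y)
  comm : ∀ t u : T, t * u = u * t
  cube : ∀ t : T, t ^ 3 = 1

namespace Twisted

variable {T Y : Type*} [Group T] [AddCommGroup Y] (P : Twisted T Y)

/-- The powers of `ω`. -/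
def pw (j : ZMod 3) : Y →+ Y := if j = 0 then AddMonoidHom.id Y else if j = 1 then P.ω else P.ω.comp P.ω

theorem pw_zero (y : Y) : P.pw 0 y = y := rfl
theorem pw_one (y : Y) : P.pw 1 y = P.ω y := rfl
theorem pw_two (y : Y) : P.pw 2 y = P.ω (P.ω y) := rfl

theorem zmod3_cases : ∀ j : ZMod 3, j = 0 ∨ j = 1 ∨ j = 2 := by decide

theorem pw_add (i j : ZMod 3) (y : Y) : P.pw (i + j) y = P.pw i (P.pw j y) := by
  rcases zmod3_cases i with rfl | rfl | rfl <;> rcases zmod3_cases j with rfl | rfl | rfl <;>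
    simp only [show (1 : ZMod 3) + 1 = 2 from rfl, show (1 : ZMod 3) + 2 = 0 from rfl,
      show (2 : ZMod 3) + 1 = 0 from rfl, show (2 : ZMod 3) + 2 = 1 from rfl, zero_add, add_zero,
      pw_zero, pw_one, pw_two, P.ω_cube]

theorem σ_pw (t : T) (j : ZMod 3) (y : Y) : P.σ t (P.pw j y) = P.pw j (P.σ t y) := by
  rcases zmod3_cases j with rfl | rfl | rfl <;> simp only [pw_zero, pw_one, pw_two, P.σ_ω]

theorem sum_pw (y : Y) : y + P.ω y + P.ω (P.ω y) = 0 := P.fpf _ (by
  rw [map_add, map_add, P.ω_cube]; abel)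

theorem pw_injective {i j : ZMod 3} {y : Y} (hy : y ≠ 0) (h : P.pw i y = P.pw j y) : i = j := by
  have h' : P.pw (i - j) y = y := by
    have e := congrArg (P.pw (-j)) h
    rwa [← P.pw_add, ← P.pw_add, neg_add_cancel, pw_zero, neg_add_eq_sub] at e
  rcases zmod3_cases (i - j) with e | e | e
  · exact sub_eq_zero.1 e
  · rw [e] at h'; exact absurd (P.fpf y h') hy
  · rw [e, pw_two] at h'
    have := congrArg P.ω h'
    rw [P.ω_cube] at this
    exact absurd (P.fpf y this.symm) hy

/-- Additive functions on `T`. -/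
def Add3 (χ : T → ZMod 3) : Prop := ∀ t u, χ (t * u) = χ t + χ u

/-- Eigenvectors of weight `χ`. -/
def Eig (χ : T → ZMod 3) (y : Y) : Prop := ∀ t, P.σ t y = P.pw (χ t) y

theorem eig_zero (χ : T → ZMod 3) : P.Eig χ 0 := fun t => by rw [map_zero, map_zero]

theorem eig_add {χ : T → ZMod 3} {y z : Y} (hy : P.Eig χ y) (hz : P.Eig χ z) : P.Eig χ (y + z) :=
  fun t => by rw [map_add, map_add, hy t, hz t]

theorem eig_pw {χ : T → ZMod 3} {y : Y} (hy : P.Eig χ y) (j : ZMod 3) : P.Eig χ (P.pw j y) :=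
  fun t => by rw [P.σ_pw, hy t, ← P.pw_add, ← P.pw_add, add_comm]

theorem add3_of_eig {χ : T → ZMod 3} {y : Y} (hy : P.Eig χ y) (h0 : y ≠ 0) : Add3 χ := fun t u =>
  P.pw_injective h0 (by rw [← hy, P.σ_mul, hy u, P.σ_pw, hy t, ← P.pw_add, add_comm])

theorem add3_one {χ : T → ZMod 3} (h : Add3 χ) : χ 1 = 0 := by
  have := h 1 1; rw [one_mul] at this; exact left_eq_add.1 this

theorem exists_split [Finite T] (w : Y) : w ∈ AddSubgroup.closure {y | ∃ χ : T → ZMod 3, P.Eig χ y} := by
  classical
  have key : ∀ S : List T, ∀ w : Y, w ∈ AddSubgroup.closure {y | ∀ t ∈ S, ∃ j, P.σ t y = P.pw j y} := by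
    intro S
    induction S with
    | nil => exact fun w => AddSubgroup.subset_closure (by simp)
    | cons t S ih =>
      intro w
      refine AddSubgroup.closure_induction (p := fun y _ => y ∈ AddSubgroup.closure
        {y | ∀ u ∈ t :: S, ∃ j, P.σ u y = P.pw j y}) ?_ (zero_mem _) (fun _ _ _ _ => add_mem)
        (fun _ _ => neg_mem) (ih w)
      intro y hy
      let e : ZMod 3 → Y := fun j => y + P.pw (-j) (P.σ t y) + P.pw (-j - j) (P.σ t (P.σ t y))
      have hsum : y = e 0 + e 1 + e 2 := by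
        simp only [e, neg_zero, sub_zero, show (-1 : ZMod 3) = 2 from rfl, show (-2 : ZMod 3) = 1 from rfl,
          show (2 : ZMod 3) - 1 = 1 from rfl, show (1 : ZMod 3) - 2 = 2 from rfl, pw_zero, pw_one, pw_two]
        have h1 := P.sum_pw (P.σ t y)
        have h2 := P.sum_pw (P.σ t (P.σ t y))
        have h3 := P.two y
        calc y = (y + y) + y + (P.σ t y + P.ω (P.σ t y) + P.ω (P.ω (P.σ t y))) +
              (P.σ t (P.σ t y) + P.ω (P.σ t (P.σ t y)) + P.ω (P.ω (P.σ t (P.σ t y)))) := by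
              rw [h1, h2, h3]; simp
          _ = _ := by abel
      have he : ∀ j, e j ∈ AddSubgroup.closure {y | ∀ u ∈ t :: S, ∃ j, P.σ u y = P.pw j y} := by
        intro j
        refine AddSubgroup.subset_closure fun u hu => ?_
        rcases List.mem_cons.1 hu with rfl | hu
        · refine ⟨j, ?_⟩
          have h3 : P.σ u (P.σ u (P.σ u y)) = y := by
            rw [← P.σ_mul, ← P.σ_mul, show u * u * u = u ^ 3 by rw [pow_succ, pow_two], P.cube, P.σ_one]
          simp only [e, map_add, P.σ_pw, h3, ← P.pw_add]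
          rw [show j + -j = (0 : ZMod 3) from add_neg_cancel j, pw_zero,
            show j + (-j - j) = -j by ring,
            show (-j - j : ZMod 3) = j by revert j; decide]
          abel
        · obtain ⟨i, hi⟩ := hy u hu
          refine ⟨i, ?_⟩
          have hut : ∀ z, P.σ u (P.σ t z) = P.σ t (P.σ u z) := fun z => by rw [← P.σ_mul, P.comm, P.σ_mul]
          simp only [e, map_add, P.σ_pw, hut, hi, ← P.pw_add]
          simp only [add_comm i]
      rw [hsum]
      exact add_mem (add_mem (he 0) (he 1)) (he 2)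
  haveI := Fintype.ofFinite T
  refine AddSubgroup.closure_mono (fun y hy => ?_) (key Finset.univ.toList w)
  exact ⟨fun t => (hy t (Finset.mem_toList.2 (Finset.mem_univ t))).choose,
    fun t => (hy t (Finset.mem_toList.2 (Finset.mem_univ t))).choose_spec⟩

open scoped Classical

variable [Fintype T]

/-- The projection to the weight space of `χ`. -/
noncomputable def proj (χ : T → ZMod 3) : Y →+ Y := ∑ t : T, (P.pw (-χ t)).comp (P.σ t)

theorem proj_apply (χ : T → ZMod 3) (y : Y) : P.proj χ y = ∑ t : T, P.pw (-χ t) (P.σ t y) := by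
  simp [proj]

include P in
theorem nsmul_odd {n : ℕ} (hn : Odd n) (y : Y) : n • y = y := by
  obtain ⟨m, rfl⟩ := hn
  rw [add_nsmul, mul_nsmul, two_nsmul, P.two, smul_zero, zero_add, one_nsmul]

include P in
theorem card_odd : Odd (Fintype.card T) := by
  rcases Nat.even_or_odd (Fintype.card T) with h | h
  · haveI : Fact (Nat.Prime 2) := ⟨Nat.prime_two⟩
    obtain ⟨t, ht⟩ := exists_prime_orderOf_dvd_card (G := T) 2 h.two_dvd
    have := orderOf_dvd_of_pow_eq_one (P.cube t)
    rw [ht] at this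
    omega
  · exact h

theorem proj_eig {χ : T → ZMod 3} (hχ : Add3 χ) (y : Y) : P.Eig χ (P.proj χ y) := by
  intro u
  rw [proj_apply, map_sum, map_sum]
  refine (Fintype.sum_equiv (Equiv.mulLeft u) _ _ fun t => ?_).trans rfl
  simp only [Equiv.coe_mulLeft, P.σ_pw, ← P.σ_mul, ← P.pw_add, hχ u t]
  congr 2
  ring

theorem proj_of_eig {χ ψ : T → ZMod 3} (hχ : Add3 χ) (hψ : Add3 ψ) {y : Y} (hy : P.Eig ψ y) :
    P.proj χ y = if χ = ψ then y else 0 := by
  rw [proj_apply]
  have e : ∀ t, P.pw (-χ t) (P.σ t y) = P.pw (ψ t - χ t) y := fun t => by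
    rw [hy t, ← P.pw_add, neg_add_eq_sub]
  simp only [e]
  split_ifs with h
  · subst h
    simp only [sub_self, pw_zero, Finset.sum_const, Finset.card_univ]
    exact P.nsmul_odd P.card_odd y
  · obtain ⟨u, hu⟩ := Function.ne_iff.1 h
    set S := ∑ t : T, P.pw (ψ t - χ t) y with hS
    have hfix : P.pw (ψ u - χ u) S = S := by
      rw [hS, map_sum]
      refine Fintype.sum_equiv (Equiv.mulLeft u) _ _ fun t => ?_
      simp only [Equiv.coe_mulLeft, ← P.pw_add, hχ u t, hψ u t]
      congr 2
      ring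
    by_contra hne
    exact hu (sub_eq_zero.1 (P.pw_injective hne (hfix.trans (P.pw_zero S).symm))).symm

/-- The weights. -/
noncomputable def weights [Fintype Y] : Finset (T → ZMod 3) :=
  Finset.univ.filter fun χ => Add3 χ ∧ ∃ y, y ≠ 0 ∧ P.Eig χ y

variable [Fintype Y]

theorem mem_weights {χ : T → ZMod 3} : χ ∈ P.weights ↔ ∃ y, y ≠ 0 ∧ P.Eig χ y := by
  simp only [weights, Finset.mem_filter, Finset.mem_univ, true_and, and_iff_right_iff_imp]
  rintro ⟨y, hy, he⟩
  exact P.add3_of_eig he hy

theorem add3_of_mem {χ : T → ZMod 3} (h : χ ∈ P.weights) : Add3 χ := (Finset.mem_filter.1 h).2.1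

theorem sum_proj (w : Y) : ∑ χ ∈ P.weights, P.proj χ w = w := by
  refine AddSubgroup.closure_induction (p := fun y _ => ∑ χ ∈ P.weights, P.proj χ y = y) ?_ (by simp) ?_ ?_
    (P.exists_split w)
  · rintro y ⟨ψ, hψ⟩
    by_cases h0 : y = 0
    · simp [h0]
    · rw [Finset.sum_eq_single_of_mem ψ (P.mem_weights.2 ⟨y, h0, hψ⟩)]
      · rw [P.proj_of_eig (P.add3_of_eig hψ h0) (P.add3_of_eig hψ h0) hψ, if_pos rfl]
      · intro χ hχ hne
        rw [P.proj_of_eig (P.add3_of_mem hχ) (P.add3_of_eig hψ h0) hψ, if_neg hne]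
  · intro a b _ _ ha hb
    simp only [map_add, Finset.sum_add_distrib, ha, hb]
  · intro a _ ha
    simp only [map_neg, Finset.sum_neg_distrib, ha]

/-- The space is the product of its weight spaces. -/
theorem bijective_sum :
    Function.Bijective fun f : (χ : P.weights) → {y : Y // P.Eig χ y} => ∑ χ, ((f χ : Y)) := by
  refine ⟨fun f g h => funext fun χ => Subtype.ext ?_, fun w =>
    ⟨fun χ => ⟨P.proj χ w, P.proj_eig (P.add3_of_mem χ.2) w⟩, ?_⟩⟩
  · have key : ∀ f : (χ : P.weights) → {y : Y // P.Eig χ y}, P.proj (χ : T → ZMod 3) (∑ ψ, (f ψ : Y)) = f χ := by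
      intro f
      rw [map_sum, Finset.sum_eq_single χ]
      · rw [P.proj_of_eig (P.add3_of_mem χ.2) (P.add3_of_mem χ.2) (f χ).2, if_pos rfl]
      · intro ψ _ hne
        rw [P.proj_of_eig (P.add3_of_mem χ.2) (P.add3_of_mem ψ.2) (f ψ).2,
          if_neg fun e => hne (Subtype.ext e.symm)]
      · simp
    rw [← key f, ← key g]
    exact congrArg _ h
  · exact (Finset.sum_coe_sort P.weights (fun χ => P.proj χ w)).trans (P.sum_proj w)

theorem prod_card : ∏ χ : P.weights, Nat.card {y : Y // P.Eig χ y} = Nat.card Y := by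
  rw [← Nat.card_pi]
  exact Nat.card_congr (Equiv.ofBijective _ P.bijective_sum)

theorem four_le (χ : T → ZMod 3) (h : χ ∈ P.weights) : 4 ≤ Nat.card {y : Y // P.Eig χ y} := by
  obtain ⟨y, hy, he⟩ := P.mem_weights.1 h
  let f : Option (ZMod 3) → {y : Y // P.Eig χ y} := fun o =>
    o.elim ⟨0, P.eig_zero χ⟩ fun j => ⟨P.pw j y, P.eig_pw he j⟩
  have hne : ∀ j, P.pw j y ≠ 0 := fun j e => hy (by
    have := congrArg (P.pw (-j)) e
    rwa [← P.pw_add, neg_add_cancel, pw_zero, map_zero] at this)
  have hf : Function.Injective f := by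
    rintro (_ | i) (_ | j) e
    · rfl
    · exact absurd (congrArg Subtype.val e).symm (hne j)
    · exact absurd (congrArg Subtype.val e) (hne i)
    · exact congrArg some (P.pw_injective hy (congrArg Subtype.val e))
  have := Nat.card_le_card_of_injective f hf
  simpa using this

theorem pow_weights_le : 4 ^ P.weights.card ≤ Nat.card Y := by
  rw [← P.prod_card, ← Fintype.card_coe, ← Finset.card_univ, ← Finset.prod_const]
  exact Finset.prod_le_prod' fun χ _ => P.four_le χ χ.2

theorem card_eq_four (n : ℕ) (hn : P.weights.card = n) (hY : Nat.card Y = 4 ^ n) (χ : P.weights) :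
    Nat.card {y : Y // P.Eig χ y} = 4 := by
  refine le_antisymm ?_ (P.four_le χ χ.2)
  by_contra hlt
  have h : ∏ _ψ : P.weights, 4 < ∏ ψ : P.weights, Nat.card {y : Y // P.Eig ψ y} :=
    Finset.prod_lt_prod (fun _ _ => by norm_num) (fun ψ _ => P.four_le ψ ψ.2)
      ⟨χ, Finset.mem_univ _, by omega⟩
  rw [P.prod_card, Finset.prod_const, Finset.card_univ, Fintype.card_coe, hn, hY] at h
  exact lt_irrefl _ h

end Twisted

end CfsgLib.Sporadic.LargeFischer
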