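import Cfsg.Agent.Lib.Sporadic.LargeFischer.UnitaryGroup
import Cfsg.Agent.Lib.Sporadic.LargeFischer.Weights
import Cfsg.Agent.Lib.Sporadic.LargeFischer.Basic

/-!
# The torus of order `3⁵` of an extension of `PSU₄(3)` by a group of order three
-/

set_option autoImplicit false
set_option linter.unusedSectionVars false

namespace CfsgLib.Sporadic.LargeFischer

open scoped commutatorElement

abbrev W12 : Type := Fin 12 → ZMod 2

/-- The configuration: a group `Γ` of isometries of a non-degenerate quadratic space of dimension 12 with a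
normal series `1 < ⟨x⟩ < M < Γ`. -/
structure Cfg (Γ : Type*) [Group Γ] {P : Type} [Group P] (A B : Subgroup P) (M : Subgroup Γ) (x : M)
    (π : M →* P) (ρ : Γ →* (W12 ≃ₗ[ZMod 2] W12)) (q : W12 → ZMod 2) : Prop where
  frame : Frame81 P A B
  simple : IsSimpleGroup P
  cardP : Nat.card P = 3265920
  surj : Function.Surjective π
  ker : π.ker = Subgroup.zpowers x
  ord : orderOf x = 3
  normX : ∀ g : Γ, g * (x : Γ) * g⁻¹ = x ∨ g * (x : Γ) * g⁻¹ = (x : Γ)⁻¹
  idx : M.index = 2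
  inj : Function.Injective ρ
  pres : ∀ g v, q (ρ g v) = q v
  q_zero : q 0 = 0
  badd : ∀ u v w, q (u + (v + w)) + q u + q (v + w) =
    (q (u + v) + q u + q v) + (q (u + w) + q u + q w)
  nondeg : ∀ u, (∀ v, q (u + v) + q u + q v = 0) → u = 0

namespace Cfg

variable {Γ : Type*} [Group Γ] [Finite Γ] {P : Type} [Group P] {A B : Subgroup P} {M : Subgroup Γ} {x : M}
  {π : M →* P} {ρ : Γ →* (W12 ≃ₗ[ZMod 2] W12)} {q : W12 → ZMod 2} (h : Cfg Γ A B M x π ρ q)
include h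

theorem card_M : Nat.card M = 9797760 := by
  have e := π.ker.card_mul_index
  rw [Subgroup.index_ker, h.ker, Nat.card_zpowers, h.ord,
    MonoidHom.range_eq_top.2 h.surj, Subgroup.card_top, h.cardP] at e
  omega

theorem card_Γ : Nat.card Γ = 19595520 := by
  have e := M.card_mul_index
  rw [h.idx, h.card_M] at e
  omega

theorem x_cube : x ^ 3 = 1 := h.ord ▸ pow_orderOf_eq_one x

theorem x_central (m : M) : m * x = x * m := by
  haveI := h.simple
  set C := Subgroup.centralizer ({x} : Set M) with hC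
  have hconj : ∀ m : M, m * x * m⁻¹ = x ∨ m * x * m⁻¹ = x⁻¹ := fun m =>
    (h.normX m).imp (fun e => Subtype.ext e) fun e => Subtype.ext e
  have hidx : C.index ≤ 2 := by
    have hC' : ∀ m : M, m ∈ C ↔ m * x * m⁻¹ = x := fun m => by
      rw [hC, Subgroup.mem_centralizer_singleton_iff, mul_inv_eq_iff_eq_mul]
    by_cases hall : ∀ m, m ∈ C
    · rw [(Subgroup.eq_top_iff' C).2 hall, Subgroup.index_top]; norm_num
    · push Not at hall
      obtain ⟨m₀, hm₀⟩ := hall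
      have h0 : m₀ * x * m₀⁻¹ = x⁻¹ := (hconj m₀).resolve_left fun e => hm₀ ((hC' m₀).2 e)
      refine le_of_eq (Subgroup.index_eq_two_iff.2 ⟨m₀, fun b => ?_⟩)
      rw [hC', hC', show b * m₀ * x * (b * m₀)⁻¹ = b * (m₀ * x * m₀⁻¹) * b⁻¹ by group, h0,
        show b * x⁻¹ * b⁻¹ = (b * x * b⁻¹)⁻¹ by group]
      have hxx : x⁻¹ ≠ x := fun e => by
        have h2 : x ^ 2 = 1 := by
          rw [pow_two]
          calc x * x = x⁻¹ * x := by rw [e]
            _ = 1 := inv_mul_cancel x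
        have := orderOf_dvd_of_pow_eq_one h2
        rw [h.ord] at this; omega
      rcases hconj b with e | e <;> rw [e]
      · exact Or.inr ⟨rfl, hxx⟩
      · rw [inv_inv]; exact Or.inl ⟨rfl, hxx⟩
  have hn : C.Normal := ⟨fun c hc g => by
    rw [hC, Subgroup.mem_centralizer_singleton_iff] at hc ⊢
    have hg : g⁻¹ * x * g⁻¹⁻¹ = x ∨ g⁻¹ * x * g⁻¹⁻¹ = x⁻¹ := hconj g⁻¹
    rw [inv_inv] at hg
    have hc' : Commute c (g⁻¹ * x * g) := by
      rcases hg with e | e <;> rw [e]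
      · exact hc
      · exact Commute.inv_right hc
    calc g * c * g⁻¹ * x = g * (c * (g⁻¹ * x * g)) * g⁻¹ := by group
      _ = g * (g⁻¹ * x * g * c) * g⁻¹ := by rw [hc'.eq]
      _ = x * (g * c * g⁻¹) := by group⟩
  rcases (hn.map π h.surj).eq_bot_or_eq_top with e | e
  · exfalso
    rw [Subgroup.map_eq_bot_iff, h.ker] at e
    have h1 := C.card_mul_index
    have h2 := Subgroup.card_le_of_le e
    rw [Nat.card_zpowers, h.ord] at h2
    rw [h.card_M] at h1
    nlinarith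
  · obtain ⟨c, hc, hcm⟩ : π m ∈ C.map π := by rw [e]; trivial
    have hk : c⁻¹ * m ∈ Subgroup.zpowers x := by
      rw [← h.ker, MonoidHom.mem_ker, map_mul, map_inv, hcm, inv_mul_cancel]
    obtain ⟨i, hi⟩ := hk
    have hc' : Commute c x := Subgroup.mem_centralizer_singleton_iff.1 hc
    have : Commute (c * x ^ i) x := hc'.mul_left (Commute.zpow_left (Commute.refl x) i)
    rw [show c * x ^ i = m by rw [show x ^ i = c⁻¹ * m from hi, mul_inv_cancel_left]] at this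
    exact this.eq

/-- The exponent of a power of `x`. -/
noncomputable def lx (_h : Cfg Γ A B M x π ρ q) (y : M) : ZMod 3 :=
  Classical.epsilon fun j : ZMod 3 => x ^ j.val = y

theorem pow_val_add (i j : ZMod 3) : x ^ (i + j).val = x ^ i.val * x ^ j.val := by
  rw [← pow_add, ZMod.val_add]
  conv_rhs => rw [← Nat.div_add_mod (i.val + j.val) 3, pow_add, pow_mul, h.x_cube, one_pow, one_mul]

theorem pow_val_inj (i j : ZMod 3) (e : x ^ i.val = x ^ j.val) : i = j :=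
  ZMod.val_injective 3 (pow_injOn_Iio_orderOf (Set.mem_Iio.2 (h.ord.symm ▸ ZMod.val_lt i))
    (Set.mem_Iio.2 (h.ord.symm ▸ ZMod.val_lt j)) e)

theorem lx_spec {y : M} (hy : π y = 1) : x ^ (h.lx y).val = y := by
  refine Classical.epsilon_spec (p := fun j : ZMod 3 => x ^ j.val = y) ?_
  have hm : y ∈ Subgroup.zpowers x := h.ker ▸ hy
  rw [← mem_powers_iff_mem_zpowers] at hm
  obtain ⟨k, hk⟩ := hm
  refine ⟨(k : ZMod 3), ?_⟩
  rw [ZMod.val_natCast, ← h.ord, pow_mod_orderOf]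
  exact hk

theorem lx_mul {y z : M} (hy : π y = 1) (hz : π z = 1) : h.lx (y * z) = h.lx y + h.lx z := by
  refine h.pow_val_inj _ _ ?_
  rw [h.pow_val_add, h.lx_spec hy, h.lx_spec hz, h.lx_spec (by rw [map_mul, hy, hz, one_mul])]

theorem lx_one : h.lx 1 = 0 := h.pow_val_inj _ _ (by rw [h.lx_spec (map_one π), ZMod.val_zero, pow_zero])

theorem lx_x : h.lx x = 1 := by
  have hx : π x = 1 := by
    have : x ∈ π.ker := by rw [h.ker]; exact Subgroup.mem_zpowers x
    exact this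
  exact h.pow_val_inj _ _ (by rw [h.lx_spec hx, ZMod.val_one, pow_one])

theorem ker_central {y : M} (hy : π y = 1) (m : M) : m * y = y * m := by
  rw [← h.lx_spec hy]
  exact (Commute.pow_right (h.x_central m) _).eq

/-- A lift of an element of `P`. -/
noncomputable def sec (_h : Cfg Γ A B M x π ρ q) (a : P) : M := Function.invFun π a

theorem π_sec (a : P) : π (h.sec a) = a := Function.invFun_eq (h.surj a)

theorem comm_lift {t u : M} (ht : π t ∈ A) (hu : π u ∈ A) : π ⁅t, u⁆ = 1 := by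
  rw [map_commutatorElement, commutatorElement_eq_one_iff_mul_comm]
  exact h.frame.commA _ ht _ hu

theorem comm_congr {t t' u u' : M} (et : π t = π t') (eu : π u = π u') : ⁅t, u⁆ = ⁅t', u'⁆ := by
  have hk : π (t'⁻¹ * t) = 1 := by rw [map_mul, map_inv, et, inv_mul_cancel]
  have hl : π (u'⁻¹ * u) = 1 := by rw [map_mul, map_inv, eu, inv_mul_cancel]
  have h1 := h.ker_central hk
  have h2 := h.ker_central hl
  rw [show t = t' * (t'⁻¹ * t) by group, show u = u' * (u'⁻¹ * u) by group]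
  generalize t'⁻¹ * t = k at h1 ⊢
  generalize u'⁻¹ * u = l at h2 ⊢
  simp only [commutatorElement_def, mul_inv_rev]
  calc t' * k * (u' * l) * (k⁻¹ * t'⁻¹) * (l⁻¹ * u'⁻¹)
      = t' * (k * (u' * l)) * k⁻¹ * t'⁻¹ * l⁻¹ * u'⁻¹ := by group
    _ = t' * u' * l * t'⁻¹ * l⁻¹ * u'⁻¹ := by rw [← h1 (u' * l)]; group
    _ = t' * u' * (l * t'⁻¹) * l⁻¹ * u'⁻¹ := by group
    _ = t' * u' * t'⁻¹ * u'⁻¹ := by rw [← h2 t'⁻¹]; group

theorem torus_comm {t u : M} (ht : π t ∈ A) (hu : π u ∈ A) : t * u = u * t := by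
  have key := h.frame.noAlt (fun a c => h.lx ⁅h.sec a, h.sec c⁆) ?_ ?_ ?_ ?_ (π t) ht (π u) hu
  · rw [← commutatorElement_eq_one_iff_mul_comm]
    have e : ⁅t, u⁆ = ⁅h.sec (π t), h.sec (π u)⁆ := h.comm_congr (h.π_sec _).symm (h.π_sec _).symm
    rw [e, ← h.lx_spec (h.comm_lift (by rwa [h.π_sec]) (by rwa [h.π_sec])), key, ZMod.val_zero, pow_zero]
  · intro a ha a' ha' c hc
    have hm : ∀ a ∈ A, π (h.sec a) ∈ A := fun a ha => by rwa [h.π_sec]
    rw [← h.lx_mul (h.comm_lift (hm a ha) (hm c hc)) (h.comm_lift (hm a' ha') (hm c hc))]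
    congr 1
    rw [h.comm_congr (t := h.sec (a * a')) (t' := h.sec a * h.sec a') (u' := h.sec c)
      (by rw [map_mul, h.π_sec, h.π_sec, h.π_sec]) rfl]
    have hc' := h.ker_central (h.comm_lift (hm a' ha') (hm c hc))
    simp only [commutatorElement_def, mul_inv_rev] at hc' ⊢
    generalize h.sec a = u₁ at hc' ⊢
    generalize h.sec a' = u₂ at hc' ⊢
    generalize h.sec c = u₃ at hc' ⊢
    calc u₁ * u₂ * u₃ * (u₂⁻¹ * u₁⁻¹) * u₃⁻¹ = u₁ * (u₂ * u₃ * u₂⁻¹ * u₃⁻¹) * u₃ * u₁⁻¹ * u₃⁻¹ := by group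
      _ = u₂ * u₃ * u₂⁻¹ * u₃⁻¹ * (u₁ * u₃ * u₁⁻¹ * u₃⁻¹) := by rw [hc' u₁]; group
      _ = u₁ * u₃ * u₁⁻¹ * u₃⁻¹ * (u₂ * u₃ * u₂⁻¹ * u₃⁻¹) := (hc' _).symm
  · intro a ha c hc c' hc'
    have hm : ∀ a ∈ A, π (h.sec a) ∈ A := fun a ha => by rwa [h.π_sec]
    rw [← h.lx_mul (h.comm_lift (hm a ha) (hm c hc)) (h.comm_lift (hm a ha) (hm c' hc'))]
    congr 1
    rw [h.comm_congr (u := h.sec (c * c')) (t' := h.sec a) (u' := h.sec c * h.sec c') rfl
      (by rw [map_mul, h.π_sec, h.π_sec, h.π_sec])]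
    have hd := h.ker_central (h.comm_lift (hm a ha) (hm c' hc'))
    simp only [commutatorElement_def, mul_inv_rev] at hd ⊢
    generalize h.sec a = u₁ at hd ⊢
    generalize h.sec c = u₂ at hd ⊢
    generalize h.sec c' = u₃ at hd ⊢
    calc u₁ * (u₂ * u₃) * u₁⁻¹ * (u₃⁻¹ * u₂⁻¹) = u₁ * u₂ * u₁⁻¹ * (u₁ * u₃ * u₁⁻¹ * u₃⁻¹) * u₂⁻¹ := by group
      _ = u₁ * u₂ * u₁⁻¹ * u₂⁻¹ * (u₁ * u₃ * u₁⁻¹ * u₃⁻¹) := by
          rw [mul_assoc (u₁ * u₂ * u₁⁻¹), ← hd u₂⁻¹, ← mul_assoc]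
  · intro a _
    show h.lx ⁅h.sec a, h.sec a⁆ = 0
    rw [show ⁅h.sec a, h.sec a⁆ = 1 by simp [commutatorElement_def], h.lx_one]
  · intro b hb a ha c hc
    show h.lx _ = h.lx _
    congr 1
    obtain ⟨m, rfl⟩ := h.surj b
    have e : π (m * h.sec a * m⁻¹) = π m * a * (π m)⁻¹ := by rw [map_mul, map_mul, map_inv, h.π_sec]
    have e' : π (m * h.sec c * m⁻¹) = π m * c * (π m)⁻¹ := by rw [map_mul, map_mul, map_inv, h.π_sec]
    rw [h.comm_congr (t' := m * h.sec a * m⁻¹) (u' := m * h.sec c * m⁻¹) ((h.π_sec _).trans e.symm)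
      ((h.π_sec _).trans e'.symm), ← conjugate_commutatorElement]
    rw [h.ker_central (h.comm_lift (by rwa [h.π_sec]) (by rwa [h.π_sec])) m, mul_inv_cancel_right]

theorem torus_cube {t : M} (ht : π t ∈ A) : t ^ 3 = 1 := by
  have hcube : ∀ {y : M}, π y ∈ A → π (y ^ 3) = 1 := fun {y} hy => by rw [map_pow, h.frame.cubeA _ hy]
  have hind : ∀ {u u' : M}, π u ∈ A → π u = π u' → u ^ 3 = u' ^ 3 := by
    intro u u' hu e
    have hk : π (u'⁻¹ * u) = 1 := by rw [map_mul, map_inv, e, inv_mul_cancel]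
    conv_lhs => rw [show u = u' * (u'⁻¹ * u) by group]
    rw [Commute.mul_pow (h.ker_central hk u'), ← h.lx_spec hk, ← pow_mul, mul_comm, pow_mul, h.x_cube, one_pow,
      mul_one]
  have key := h.frame.noLin (fun a => h.lx (h.sec a ^ 3)) ?_ ?_ (π t) ht
  · rw [hind ht (h.π_sec _).symm, ← h.lx_spec (hcube (by rwa [h.π_sec])), key, ZMod.val_zero, pow_zero]
  · intro a ha a' ha'
    show h.lx _ = h.lx _ + h.lx _
    rw [← h.lx_mul (hcube (by rwa [h.π_sec])) (hcube (by rwa [h.π_sec]))]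
    congr 1
    rw [hind (u' := h.sec a * h.sec a') (by rw [h.π_sec]; exact mul_mem ha ha')
      (by rw [map_mul, h.π_sec, h.π_sec, h.π_sec])]
    exact Commute.mul_pow (h.torus_comm (by rwa [h.π_sec]) (by rwa [h.π_sec])) 3
  · intro b hb a ha
    show h.lx _ = h.lx _
    congr 1
    obtain ⟨m, rfl⟩ := h.surj b
    rw [hind (u' := m * h.sec a * m⁻¹) (by rw [h.π_sec]; exact h.frame.norm _ hb _ ha)
      (by rw [map_mul, map_mul, map_inv, h.π_sec, h.π_sec]), conj_pow,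
      h.ker_central (hcube (by rwa [h.π_sec])) m, mul_inv_cancel_right]

theorem card_torus : Nat.card (A.comap π) = 243 := by
  have e := (A.comap π).card_mul_index
  rw [A.index_comap_of_surjective h.surj, h.card_M] at e
  have e2 := A.card_mul_index
  rw [h.frame.cardA, h.cardP] at e2
  rw [show A.index = 40320 by omega] at e
  omega

end Cfg

end CfsgLib.Sporadic.LargeFischer
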