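import Cfsg.Agent.Lib.Sporadic.LargeFischer.Stabilizers

/-!
# Totally singular subgroups containing the all-one vector and invariant under `A₆`
-/

set_option autoImplicit false
set_option linter.unusedSectionVars false

namespace CfsgLib.Sporadic.LargeFischer

/-- The constant vector. -/
def cst (a : D4) : V6 := fun _ => a

/-- The all-one vector. -/
def one6 : V6 := cst (1, 0)

/-- A multiple of a vector of weight two with equal entries. -/
def cp (c : ZMod 3) (i k : Fin 6) : V6 := fun l => if l = i ∨ l = k then omp c (1, 0) else 0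

/-- A few even permutations. -/
def seven : Fin 7 → Equiv.Perm (Fin 6) :=
  ![Equiv.swap 1 2 * Equiv.swap 2 3 * Equiv.swap 3 4 * Equiv.swap 4 5,
    Equiv.swap 0 1 * Equiv.swap 1 2 * Equiv.swap 2 5 * Equiv.swap 5 3,
    Equiv.swap 1 3 * Equiv.swap 3 4 * Equiv.swap 4 2 * Equiv.swap 2 5,
    Equiv.swap 0 1 * Equiv.swap 1 4 * Equiv.swap 4 3 * Equiv.swap 3 5,
    Equiv.swap 0 1 * Equiv.swap 1 2,
    Equiv.swap 0 1 * Equiv.swap 1 2 * Equiv.swap 2 3 * Equiv.swap 3 4,
    1]

theorem seven_mem : ∀ l, seven l ∈ alternatingGroup (Fin 6) := by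
  intro l
  rw [Equiv.Perm.mem_alternatingGroup]
  revert l
  decide +kernel

theorem vec6 (r : V6) : r = ![r 0, r 1, r 2, r 3, r 4, r 5] := by
  funext i; fin_cases i <;> rfl

theorem shape_tuple : ∀ u0 u1 u2 u3 u4 u5 : D4, qs (![u0, u1, u2, u3, u4, u5] : V6) = 0 → bs (![u0, u1, u2, u3, u4, u5] : V6) one6 = 0 → bs (![u0, u1, u2, u3, u4, u5] : V6) (omV one6) = 0 →
    (∀ l, bs (![u0, u1, u2, u3, u4, u5] : V6) (fun i => (![u0, u1, u2, u3, u4, u5] : V6) (seven l i)) = 0) → (∃ a, (![u0, u1, u2, u3, u4, u5] : V6) = cst a) ∨ ∃ c i k a, i ≠ k ∧ (![u0, u1, u2, u3, u4, u5] : V6) = cp c i k + cst a := by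
  set_option maxRecDepth 100000 in set_option synthInstance.maxSize 4096 in set_option synthInstance.maxHeartbeats 400000 in decide +kernel

/-- A vector orthogonal to its images lies in one of the three expected subgroups. -/
theorem shape (r : V6) : qs r = 0 → bs r one6 = 0 → bs r (omV one6) = 0 →
    (∀ l, bs r (fun i => r (seven l i)) = 0) → (∃ a, r = cst a) ∨ ∃ c i k a, i ≠ k ∧ r = cp c i k + cst a := by
  have := shape_tuple (r 0) (r 1) (r 2) (r 3) (r 4) (r 5)
  rwa [← vec6 r] at this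

theorem proportional_tuple : ∀ u0 u1 u2 u3 u4 u5 : D4, qs (![u0, u1, u2, u3, u4, u5] : V6) = 0 → bs (![u0, u1, u2, u3, u4, u5] : V6) one6 = 0 → bs (![u0, u1, u2, u3, u4, u5] : V6) (omV one6) = 0 →
    (∀ l, bs (![u0, u1, u2, u3, u4, u5] : V6) (fun i => (![u0, u1, u2, u3, u4, u5] : V6) (seven l i)) = 0) → (∀ l, bs (![u0, u1, u2, u3, u4, u5] : V6) (fun i => omV (![u0, u1, u2, u3, u4, u5] : V6) (seven l i)) = 0) → ∃ a, (![u0, u1, u2, u3, u4, u5] : V6) = cst a := by
  set_option maxRecDepth 100000 in set_option synthInstance.maxSize 4096 in set_option synthInstance.maxHeartbeats 400000 in decide +kernel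

/-- Two proportional such vectors are constant. -/
theorem proportional (r : V6) : qs r = 0 → bs r one6 = 0 → bs r (omV one6) = 0 →
    (∀ l, bs r (fun i => r (seven l i)) = 0) → (∀ l, bs r (fun i => omV r (seven l i)) = 0) → ∃ a, r = cst a := by
  have := proportional_tuple (r 0) (r 1) (r 2) (r 3) (r 4) (r 5)
  rwa [← vec6 r] at this

end CfsgLib.Sporadic.LargeFischer
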