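import Cfsg.Agent.Lib.Sporadic.LargeFischer.Orbit

/-!
# Coordinates adapted to the torus
-/

set_option autoImplicit false
set_option linter.unusedSectionVars false

namespace CfsgLib.Sporadic.LargeFischer

open Twisted (Add3)

namespace Cfg

variable {Γ : Type*} [Group Γ] [Finite Γ] {P : Type} [Group P] {A B : Subgroup P} {M : Subgroup Γ} {x : M}
  {π : M →* P} {ρ : Γ →* (W12 ≃ₗ[ZMod 2] W12)} {q : W12 → ZMod 2} (h : Cfg Γ A B M x π ρ q)
  [Fintype ↥(A.comap π)]
include h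

theorem rho_x_fpf (w : W12) (hw : ρ (x : Γ) w = w) : w = 0 := by
  obtain ⟨O, -, -, -, -, -, hΛ⟩ := h.exists_six
  set D := h.doubled with hD
  have hy : D.σ h.xT (w, 0) = (w, 0) := by
    show (ρ (x : Γ) w, ρ (x : Γ) 0) = (w, 0)
    rw [hw, map_zero]
  have h0 : ∀ χ ∈ D.weights, D.proj χ (w, 0) = 0 := by
    intro χ hχ
    by_contra hne
    have e1 : D.σ h.xT (D.proj χ (w, 0)) = D.proj χ (w, 0) := by
      rw [D.proj_apply, map_sum]
      refine Finset.sum_congr rfl fun t _ => ?_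
      rw [D.σ_pw, ← D.σ_mul, D.comm, D.σ_mul, hy]
    rw [D.proj_eig (D.add3_of_mem hχ) _ h.xT] at e1
    exact (hΛ χ hχ).1 (D.pw_injective hne (e1.trans (D.pw_zero _).symm))
  have := D.sum_proj (w, 0)
  rw [Finset.sum_eq_zero h0] at this
  exact (congrArg Prod.fst this).symm

/-- The action on the space with `x` as scalar of order three. -/
noncomputable def single : Twisted (A.comap π) W12 where
  σ t := h.rT t
  ω := h.rT h.xT
  two y := funext fun i => CharTwo.add_self_eq_zero _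
  fpf y e := h.rho_x_fpf y e
  ω_cube y := by
    show ρ (x : Γ) (ρ (x : Γ) (ρ (x : Γ) y)) = y
    rw [← h.rho_mul, ← h.rho_mul, show x * x * x = x ^ 3 by rw [pow_succ, pow_two], h.x_cube]
    simp
  σ_one y := by
    show ρ ((1 : M) : Γ) y = y
    simp
  σ_mul t u y := h.rho_mul t u y
  σ_ω t y := by
    show ρ ((t : M) : Γ) (ρ (x : Γ) y) = ρ (x : Γ) (ρ ((t : M) : Γ) y)
    rw [← h.rho_mul, ← h.rho_mul, h.x_central]
  comm t u := Subtype.ext (h.torus_comm t.2 u.2)
  cube t := Subtype.ext (h.torus_cube t.2)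

theorem single_eig_doubled {χ : A.comap π → ZMod 3} {w : W12} (hw : h.single.Eig χ w) :
    h.doubled.Eig χ (w, h.single.ω w) := by
  intro t
  have e1 : ρ ((t : M) : Γ) w = h.single.pw (χ t) w := hw t
  show (ρ ((t : M) : Γ) w, ρ ((t : M) : Γ) (h.single.ω w)) = h.doubled.pw (χ t) (w, h.single.ω w)
  have e2 : ρ ((t : M) : Γ) (h.single.ω w) = h.single.ω (h.single.pw (χ t) w) :=
    (h.single.σ_ω t w).trans (congrArg h.single.ω e1)
  rw [e1, e2]
  have hs := h.single.sum_pw w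
  have h2 : ∀ z : W12, z + z = 0 := h.single.two
  have hω2 : w + h.single.ω w = h.single.ω (h.single.ω w) := by
    calc w + h.single.ω w = (w + h.single.ω w + h.single.ω (h.single.ω w)) + h.single.ω (h.single.ω w) := by
          rw [add_assoc (w + h.single.ω w), h2, add_zero]
      _ = _ := by rw [hs, zero_add]
  rcases Twisted.zmod3_cases (χ t) with e | e | e <;> rw [e]
  · rfl
  · show (h.single.ω w, h.single.ω (h.single.ω w)) = (h.single.ω w, w + h.single.ω w)
    rw [hω2]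
  · show (h.single.ω (h.single.ω w), h.single.ω (h.single.ω (h.single.ω w))) =
      (w + h.single.ω w, h.single.ω w + (w + h.single.ω w))
    rw [hω2, h.single.ω_cube, ← hω2]
    refine Prod.ext rfl ?_
    rw [add_left_comm, h2, add_zero]

theorem single_act (m : B.comap π) {χ : A.comap π → ZMod 3} {w : W12} (hw : h.single.Eig χ w) :
    h.single.Eig (h.act3 m χ) (ρ ((m : M) : Γ) w) := by
  intro t
  obtain ⟨u, rfl⟩ := (h.conjT m).surjective t
  rw [h.act3_apply]
  have hω : ∀ z, h.single.ω (ρ ((m : M) : Γ) z) = ρ ((m : M) : Γ) (h.single.ω z) := fun z => by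
    show ρ (x : Γ) (ρ ((m : M) : Γ) z) = ρ ((m : M) : Γ) (ρ (x : Γ) z)
    rw [← h.rho_mul, ← h.rho_mul, h.x_central]
  have e : ρ (((h.conjT m u : A.comap π) : M) : Γ) (ρ ((m : M) : Γ) w) = ρ ((m : M) : Γ) (ρ ((u : M) : Γ) w) := by
    rw [← h.rho_mul, ← h.rho_mul]
    show ρ ((((m : M) * u * (m : M)⁻¹ * m : M)) : Γ) w = _
    rw [inv_mul_cancel_right]
  have e2 : ρ ((u : M) : Γ) w = h.single.pw (χ u) w := hw u
  show ρ (((h.conjT m u : A.comap π) : M) : Γ) (ρ ((m : M) : Γ) w) = _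
  rw [e, e2]
  rcases Twisted.zmod3_cases (χ u) with r | r | r <;>
    simp only [r, Twisted.pw_zero, Twisted.pw_one, Twisted.pw_two, hω]

/-- Six weights with a transitive action, each of multiplicity one. -/
theorem exists_weights : ∃ χ : Fin 6 → (A.comap π → ZMod 3), Function.Injective χ ∧
    (∀ i, χ i h.xT = 1 ∧ Add3 (χ i)) ∧
    (∀ i, Nat.card {w : W12 // h.single.Eig (χ i) w} = 4) ∧ (∀ ψ, ψ ∈ h.single.weights ↔ ∃ i, χ i = ψ) ∧
    (∀ m i, ∃ j, h.act3 m (χ i) = χ j) ∧ (∀ i j, ∃ m, h.act3 m (χ i) = χ j) ∧ ∀ i, ∃ m, h.act3 m (χ i) ≠ χ i := by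
  classical
  obtain ⟨O, hO, hOx, hcl, hmov, htr, hΛ⟩ := h.exists_six
  have hsub : ∀ ψ ∈ h.single.weights, ψ ∈ O := by
    intro ψ hψ
    obtain ⟨w, hw, he⟩ := h.single.mem_weights.1 hψ
    have hd : ψ ∈ h.doubled.weights := h.doubled.mem_weights.2
      ⟨_, fun e => hw (congrArg Prod.fst e), h.single_eig_doubled he⟩
    refine (hΛ ψ hd).2 ?_
    refine h.single.pw_injective hw ?_
    rw [← he h.xT, Twisted.pw_one]
    rfl
  obtain ⟨ψ₀, hψ₀⟩ : h.single.weights.Nonempty := by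
    by_contra hc
    rw [Finset.not_nonempty_iff_eq_empty] at hc
    have := h.single.sum_proj (fun _ => 1)
    rw [hc, Finset.sum_empty] at this
    exact zero_ne_one (congrFun this 0)
  have hall : h.single.weights = O := by
    refine Finset.Subset.antisymm hsub fun r hr => ?_
    obtain ⟨m, rfl⟩ := htr ψ₀ (hsub ψ₀ hψ₀) r hr
    obtain ⟨w, hw, he⟩ := h.single.mem_weights.1 hψ₀
    exact h.single.mem_weights.2 ⟨_, fun e => hw ((ρ _).map_eq_zero_iff.1 e), h.single_act m he⟩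
  let e : Fin 6 ≃ O := (finCongr hO.symm).trans O.equivFin.symm
  refine ⟨fun i => (e i : A.comap π → ZMod 3), Subtype.val_injective.comp e.injective,
    fun i => hOx _ (e i).2, fun i => ?_, fun ψ => ?_, fun m i => ?_, fun i j => htr _ (e i).2 _ (e j).2,
    fun i => hmov _ (e i).2⟩
  · exact h.single.card_eq_four 6 (by rw [hall, hO]) (by simp [Nat.card_eq_fintype_card]) ⟨_, hall ▸ (e i).2⟩
  · rw [hall]
    exact ⟨fun hψ => ⟨e.symm ⟨ψ, hψ⟩, by simp⟩, by rintro ⟨i, rfl⟩; exact (e i).2⟩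
  · exact ⟨e.symm ⟨_, hcl m _ (e i).2⟩, by simp⟩

end Cfg

end CfsgLib.Sporadic.LargeFischer
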