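import Cfsg.Agent.Lib.Sporadic.LargeFischer.EightLine
import Cfsg.Agent.Lib.PGroup.Frattini
import Cfsg.Agent.Lib.LocalEven.Residual

/-!
# Groups of large Fischer type: the two-core of the centraliser of the elementary group of order eight
-/

set_option autoImplicit false
set_option linter.style.haveILetI false
set_option linter.unusedSectionVars false

namespace CfsgLib.Sporadic.LargeFischer

open CfsgLib.ThreeTransp.Extraspecial
open scoped commutatorElement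

theorem gen_pair : ∀ x y w : ZMod 2 × ZMod 2, x.1 = 1 → y.2 = 1 → w.1 + w.2 = 1 →
    ((1, 0) = x ∨ (1, 0) = y ∨ (1, 0) = w ∨ (1, 0) = x + y ∨ (1, 0) = x + w ∨ (1, 0) = y + w) ∧
    ((0, 1) = x ∨ (0, 1) = y ∨ (0, 1) = w ∨ (0, 1) = x + y ∨ (0, 1) = x + w ∨ (0, 1) = y + w) := by
  decide

namespace LF

variable {G : Type*} [Group G] [Finite G] {z : G} {Q : Subgroup (Subgroup.centralizer ({z} : Set G))} [Q.Normal]
  {π : G → V6} {ψ : ↥(Subgroup.centralizer ({z} : Set G)) →* (V6 ≃ₗ[ZMod 2] V6)} (h : LF z (qImg Q) π ψ)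
include h

theorem nondeg {w : V6} (hw : ∀ q ∈ qImg Q, bs (π q) w = 0) : w = 0 := by
  by_contra hne
  obtain ⟨a, ha, e⟩ := h.π_surj w
  obtain ⟨q, hq, hqe⟩ := h.extra.exists_conj_eq ha (fun e1 => hne (by rw [← e, e1, h.π_one]))
    (fun e1 => hne (by rw [← e, e1, h.π_z]))
  have hc := h.commute_of_bs hq ha (by rw [e]; exact hw q hq)
  rw [hc, mul_inv_cancel_right] at hqe
  exact h.extra.z_ne (mul_eq_left.1 hqe.symm)

theorem exists_bs_one {w : V6} (hw : w ≠ 0) : ∃ q ∈ qImg Q, bs (π q) w = 1 := by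
  by_contra hc
  push Not at hc
  exact hw (h.nondeg fun q hq => (z2 _).resolve_right (hc q hq))

theorem exists_dual {v : V6} (hv : v ≠ 0) :
    (∃ q ∈ qImg Q, bs (π q) v = 1 ∧ bs (π q) (omV v) = 0) ∧
    ∃ q ∈ qImg Q, bs (π q) v = 0 ∧ bs (π q) (omV v) = 1 := by
  obtain ⟨x, hx, ex⟩ := h.exists_bs_one hv
  obtain ⟨y, hy, ey⟩ := h.exists_bs_one (w := omV v) fun e => hv (omV_inj (e.trans omV_zero.symm))
  obtain ⟨w, hw, ew⟩ := h.exists_bs_one (w := v + omV v) fun e =>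
    hv (omV_inj (omV_inj (by rw [omV_sq, e, omV_zero, omV_zero])))
  rw [bs_add] at ew
  let f : G → ZMod 2 × ZMod 2 := fun q => (bs (π q) v, bs (π q) (omV v))
  have hadd : ∀ a ∈ qImg Q, ∀ b ∈ qImg Q, f (a * b) = f a + f b := fun a ha b hb => by
    simp only [f, h.π_mul a ha b hb, bs_add_left, Prod.mk_add_mk]
  have key : ∀ t, (t = f x ∨ t = f y ∨ t = f w ∨ t = f x + f y ∨ t = f x + f w ∨ t = f y + f w) →
      ∃ q ∈ qImg Q, f q = t := by
    rintro t (rfl | rfl | rfl | rfl | rfl | rfl)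
    exacts [⟨x, hx, rfl⟩, ⟨y, hy, rfl⟩, ⟨w, hw, rfl⟩, ⟨_, mul_mem hx hy, hadd x hx y hy⟩,
      ⟨_, mul_mem hx hw, hadd x hx w hw⟩, ⟨_, mul_mem hy hw, hadd y hy w hw⟩]
  obtain ⟨g1, g2⟩ := gen_pair (f x) (f y) (f w) ex ey ew
  obtain ⟨q, hq, e⟩ := key _ g1
  obtain ⟨q', hq', e'⟩ := key _ g2
  exact ⟨⟨q, hq, congrArg Prod.fst e, congrArg Prod.snd e⟩, q', hq', congrArg Prod.fst e', congrArg Prod.snd e'⟩

/-- The centraliser of the elementary group of order eight. -/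
def cLine (g : G) : Subgroup G := Subgroup.centralizer (h.lineGrp (π (g * z * g⁻¹)) : Set G)

theorem cLine_le (g : G) : h.cLine g ≤ Subgroup.centralizer ({z} : Set G) := fun c hc =>
  Subgroup.mem_centralizer_singleton_iff.2 (hc z (h.z_mem_line _)).symm

/-- The action of the centraliser on the coordinates. -/
def cAct (g : G) : ↥(h.cLine g) →* (V6 ≃ₗ[ZMod 2] V6) := ψ.comp (Subgroup.inclusion (h.cLine_le g))

theorem cAct_apply (g : G) (c : ↥(h.cLine g)) :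
    h.cAct g c = ψ ⟨c, h.cLine_le g c.2⟩ := rfl

/-- The part inside `Q`. -/
def qLine (g : G) : Subgroup G := qImg Q ⊓ h.cLine g

/-- The part inside the conjugate of `Q`. -/
def sLine (g : G) : Subgroup G := (qImg Q).map (MulAut.conj g).toMonoidHom ⊓ h.cLine g

/-- The two-core. -/
def rLine (g : G) : Subgroup G := h.sLine g ⊔ h.qLine g

variable {g : G} (hu : g * z * g⁻¹ ∈ qImg Q) (hne : g * z * g⁻¹ ≠ z)
include hu hne

theorem exists_b : ∃ b ∈ h.lineGrp (π (g * z * g⁻¹)), π b = omV (π (g * z * g⁻¹)) ∧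
    ∀ c : G, c * z = z * c → c * (g * z * g⁻¹) = g * z * g⁻¹ * c → c * b = b * c → c ∈ h.cLine g := by
  obtain ⟨b, hb, e⟩ := h.π_surj (omV (π (g * z * g⁻¹)))
  refine ⟨b, ⟨hb, (0, 1), by rw [e, sc_om]⟩, e, fun c hcz hcs hcb => Subgroup.mem_centralizer_iff.2 ?_⟩
  rintro a ⟨ha, ⟨e1, e2⟩, he⟩
  have key : ∃ r, π r = π a ∧ r ∈ qImg Q ∧ Commute c r := by
    rcases z2 e1 with rfl | rfl <;> rcases z2 e2 with rfl | rfl
    · exact ⟨1, by rw [h.π_one, he]; exact (sc_zero _).symm, one_mem _, Commute.one_right c⟩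
    · exact ⟨b, by rw [e, he]; exact (sc_om _).symm, hb, hcb⟩
    · exact ⟨g * z * g⁻¹, by rw [he]; exact (sc_one _).symm, hu, hcs⟩
    · exact ⟨g * z * g⁻¹ * b, by rw [h.π_mul _ hu _ hb, e, he, sc, one_smul, one_smul], mul_mem hu hb,
        Commute.mul_right hcs hcb⟩
  obtain ⟨r, hr, hrQ, hcr⟩ := key
  rcases (h.π_eq_iff hrQ ha).1 hr with rfl | rfl
  · exact hcr.eq.symm
  · exact (Commute.mul_right hcr hcz).eq.symm

theorem cAct_props (c : ↥(h.cLine g)) : h.cAct g c (π (g * z * g⁻¹)) = π (g * z * g⁻¹) ∧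
    ∀ w, h.cAct g c (omV w) = omV (h.cAct g c w) := by
  obtain ⟨b, hb, e, -⟩ := h.exists_b hu hne
  set v := π (g * z * g⁻¹) with hv
  have key : ∀ a ∈ h.lineGrp v, h.cAct g c (π a) = π a := fun a ha => by
    rw [h.cAct_apply, ← h.act _ a ha.1]
    show π ((c : G) * a * (c : G)⁻¹) = π a
    rw [← Subgroup.mem_centralizer_iff.1 c.2 a ha, mul_inv_cancel_right]
  have h1 := key _ (h.s_mem_line hu hne)
  have h2 := key b hb
  rw [e] at h2
  refine ⟨h1, ?_⟩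
  rcases h.model.scal (h.cAct g c) ⟨_, rfl⟩ with e1 | e1
  · exact e1
  · exfalso
    have e2 := e1 v
    rw [h2, h1] at e2
    have e3 := omV_inj e2
    have e4 := omV_sq v
    rw [← e3, ← e3, two_V6] at e4
    exact h.v_ne hu hne e4

theorem mem_cLine_Q {q : G} (hq : q ∈ qImg Q) : q ∈ h.cLine g ↔
    bs (π q) (π (g * z * g⁻¹)) = 0 ∧ bs (π q) (omV (π (g * z * g⁻¹))) = 0 := by
  obtain ⟨b, hb, e, hgen⟩ := h.exists_b hu hne
  constructor
  · intro hc
    refine ⟨h.bs_of_commute hq hu (Subgroup.mem_centralizer_iff.1 hc _ (h.s_mem_line hu hne)).symm, ?_⟩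
    rw [← e]
    exact h.bs_of_commute hq hb.1 (Subgroup.mem_centralizer_iff.1 hc _ hb).symm
  · rintro ⟨e1, e2⟩
    exact hgen q (h.cent_z hq) (h.commute_of_bs hq hu e1) (h.commute_of_bs hq hb.1 (by rw [e]; exact e2))

/-- Every element of the model fixing the vector and commuting with the scalars comes from the centraliser. -/
theorem exists_cLine (c : ↥(Subgroup.centralizer ({z} : Set G))) (hv : ψ c (π (g * z * g⁻¹)) = π (g * z * g⁻¹))
    (hlin : ∀ w, ψ c (omV w) = omV (ψ c w)) : ∃ d : ↥(h.cLine g), h.cAct g d = ψ c := by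
  obtain ⟨b, hb, e, hgen⟩ := h.exists_b hu hne
  obtain ⟨c', -, hψ, hcs⟩ := h.fix_lift hu (h.v_ne hu hne) c hv
  have hcz := Subgroup.mem_centralizer_singleton_iff.1 c'.2
  have hπ : π ((c' : G) * b * (c' : G)⁻¹) = π b := by rw [h.act _ _ hb.1, hψ, e, hlin, hv]
  rcases (h.π_eq_iff (h.norm _ hcz b hb.1) hb.1).1 hπ with e1 | e1
  · exact ⟨⟨c', hgen _ hcz hcs (mul_inv_eq_iff_eq_mul.1 e1.symm)⟩, hψ⟩
  · obtain ⟨-, q, hq, q1, q2⟩ := h.exists_dual (h.v_ne hu hne)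
    rw [← e] at q2
    have hqb : q * b * q⁻¹ = b * z := by
      rcases h.extra.conj_cases hb.1 hq with e2 | e2
      · rw [h.bs_of_commute hq hb.1 (mul_inv_eq_iff_eq_mul.1 e2)] at q2
        exact absurd q2 zero_ne_one
      · exact e2
    have hcb : (c' : G) * q * b * ((c' : G) * q)⁻¹ = b := by
      rw [show (c' : G) * q * b * ((c' : G) * q)⁻¹ = (c' : G) * (q * b * q⁻¹) * (c' : G)⁻¹ by group, hqb,
        show (c' : G) * (b * z) * (c' : G)⁻¹ = (c' : G) * b * (c' : G)⁻¹ * ((c' : G) * z * (c' : G)⁻¹) by group,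
        mul_inv_eq_iff_eq_mul.2 hcz]
      exact e1.symm
    refine ⟨⟨(c' : G) * q, hgen _ (Commute.mul_left hcz (h.cent_z hq))
      (Commute.mul_left hcs (h.commute_of_bs hq hu q1)) (mul_inv_eq_iff_eq_mul.1 hcb)⟩, ?_⟩
    rw [h.cAct_apply, show (⟨(c' : G) * q, _⟩ : ↥(Subgroup.centralizer ({z} : Set G))) =
      c' * ⟨q, h.mem_cent hq⟩ from rfl, map_mul, (h.ker ⟨q, h.mem_cent hq⟩).2 hq, mul_one, hψ]

theorem rLine_le : h.rLine g ≤ h.cLine g := sup_le inf_le_right inf_le_right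

theorem qLine_normal {c : G} (hc : c ∈ h.cLine g) : c ∈ Subgroup.normalizer (h.qLine g : Set G) :=
  mem_normalizer_of_conj_mem fun a (ha : a ∈ h.qLine g) => Subgroup.mem_inf.2
    ⟨h.norm c (Subgroup.mem_centralizer_singleton_iff.1 (h.cLine_le g hc)) _ ha.1,
      mul_mem (mul_mem hc ha.2) (inv_mem hc)⟩

theorem sLine_normal {c : G} (hc : c ∈ h.cLine g) : c ∈ Subgroup.normalizer (h.sLine g : Set G) :=
  mem_normalizer_of_conj_mem fun a (ha : a ∈ h.sLine g) => Subgroup.mem_inf.2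
    ⟨mem_map_conj.2 (centralizer_conj_le h.normalizer g
      (Subgroup.mem_centralizer_iff.1 hc _ (h.s_mem_line hu hne)).symm (mem_map_conj.1 ha.1)),
      mul_mem (mul_mem hc ha.2) (inv_mem hc)⟩

theorem mem_rLine {x : G} : x ∈ h.rLine g ↔ ∃ b ∈ h.sLine g, ∃ a ∈ h.qLine g, b * a = x := by
  rw [← SetLike.mem_coe, rLine, Subgroup.coe_mul_of_left_le_normalizer_right _ _
    (fun c (hc : c ∈ h.sLine g) => h.qLine_normal hu hne hc.2), Set.mem_mul]
  rfl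

theorem card_qLine : Nat.card (h.qLine g) = 2048 := by
  obtain ⟨⟨q, hq, q1, q2⟩, r, hr, r1, r2⟩ := h.exists_dual (h.v_ne hu hne)
  let f : ↥(qImg Q) →* Multiplicative (ZMod 2 × ZMod 2) := MonoidHom.mk'
    (fun a => Multiplicative.ofAdd (bs (π a) (π (g * z * g⁻¹)), bs (π a) (omV (π (g * z * g⁻¹))))) fun a b => by
      simp only [Subgroup.coe_mul, h.π_mul _ a.2 _ b.2, bs_add_left, ← ofAdd_add, Prod.mk_add_mk]
  have hf : Function.Surjective f := fun y => by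
    obtain ⟨⟨y1, y2⟩, rfl⟩ : ∃ p, Multiplicative.ofAdd p = y := ⟨y.toAdd, rfl⟩
    rcases z2 y1 with e1 | e1 <;> rcases z2 y2 with e2 | e2
    · exact ⟨1, by rw [map_one]; exact congrArg Multiplicative.ofAdd (Prod.ext e1.symm e2.symm)⟩
    · exact ⟨⟨r, hr⟩, congrArg Multiplicative.ofAdd (Prod.ext (r1.trans e1.symm) (r2.trans e2.symm))⟩
    · exact ⟨⟨q, hq⟩, congrArg Multiplicative.ofAdd (Prod.ext (q1.trans e1.symm) (q2.trans e2.symm))⟩
    · refine ⟨⟨q, hq⟩ * ⟨r, hr⟩, ?_⟩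
      rw [map_mul]
      exact congrArg Multiplicative.ofAdd (Prod.ext
        ((congrArg₂ (· + ·) q1 r1).trans (by rw [e1]; rfl)) ((congrArg₂ (· + ·) q2 r2).trans (by rw [e2]; rfl)))
  have hk : f.ker = (h.qLine g).subgroupOf (qImg Q) := by
    ext a
    rw [Subgroup.mem_subgroupOf, MonoidHom.mem_ker]
    show Multiplicative.ofAdd _ = 1 ↔ _
    rw [ofAdd_eq_one, Prod.mk_eq_zero, qLine, Subgroup.mem_inf, h.mem_cLine_Q hu hne a.2]
    exact ⟨fun e => ⟨a.2, e⟩, fun e => e.2⟩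
  have hm := f.ker.card_mul_index
  rw [Subgroup.index_ker, MonoidHom.range_eq_top.2 hf, Subgroup.card_top, hk,
    Nat.card_congr (Subgroup.subgroupOfEquivOfLe (show h.qLine g ≤ qImg Q from inf_le_left)).toEquiv, h.card_Q,
    Nat.card_congr Multiplicative.toAdd, Nat.card_prod, Nat.card_zmod] at hm
  omega

theorem core_data : ∃ (R : AddSubgroup V6) (E : Subgroup (V6 ≃ₗ[ZMod 2] V6)), Pair h.model (π (g * z * g⁻¹)) R E ∧
    (∀ w, w ∈ R ↔ ∃ a ∈ qImg Q ⊓ (qImg Q).map (MulAut.conj g).toMonoidHom, π a = w) ∧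
    (∀ e, e ∈ linPart E ↔ ∃ c : ↥(h.cLine g), (c : G) ∈ h.sLine g ∧ h.cAct g c = e) ∧
    (∀ e, e ∈ E ↔ ∃ c : ↥(Subgroup.centralizer ({z} : Set G)),
      (c : G) ∈ (qImg Q).map (MulAut.conj g).toMonoidHom ∧ ψ c = e) ∧
    Nat.card (linPart E) = 16 ∧ qImg Q ⊓ (qImg Q).map (MulAut.conj g).toMonoidHom ≤ h.qLine g := by
  obtain ⟨R, E, P, hR, hE, -⟩ := h.pair_data hu hne
  obtain ⟨-, hcomm, -⟩ := h.inter_props hu hne
  refine ⟨R, E, P, hR, fun e => ⟨?_, ?_⟩, hE, le_antisymm ?_ P.card_linPart, fun a ha => ⟨ha.1, ?_⟩⟩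
  · rintro ⟨he, hlin⟩
    obtain ⟨c, hc, rfl⟩ := (hE e).1 he
    obtain ⟨b, hb, hbe, hgen⟩ := h.exists_b hu hne
    have hb' := h.line_le hu hne hb
    have h' : Extra ((qImg Q).map (MulAut.conj g).toMonoidHom) (g * z * g⁻¹) := h.extra.map_conj g
    have hcz := Subgroup.mem_centralizer_singleton_iff.1 c.2
    have hπ : π ((c : G) * b * (c : G)⁻¹) = π b := by rw [h.act c b hb.1, hbe, hlin, P.E_fix _ he]
    have hcb : (c : G) * b * (c : G)⁻¹ = b := by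
      rcases (h.π_eq_iff (h.norm _ hcz b hb.1) hb.1).1 hπ with e1 | e1
      · exact e1.symm
      · rcases h'.conj_cases hb'.2 hc with e2 | e2
        · exact e2
        · exfalso
          rw [e2] at e1
          exact hne (by
            have e3 := (mul_assoc b (g * z * g⁻¹) z).symm.trans e1.symm
            rw [mul_eq_left, mul_eq_one_iff_eq_inv, h.extra.inv_z] at e3
            exact e3)
    have hcC := hgen c hcz (h'.z_comm hc).symm (mul_inv_eq_iff_eq_mul.1 hcb)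
    exact ⟨⟨c, hcC⟩, ⟨hc, hcC⟩, rfl⟩
  · rintro ⟨c, hc, rfl⟩
    exact ⟨(hE _).2 ⟨⟨c, h.cLine_le g c.2⟩, hc.1, rfl⟩, (h.cAct_props hu hne c).2⟩
  · obtain ⟨_, -, -, -, -, -, -, h16, -⟩ := P.exists_pairs
    exact h16
  · exact Subgroup.mem_centralizer_iff.2 fun x hx => hcomm x (h.line_le hu hne hx) a ha

theorem card_rLine : Nat.card (h.rLine g) = 2 ^ 15 := by
  obtain ⟨R, E, P, -, hlin, -, h16, -⟩ := h.core_data hu hne
  let f : ↥(h.rLine g) →* (V6 ≃ₗ[ZMod 2] V6) :=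
    (h.cAct g).comp (Subgroup.inclusion (h.rLine_le hu hne))
  have hk : f.ker = (h.qLine g).subgroupOf (h.rLine g) := by
    ext a
    rw [Subgroup.mem_subgroupOf, MonoidHom.mem_ker]
    show h.cAct g _ = 1 ↔ _
    rw [h.cAct_apply, h.ker]
    exact ⟨fun e => ⟨e, h.rLine_le hu hne a.2⟩, fun e => e.1⟩
  have hr : f.range = linPart E := by
    ext e
    rw [hlin, MonoidHom.mem_range]
    constructor
    · rintro ⟨⟨x, hx⟩, rfl⟩
      obtain ⟨b, hb, a, ha, rfl⟩ := (h.mem_rLine hu hne).1 hx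
      refine ⟨⟨b, hb.2⟩, hb, ?_⟩
      show h.cAct g ⟨b, hb.2⟩ = h.cAct g (⟨b, hb.2⟩ * ⟨a, ha.2⟩)
      rw [map_mul, h.cAct_apply g ⟨a, ha.2⟩, (h.ker _).2 ha.1, mul_one]
    · rintro ⟨c, hc, rfl⟩
      exact ⟨⟨c, Subgroup.mem_sup_left hc⟩, rfl⟩
  have hm := f.ker.card_mul_index
  rw [Subgroup.index_ker, hr, h16, hk,
    Nat.card_congr (Subgroup.subgroupOfEquivOfLe (show h.qLine g ≤ h.rLine g from le_sup_right)).toEquiv,
    h.card_qLine hu hne] at hm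
  rw [← hm]
  rfl

theorem rLine_two : IsPGroup 2 (h.rLine g) := IsPGroup.of_card (h.card_rLine hu hne)

theorem comm_mem_line {a : G} (ha : a ∈ h.qLine g) {b : G} (hb : b ∈ h.sLine g) :
    ⁅b, a⁆ ∈ h.lineGrp (π (g * z * g⁻¹)) := by
  obtain ⟨R, E, P, hR, hlin, -, -, -⟩ := h.core_data hu hne
  set v := π (g * z * g⁻¹) with hv
  set k := h.cAct g ⟨b, hb.2⟩ with hk
  have hkL : k ∈ linPart E := (hlin _).2 ⟨_, hb, rfl⟩
  have step : ∀ u, bs u v = 0 → k u + u ∈ R := fun u huv => P.perp fun r hr => by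
    have hki := inv_mem hkL
    have h1 : bs (k u) r = bs u (k⁻¹ r) := by
      conv_lhs => rw [show r = k (k⁻¹ r) from (k.apply_symm_apply r).symm]
      exact h.model.bs_map (P.E_le hkL.1) _ _
    rw [bs_add_left, h1]
    rcases P.E_act _ hki.1 r hr with e | e <;> rw [e]
    · exact CharTwo.add_self_eq_zero _
    · rw [bs_add, huv, add_zero, CharTwo.add_self_eq_zero]
  obtain ⟨a1, a2⟩ := (h.mem_cLine_Q hu hne ha.1).1 ha.2
  have hkom : ∀ w, k (omV w) = omV (k w) := hkL.2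
  obtain ⟨e, he⟩ := P.line_of_both (step _ a1) (by
    rw [omV_add, ← hkom]
    exact step _ (by rw [bs_om_swap, a1, a2, add_zero]))
  have hbz := Subgroup.mem_centralizer_singleton_iff.1 (h.cLine_le g hb.2)
  rw [commutatorElement_def]
  refine ⟨mul_mem (h.norm b hbz a ha.1) (inv_mem ha.1), e, ?_⟩
  rw [h.π_mul _ (h.norm b hbz a ha.1) _ (inv_mem ha.1), h.π_inv ha.1, ← he]
  exact congrArg (· + π a) (h.act ⟨b, h.cLine_le g hb.2⟩ a ha.1)

theorem line_le_qLine : h.lineGrp (π (g * z * g⁻¹)) ≤ h.qLine g := by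
  obtain ⟨R, E, P, -, -, -, -, hle⟩ := h.core_data hu hne
  exact (h.line_le hu hne).trans hle

theorem rLine_squares_comm : (∀ x ∈ h.rLine g, x * x ∈ h.lineGrp (π (g * z * g⁻¹))) ∧
    ∀ x ∈ h.rLine g, ∀ y ∈ h.rLine g, ⁅x, y⁆ ∈ h.lineGrp (π (g * z * g⁻¹)) := by
  set V := h.lineGrp (π (g * z * g⁻¹)) with hV
  have h' : Extra ((qImg Q).map (MulAut.conj g).toMonoidHom) (g * z * g⁻¹) := h.extra.map_conj g
  have hzV : z ∈ V := h.z_mem_line _
  have hsV : g * z * g⁻¹ ∈ V := h.s_mem_line hu hne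
  set Vr := V.subgroupOf (h.rLine g) with hVr
  haveI : Vr.Normal := ⟨fun n hn x => by
    rw [hVr, Subgroup.mem_subgroupOf] at hn ⊢
    show (x : G) * n * (x : G)⁻¹ ∈ V
    rwa [← Subgroup.mem_centralizer_iff.1 (h.rLine_le hu hne x.2) _ hn, mul_inv_cancel_right]⟩
  let q := QuotientGroup.mk' Vr
  have hq : ∀ {x : ↥(h.rLine g)}, q x = 1 ↔ (x : G) ∈ V := fun {x} => QuotientGroup.eq_one_iff x
  have hsq : ∀ (x : ↥(h.rLine g)), (x : G) ∈ h.sLine g ∨ (x : G) ∈ h.qLine g → q x * q x = 1 := by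
    intro x hx
    rw [← map_mul, hq, Subgroup.coe_mul]
    rcases hx with hx | hx
    · rcases h'.sq_cases hx.1 with e | e <;> rw [e]
      exacts [one_mem _, hsV]
    · rcases h.extra.sq_cases hx.1 with e | e <;> rw [e]
      exacts [one_mem _, hzV]
  have hcm : ∀ (x y : ↥(h.rLine g)), (x : G) ∈ h.sLine g ∨ (x : G) ∈ h.qLine g →
      (y : G) ∈ h.sLine g ∨ (y : G) ∈ h.qLine g → Commute (q x) (q y) := by
    intro x y hx hy
    rw [← commutatorElement_eq_one_iff_commute, ← map_commutatorElement, hq]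
    show ⁅(x : G), (y : G)⁆ ∈ V
    rcases hx with hx | hx <;> rcases hy with hy | hy
    · rw [commutatorElement_def]
      rcases h'.conj_cases hy.1 hx.1 with e | e <;> rw [e]
      · rw [mul_inv_cancel]; exact one_mem _
      · rwa [(h'.z_comm hy.1).symm, mul_inv_cancel_right]
    · exact h.comm_mem_line hu hne hy hx
    · rw [← commutatorElement_inv]; exact inv_mem (h.comm_mem_line hu hne hx hy)
    · rw [commutatorElement_def]
      rcases h.extra.conj_cases hy.1 hx.1 with e | e <;> rw [e]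
      · rw [mul_inv_cancel]; exact one_mem _
      · rwa [(h.extra.z_comm hy.1).symm, mul_inv_cancel_right]
  have hdec : ∀ x : ↥(h.rLine g), ∃ b a : ↥(h.rLine g),
      (b : G) ∈ h.sLine g ∧ (a : G) ∈ h.qLine g ∧ q x = q b * q a := by
    rintro ⟨x, hx⟩
    obtain ⟨b, hb, a, ha, e⟩ := (h.mem_rLine hu hne).1 hx
    exact ⟨⟨b, Subgroup.mem_sup_left hb⟩, ⟨a, Subgroup.mem_sup_right ha⟩, hb, ha, by
      rw [← map_mul]; exact congrArg q (Subtype.ext e.symm)⟩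
  refine ⟨fun x hx => ?_, fun x hx y hy => ?_⟩
  · obtain ⟨b, a, hb, ha, e⟩ := hdec ⟨x, hx⟩
    refine (hq (x := ⟨x, hx⟩ * ⟨x, hx⟩)).1 ?_
    rw [map_mul, e, mul_assoc, ← mul_assoc (q a), (hcm a b (.inr ha) (.inl hb)).eq, mul_assoc, hsq a (.inr ha),
      mul_one, hsq b (.inl hb)]
  · obtain ⟨b, a, hb, ha, e⟩ := hdec ⟨x, hx⟩
    obtain ⟨b', a', hb', ha', e'⟩ := hdec ⟨y, hy⟩
    refine (hq (x := ⁅(⟨x, hx⟩ : ↥(h.rLine g)), ⟨y, hy⟩⁆)).1 ?_
    rw [map_commutatorElement, commutatorElement_eq_one_iff_commute, e, e']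
    exact ((hcm b b' (.inl hb) (.inl hb')).mul_right (hcm b a' (.inl hb) (.inr ha'))).mul_left
      ((hcm a b' (.inr ha) (.inl hb')).mul_right (hcm a a' (.inr ha) (.inr ha')))

theorem rLine_center {x : G} (hx : x ∈ h.rLine g)
    (hc : ∀ a ∈ h.qLine g, x * a = a * x) : x ∈ h.lineGrp (π (g * z * g⁻¹)) := by
  obtain ⟨R, E, P, hR, hlin, -, -, hle⟩ := h.core_data hu hne
  obtain ⟨b, hb, a, ha, rfl⟩ := (h.mem_rLine hu hne).1 hx
  have hxz := h.cLine_le g (h.rLine_le hu hne hx)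
  have e : ψ ⟨b * a, hxz⟩ = h.cAct g ⟨b, hb.2⟩ := by
    show h.cAct g (⟨b, hb.2⟩ * ⟨a, ha.2⟩) = _
    rw [map_mul, h.cAct_apply g ⟨a, ha.2⟩, (h.ker _).2 ha.1, mul_one]
  have hQ : b * a ∈ qImg Q := by
    refine (h.ker ⟨b * a, hxz⟩).1 (e.trans (P.lin_eq_one ((hlin _).2 ⟨_, hb, rfl⟩) fun r hr => ?_))
    obtain ⟨c, hcR, rfl⟩ := (hR r).1 hr
    rw [← e, ← h.act ⟨b * a, hxz⟩ c hcR.1]
    show π (b * a * c * (b * a)⁻¹) = π c
    rw [hc c (hle hcR), mul_inv_cancel_right]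
  set x := b * a
  set v := π (g * z * g⁻¹) with hv
  obtain ⟨⟨q, hq, q1, q2⟩, r, hr, r1, r2⟩ := h.exists_dual (h.v_ne hu hne)
  refine ⟨hQ, (bs (π q) (π x), bs (π r) (π x)), eq_of_add_zero (h.nondeg fun u hu' => ?_)⟩
  set a1 := bs (π u) v with ha1
  set a2 := bs (π u) (omV v) with ha2
  have hw : ∀ i j : ZMod 2, ∃ w ∈ qImg Q, π w = i • π q + j • π r := fun i j =>
    h.π_surj (i • π q + j • π r)
  obtain ⟨w, hw, hwe⟩ := hw a1 a2
  have hmem : u * w ∈ h.qLine g := ⟨mul_mem hu' hw, (h.mem_cLine_Q hu hne (mul_mem hu' hw)).2 (by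
    rw [h.π_mul u hu' w hw, hwe, bs_add_left, bs_add_left, bs_add_left, bs_add_left, bs_smul_left, bs_smul_left,
      bs_smul_left, bs_smul_left, q1, q2, r1, r2]
    simp only [← hv, ← ha1, ← ha2, smul_zero, mul_one, mul_zero, add_zero, zero_add, CharTwo.add_self_eq_zero, and_self])⟩
  have h0 := h.bs_of_commute (mul_mem hu' hw) hQ (hc _ hmem).symm
  rw [h.π_mul u hu' w hw, hwe, bs_add_left, bs_add_left, bs_smul_left, bs_smul_left] at h0
  rw [bs_add, sc, bs_add, bs_smul_right, bs_smul_right, ← ha1, ← ha2]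
  linear_combination h0

theorem exists_noncommuting : ∃ a ∈ h.qLine g, ∃ a' ∈ h.qLine g, ⁅a, a'⁆ = z := by
  obtain ⟨R, E, P, hR, -, -, -, hle⟩ := h.core_data hu hne
  obtain ⟨rp, hrp, ⟨-, hbs⟩, -⟩ := P.exists_pairs
  set v := π (g * z * g⁻¹) with hv
  obtain ⟨a, ha, ea⟩ := (hR _).1 (hrp 1 2 (by decide))
  obtain ⟨a', ha', ea'⟩ := h.π_surj (omV (rp 0 1))
  have h01 := hrp 0 1 (by decide)
  refine ⟨a, hle ha, a', ⟨ha', (h.mem_cLine_Q hu hne ha').2 ?_⟩, ?_⟩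
  · rw [ea', bs_om_swap, bs_omV, P.bs_R h01 P.v_mem, P.bs_R h01 P.omv_mem]
    exact ⟨add_zero _, rfl⟩
  · have e := h.swap ha' ha.1
    rw [bs_comm, ea, ea', hbs] at e
    rw [commutatorElement_def, e, zp_one, show a' * a * z * a⁻¹ * a'⁻¹ = a' * (a * z) * a⁻¹ * a'⁻¹ by group,
      h.cent_z ha.1, show a' * (z * a) * a⁻¹ * a'⁻¹ = a' * z * a'⁻¹ by group, h.cent_z ha', mul_inv_cancel_right]

end LF

end CfsgLib.Sporadic.LargeFischer
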