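import Cfsg.Agent.Lib.Sporadic.LargeFischer.PairData

/-!
# Groups of large Fischer type: the elementary group of order eight on the scalar line of a conjugate of `z`
-/

set_option autoImplicit false
set_option linter.style.haveILetI false
set_option linter.unusedSectionVars false

namespace CfsgLib.Sporadic.LargeFischer

open CfsgLib.ThreeTransp.Extraspecial

theorem sc_om_inj {v : V6} (hv : v ≠ 0) : ∀ e : D4, sc v e = 0 → e = 0 := by
  have hom : omV v ≠ 0 := fun e => hv (omV_inj (e.trans omV_zero.symm))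
  have hne : v + omV v ≠ 0 := fun e => hv (omV_inj (omV_inj (by rw [omV_sq, e, omV_zero, omV_zero])))
  rintro ⟨e1, e2⟩ e
  rcases z2 e1 with rfl | rfl <;> rcases z2 e2 with rfl | rfl <;> simp [sc] at e
  · rfl
  · exact absurd e hom
  · exact absurd e hv
  · exact absurd e hne

theorem sc_inj {v : V6} (hv : v ≠ 0) {e e' : D4} (he : sc v e = sc v e') : e = e' := by
  have h0 : e + e' = 0 := sc_om_inj hv _ (by rw [sc_add, he, two_V6])
  obtain ⟨a, b⟩ := e
  obtain ⟨a', b'⟩ := e'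
  revert h0
  clear he hv
  revert a b a' b'
  decide

theorem map_sc (k : V6 ≃ₗ[ZMod 2] V6) (v : V6) (e : D4) : k (sc v e) = e.1 • k v + e.2 • k (omV v) := by
  rw [sc, map_add, map_smul, map_smul]

theorem mem_normalizer_of_conj_mem {G : Type*} [Group G] [Finite G] {W : Subgroup G} {c : G}
    (hc : ∀ a ∈ W, c * a * c⁻¹ ∈ W) : c ∈ Subgroup.normalizer (W : Set G) := by
  refine Subgroup.mem_normalizer_iff.2 fun a => ⟨hc a, fun ha => ?_⟩
  let f : W → W := fun b => ⟨c * b * c⁻¹, hc b b.2⟩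
  have hf : Function.Injective f := fun b b' e =>
    Subtype.ext (mul_left_cancel (mul_right_cancel (congrArg Subtype.val e)))
  obtain ⟨b, hb⟩ := Finite.injective_iff_surjective.1 hf ⟨_, ha⟩
  rw [← mul_left_cancel (mul_right_cancel (congrArg Subtype.val hb))]
  exact b.2

/-- The three-cycles moving `0` to a given point. -/
def toZero (j : Fin 6) : Equiv.Perm (Fin 6) :=
  if j = 1 then Equiv.swap 0 1 * Equiv.swap 0 2 else Equiv.swap 0 j * Equiv.swap 0 1

theorem toZero_facts : ∀ j : Fin 6, j ≠ 0 → toZero j ∈ alternatingGroup (Fin 6) ∧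
    (toZero j).symm 0 = j ∧ ∀ i, (toZero j).symm ((toZero j).symm ((toZero j).symm i)) = i := by
  simp only [Equiv.Perm.mem_alternatingGroup]
  decide +kernel

namespace LF

variable {G : Type*} [Group G] [Finite G] {z : G} {Q : Subgroup (Subgroup.centralizer ({z} : Set G))} [Q.Normal]
  {π : G → V6} {ψ : ↥(Subgroup.centralizer ({z} : Set G)) →* (V6 ≃ₗ[ZMod 2] V6)} (h : LF z (qImg Q) π ψ)
include h

/-- The preimage in `Q` of the multiples of a vector. -/
def lineGrp (v : V6) : Subgroup G where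
  carrier := {a | a ∈ qImg Q ∧ ∃ e, π a = sc v e}
  one_mem' := ⟨one_mem _, 0, by rw [h.π_one, sc_zero]⟩
  mul_mem' := by
    rintro a b ⟨ha, e, he⟩ ⟨hb, e', he'⟩
    exact ⟨mul_mem ha hb, e + e', by rw [h.π_mul a ha b hb, he, he', sc_add]⟩
  inv_mem' := by
    rintro a ⟨ha, e, he⟩
    exact ⟨inv_mem ha, e, by rw [h.π_inv ha, he]⟩

theorem mem_lineGrp {v : V6} {a : G} : a ∈ h.lineGrp v ↔ a ∈ qImg Q ∧ ∃ e, π a = sc v e := Iff.rfl

theorem z_mem_line (v : V6) : z ∈ h.lineGrp v := ⟨h.extra.z_mem, 0, by rw [h.π_z, sc_zero]⟩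

theorem card_line {v : V6} (hv : v ≠ 0) : Nat.card (h.lineGrp v) = 8 := by
  choose ι hι hιe using fun e : D4 => h.π_surj (sc v e)
  have key : ∀ p : ZMod 2 × D4, zp z p.1 * ι p.2 ∈ h.lineGrp v ∧ π (zp z p.1 * ι p.2) = sc v p.2 := fun p => by
    have e1 : π (zp z p.1 * ι p.2) = sc v p.2 := by rw [h.π_mul _ (h.zp_mem _) _ (hι _), h.π_zp, zero_add, hιe]
    exact ⟨⟨mul_mem (h.zp_mem _) (hι _), _, e1⟩, e1⟩
  have hb : Function.Bijective (fun p : ZMod 2 × D4 => (⟨zp z p.1 * ι p.2, (key p).1⟩ : h.lineGrp v)) := by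
    constructor
    · intro p p' e
      have e' := congrArg Subtype.val e
      have e2 : p.2 = p'.2 := sc_inj hv (by rw [← (key p).2, ← (key p').2]; exact congrArg π e')
      refine Prod.ext (h.zp_inj ?_) e2
      dsimp only at e'
      rw [e2] at e'
      exact mul_right_cancel e'
    · rintro ⟨a, ha, e, he⟩
      rcases (h.π_eq_iff (hι e) ha).1 ((hιe e).trans he.symm) with e1 | e1
      · exact ⟨(0, e), Subtype.ext ((one_mul (ι e)).trans e1.symm)⟩
      · exact ⟨(1, e), Subtype.ext ((h.cent_z (hι e)).symm.trans e1.symm)⟩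
  rw [← Nat.card_congr (Equiv.ofBijective _ hb), Nat.card_eq_fintype_card]
  rfl

variable {g : G} (hu : g * z * g⁻¹ ∈ qImg Q) (hne : g * z * g⁻¹ ≠ z)
include hu hne

theorem v_ne : π (g * z * g⁻¹) ≠ 0 := fun e => ((h.π_ker _ hu).1 e).elim
  (fun e1 => h.extra.z_ne (conj_eq_one_iff.1 e1)) hne

theorem s_mem_line : g * z * g⁻¹ ∈ h.lineGrp (π (g * z * g⁻¹)) := ⟨hu, (1, 0), (sc_one _).symm⟩

theorem line_le : h.lineGrp (π (g * z * g⁻¹)) ≤ qImg Q ⊓ (qImg Q).map (MulAut.conj g).toMonoidHom := by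
  obtain ⟨R, E, P, hR, -, -⟩ := h.pair_data hu hne
  obtain ⟨-, -, hzR, -⟩ := h.inter_props hu hne
  rintro a ⟨ha, e, he⟩
  obtain ⟨b, hb, hbe⟩ := (hR _).1 (he ▸ P.sc_mem e : π a ∈ R)
  rcases (h.π_eq_iff hb.1 ha).1 hbe with rfl | rfl
  · exact hb
  · exact mul_mem hb hzR

theorem isElementary_line : Cfsg.IsElementaryAbelian 2 (h.lineGrp (π (g * z * g⁻¹))) := by
  obtain ⟨hsq, hcomm, -⟩ := h.inter_props hu hne
  exact ⟨⟨⟨fun a b => Subtype.ext (hcomm a (h.line_le hu hne a.2) b (h.line_le hu hne b.2))⟩⟩,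
    fun a ha => by rw [pow_two]; exact hsq a (h.line_le hu hne ha)⟩

omit hu hne in
theorem norm_line {v : V6} (c : ↥(Subgroup.centralizer ({z} : Set G)))
    (hc : ∀ e, ∃ e', ψ c (sc v e) = sc v e') : (c : G) ∈ Subgroup.normalizer (h.lineGrp v : Set G) := by
  refine mem_normalizer_of_conj_mem ?_
  rintro a ⟨ha, e, he⟩
  obtain ⟨e', he'⟩ := hc e
  exact ⟨h.norm c (Subgroup.mem_centralizer_singleton_iff.1 c.2) a ha, e', by rw [h.act c a ha, he, he']⟩

omit hu hne in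
theorem line_stab {v : V6} (c : ↥(Subgroup.centralizer ({z} : Set G))) (hc : ψ c v = v) (e : D4) :
    ψ c (sc v e) = sc v e ∨ ψ c (sc v e) = sc v (e.1 + e.2, e.2) := by
  rw [map_sc, hc]
  rcases h.model.scal _ ⟨c, rfl⟩ with e1 | e1 <;> rw [e1, hc]
  · exact Or.inl rfl
  · exact Or.inr (by rw [omV_sq, smul_add, sc, add_smul, add_assoc])

omit hu hne in
theorem q_norm_line {v : V6} {q : G} (hq : q ∈ qImg Q) : q ∈ Subgroup.normalizer (h.lineGrp v : Set G) :=
  h.norm_line ⟨q, h.mem_cent hq⟩ fun e => ⟨e, by rw [(h.ker ⟨q, h.mem_cent hq⟩).2 hq]; rfl⟩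

/-- An element centralising `z` and moving `s` to another noncentral element of the line. -/
theorem move_line {a : G} (ha : a ∈ h.lineGrp (π (g * z * g⁻¹))) (h1 : a ≠ 1) (h2 : a ≠ z) :
    ∃ d, d ∈ Subgroup.normalizer (h.lineGrp (π (g * z * g⁻¹)) : Set G) ∧ d * z = z * d ∧
      d * (g * z * g⁻¹) * d⁻¹ = a := by
  obtain ⟨ha, e, he⟩ := ha
  obtain ⟨N, M, -, -, -, -, -, -, ⟨n, -, hn⟩, -⟩ := h.exists_M hu hne
  set v := π (g * z * g⁻¹) with hv
  have he0 : e ≠ 0 := fun e0 => by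
    rw [e0, sc_zero] at he
    exact ((h.π_ker a ha).1 he).elim h1 h2
  have hs : ∀ i : ℕ, ∀ e, ∃ e', ψ (n ^ i) (sc v e) = sc v e' := fun i => by
    induction i with
    | zero => exact fun e => ⟨e, by rw [pow_zero, map_one]; rfl⟩
    | succ i ih => exact fun e => by
                    obtain ⟨e', he'⟩ := ih e
                    exact ⟨om e', by rw [pow_succ', map_mul]; show ψ n (ψ (n ^ i) _) = _; rw [he', hn, omV_sc]⟩
  obtain ⟨i, hi⟩ : ∃ i : ℕ, ψ (n ^ i) v = sc v e := by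
    obtain ⟨e1, e2⟩ := e
    rcases z2 e1 with rfl | rfl <;> rcases z2 e2 with rfl | rfl
    · exact absurd rfl he0
    · exact ⟨1, by rw [pow_one, hn]; exact (sc_om v).symm⟩
    · exact ⟨0, by rw [pow_zero, map_one]; exact (sc_one v).symm⟩
    · exact ⟨2, by rw [pow_two, map_mul]; show ψ n (ψ n v) = _; rw [hn, hn, omV_sq, sc, one_smul, one_smul]⟩
  have hm := h.norm ((n ^ i : ↥(Subgroup.centralizer ({z} : Set G))) : G)
    (Subgroup.mem_centralizer_singleton_iff.1 (n ^ i).2) _ hu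
  have hπ : π (((n ^ i : ↥(Subgroup.centralizer ({z} : Set G))) : G) * (g * z * g⁻¹) *
      ((n ^ i : ↥(Subgroup.centralizer ({z} : Set G))) : G)⁻¹) = π a := by rw [h.act _ _ hu, hi, he]
  have hcz := Subgroup.mem_centralizer_singleton_iff.1 (n ^ i).2
  rcases (h.π_eq_iff hm ha).1 hπ with e1 | e1
  · exact ⟨_, h.norm_line _ (hs i), hcz, e1.symm⟩
  · obtain ⟨q, hq, hqe⟩ := h.extra.exists_conj_eq hu (fun e3 => h.extra.z_ne (conj_eq_one_iff.1 e3)) hne
    refine ⟨_, mul_mem (h.norm_line _ (hs i)) (h.q_norm_line hq), Commute.mul_left hcz (h.cent_z hq), ?_⟩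
    rw [e1]
    calc ((n ^ i : ↥(Subgroup.centralizer ({z} : Set G))) : G) * q * (g * z * g⁻¹) *
        (((n ^ i : ↥(Subgroup.centralizer ({z} : Set G))) : G) * q)⁻¹ =
        ((n ^ i : ↥(Subgroup.centralizer ({z} : Set G))) : G) * (q * (g * z * g⁻¹) * q⁻¹) *
          ((n ^ i : ↥(Subgroup.centralizer ({z} : Set G))) : G)⁻¹ := by group
      _ = _ := by
        rw [hqe]
        generalize ((n ^ i : ↥(Subgroup.centralizer ({z} : Set G))) : G) = x at hcz ⊢
        rw [show x * (g * z * g⁻¹ * z) * x⁻¹ = x * (g * z * g⁻¹) * x⁻¹ * (x * z * x⁻¹) by group, hcz,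
          mul_inv_cancel_right]

theorem line_odd_fix {a : G} (ha : a ∈ h.lineGrp (π (g * z * g⁻¹))) {c : G} (hc : c * z = z * c)
    (hcs : c * (g * z * g⁻¹) = g * z * g⁻¹ * c) (hodd : Odd (orderOf c)) : c * a = a * c := by
  obtain ⟨ha, e, he⟩ := ha
  set cc : ↥(Subgroup.centralizer ({z} : Set G)) := ⟨c, Subgroup.mem_centralizer_singleton_iff.2 hc⟩
  have hv : ψ cc (π (g * z * g⁻¹)) = π (g * z * g⁻¹) := by
    rw [← h.act cc _ hu]
    show π (c * _ * c⁻¹) = _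
    rw [hcs, mul_inv_cancel_right]
  have h2 : π (c ^ 2 * a * (c ^ 2)⁻¹) = π a := by
    have := h.act (cc ^ 2) a ha
    rw [SubmonoidClass.coe_pow] at this
    rw [this, he, map_pow, pow_two]
    show ψ cc (ψ cc _) = _
    rcases h.line_stab cc hv e with e1 | e1
    · rw [e1, e1]
    · rcases h.model.scal _ ⟨cc, rfl⟩ with e3 | e3
      · rw [map_sc, e3, hv]
        show ψ cc (sc _ e) = _
        rw [map_sc, e3, hv]
        rfl
      · rw [map_sc, e3, hv, map_add, map_smul, map_smul, e3, e3, hv, omV_cube]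
        rfl
  have hm := h.norm (c ^ 2) (Commute.pow_left hc 2) a ha
  have h4 : c ^ 4 * a * (c ^ 4)⁻¹ = a := by
    rw [show c ^ 4 * a * (c ^ 4)⁻¹ = c ^ 2 * (c ^ 2 * a * (c ^ 2)⁻¹) * (c ^ 2)⁻¹ by group]
    have hz2 : c ^ 2 * z * (c ^ 2)⁻¹ = z := mul_inv_eq_iff_eq_mul.2 (Commute.pow_left hc 2)
    rcases (h.π_eq_iff ha hm).1 h2.symm with e1 | e1 <;> rw [e1]
    · exact e1
    · rw [show c ^ 2 * (a * z) * (c ^ 2)⁻¹ = c ^ 2 * a * (c ^ 2)⁻¹ * (c ^ 2 * z * (c ^ 2)⁻¹) by group, e1, hz2,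
        mul_assoc, h.extra.z_sq, mul_one]
  obtain ⟨j, hj⟩ := exists_pow_eq_self_of_coprime (x := c) (n := 4)
    (show Nat.Coprime 4 (orderOf c) from Nat.Coprime.pow_left 2 (Nat.coprime_two_left.2 hodd))
  rw [← hj]
  exact Commute.pow_left (mul_inv_eq_iff_eq_mul.1 h4) j

theorem line_of_odd_fix {a : G} (ha : a ∈ qImg Q)
    (hfix : ∀ c : G, c * z = z * c → c * (g * z * g⁻¹) = g * z * g⁻¹ * c → Odd (orderOf c) → c * a = a * c) :
    a ∈ h.lineGrp (π (g * z * g⁻¹)) := by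
  set v := π (g * z * g⁻¹) with hv
  have horb : v ∈ h.model.orb c4 := by
    rw [← h.fused_orbit hu hne]
    exact h.model.self_mem _
  obtain ⟨θ, hθv, -, hθom, hθp⟩ := exists_theta h.model horb
  obtain ⟨w, hw⟩ := θ.surjective (π a)
  have hinv : ∀ j : Fin 6, j ≠ 0 → w j = w 0 := by
    intro j hj
    obtain ⟨hpm, hp0, hp3⟩ := toZero_facts j hj
    obtain ⟨x, ⟨c, rfl⟩, hgv, -, hgθ⟩ := hθp _ hpm
    obtain ⟨c', -, hψ, hcs⟩ := h.fix_lift hu (h.v_ne hu hne) c hgv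
    obtain ⟨k, m, hm, hkm⟩ := Nat.exists_eq_two_pow_mul_odd (orderOf_pos (c' : G)).ne'
    have hord : Odd (orderOf ((c' : G) ^ (2 ^ k))) := by
      rw [orderOf_pow_of_dvd (by positivity) ⟨m, hkm⟩, hkm, Nat.mul_div_cancel_left m (by positivity)]
      exact hm
    have hc := hfix _ (Commute.pow_left (Subgroup.mem_centralizer_singleton_iff.1 c'.2) _)
      (Commute.pow_left hcs _) hord
    have hfix' : (ψ c ^ (2 ^ k)) (π a) = π a := by
      rw [← hψ, ← map_pow, ← h.act _ a ha, SubmonoidClass.coe_pow, hc, mul_inv_cancel_right]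
    have hcube : ψ c ^ 3 = 1 := LinearEquiv.ext fun u => by
      obtain ⟨u, rfl⟩ := θ.surjective u
      rw [pow_succ, pow_two]
      show ψ c (ψ c (ψ c (θ u))) = θ u
      rw [hgθ, hgθ, hgθ]
      exact congrArg θ (funext fun i => congrArg u (hp3 i))
    have h4 : ψ c ^ (2 ^ k * 2 ^ k) = ψ c := by
      rw [pow_eq_pow_mod _ hcube, ← mul_pow]
      norm_num [Nat.pow_mod]
    have hfix2 : ψ c (π a) = π a := by
      rw [← h4, pow_mul]
      generalize ψ c ^ (2 ^ k) = y at hfix'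
      induction 2 ^ k with
      | zero => rw [pow_zero]; rfl
      | succ i ih => rw [pow_succ]; show (y ^ i) (y (π a)) = _; rw [hfix', ih]
    rw [← hw, hgθ] at hfix2
    have := congrFun (θ.injective hfix2) 0
    rwa [hp0] at this
  refine ⟨ha, ?_⟩
  have hcst : w = cst (w 0) := funext fun i => by
    by_cases hi : i = 0
    · rw [hi]; rfl
    · exact hinv i hi
  rw [← hw, hcst, cst_eq, sc, map_add, map_smul, map_smul, hθv]
  rcases hθom with e | e <;> rw [e, hθv]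
  · exact ⟨w 0, rfl⟩
  · exact ⟨((w 0).1 + (w 0).2, (w 0).2), by rw [omV_sq, smul_add, sc, add_smul, add_assoc]⟩

/-- An element exchanging `z` and `s` and normalising the line. -/
theorem exists_swap : ∃ t, t ∈ Subgroup.normalizer (h.lineGrp (π (g * z * g⁻¹)) : Set G) ∧
    t * z * t⁻¹ = g * z * g⁻¹ ∧ t * (g * z * g⁻¹) * t⁻¹ = z ∧
    (qImg Q).map (MulAut.conj t).toMonoidHom = (qImg Q).map (MulAut.conj g).toMonoidHom := by
  obtain ⟨d, hd⟩ := h.one_orbit hu (h.symm_mem hu hne) (isConj_iff.2 ⟨g, rfl⟩)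
    (isConj_iff.2 ⟨g⁻¹, by rw [inv_inv]⟩) hne (fun e => hne (by
      calc g * z * g⁻¹ = g * (g⁻¹ * z * g) * g⁻¹ := by rw [e]
        _ = z := by group))
  have hdz := Subgroup.mem_centralizer_singleton_iff.1 d.2
  have hnorm : ∀ c : G, c * z = z * c → ∀ x, c⁻¹ * x * c ∈ qImg Q ↔ x ∈ qImg Q := fun c hc x => by
    have := Subgroup.mem_normalizer_iff''.1 (h.normalizer (Subgroup.mem_centralizer_singleton_iff.2 hc)) x
    exact this.symm
  set t := g * (d : G) with ht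
  have e1 : t * z * t⁻¹ = g * z * g⁻¹ := by
    rw [ht, show g * (d : G) * z * (g * (d : G))⁻¹ = g * ((d : G) * z * (d : G)⁻¹) * g⁻¹ by group, hdz,
      mul_inv_cancel_right]
  have e2 : t * (g * z * g⁻¹) * t⁻¹ = z := by
    rw [ht, show g * (d : G) * (g * z * g⁻¹) * (g * (d : G))⁻¹ = g * ((d : G) * (g * z * g⁻¹) * (d : G)⁻¹) * g⁻¹ by
      group, hd]
    group
  have htg : (t * g) * z = z * (t * g) := by
    refine mul_inv_eq_iff_eq_mul.1 ?_
    rw [show t * g * z * (t * g)⁻¹ = t * (g * z * g⁻¹) * t⁻¹ by group, e2]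
  have hQ1 : (qImg Q).map (MulAut.conj t).toMonoidHom = (qImg Q).map (MulAut.conj g).toMonoidHom := by
    ext x
    rw [mem_map_conj, mem_map_conj, ht,
      show (g * (d : G))⁻¹ * x * (g * (d : G)) = (d : G)⁻¹ * (g⁻¹ * x * g) * d by group, hnorm _ hdz]
  have hQ2 : ∀ x ∈ (qImg Q).map (MulAut.conj g).toMonoidHom, t * x * t⁻¹ ∈ qImg Q := fun x hx => by
    rw [← hnorm (t * g) htg, show (t * g)⁻¹ * (t * x * t⁻¹) * (t * g) = g⁻¹ * x * g by group]
    exact mem_map_conj.1 hx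
  refine ⟨t, mem_normalizer_of_conj_mem fun a ha => h.line_of_odd_fix hu hne ?_ fun c hc hcs hodd => ?_, e1, e2, hQ1⟩
  · exact hQ2 a (h.line_le hu hne ha).2
  · have hz' : t⁻¹ * (g * z * g⁻¹) * t = z := by rw [← e1]; group
    have hs' : t⁻¹ * z * t = g * z * g⁻¹ := by
      calc t⁻¹ * z * t = t⁻¹ * (t * (g * z * g⁻¹) * t⁻¹) * t := by rw [e2]
        _ = _ := by group
    have := h.line_odd_fix hu hne ha (c := t⁻¹ * c * t) ?_ ?_ ?_
    · calc c * (t * a * t⁻¹) = t * ((t⁻¹ * c * t) * a) * t⁻¹ := by group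
        _ = _ := by rw [this]; group
    · calc t⁻¹ * c * t * z = t⁻¹ * (c * (g * z * g⁻¹)) * t := by rw [← e1]; group
        _ = t⁻¹ * (g * z * g⁻¹) * t * (t⁻¹ * c * t) := by rw [hcs]; group
        _ = _ := by rw [hz']
    · calc t⁻¹ * c * t * (g * z * g⁻¹) = t⁻¹ * (c * z) * t := by rw [← hs']; group
        _ = t⁻¹ * z * t * (t⁻¹ * c * t) := by rw [hc]; group
        _ = _ := by rw [hs']
    · rwa [show t⁻¹ * c * t = MulAut.conj t⁻¹ c by simp, MulEquiv.orderOf_eq]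

/-- The normaliser is transitive on the nontrivial elements. -/
theorem line_transitive {a : G} (ha : a ∈ h.lineGrp (π (g * z * g⁻¹))) (h1 : a ≠ 1) :
    ∃ n, n ∈ Subgroup.normalizer (h.lineGrp (π (g * z * g⁻¹)) : Set G) ∧ n * z * n⁻¹ = a := by
  by_cases h2 : a = z
  · exact ⟨1, one_mem _, by rw [h2]; group⟩
  obtain ⟨t, ht, e1, -⟩ := h.exists_swap hu hne
  obtain ⟨d, hd, -, hde⟩ := h.move_line hu hne ha h1 h2
  refine ⟨d * t, mul_mem hd ht, ?_⟩
  rw [show d * t * z * (d * t)⁻¹ = d * (t * z * t⁻¹) * d⁻¹ by group, e1, hde]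

end LF

end CfsgLib.Sporadic.LargeFischer
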