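import Cfsg.Agent.Lib.Sporadic.LargeFischer.EightCore
import Cfsg.Agent.Lib.Sporadic.LargeFischer.EightQuot
import Cfsg.Prelude.Def_Transfer

/-!
# Groups of large Fischer type: the normaliser of the elementary group of order eight
-/

set_option autoImplicit false
set_option linter.style.haveILetI false
set_option linter.unusedSectionVars false

namespace CfsgLib.Sporadic.LargeFischer

open CfsgLib.ThreeTransp.Extraspecial EightQuot
open scoped commutatorElement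

namespace LF

variable {G : Type*} [Group G] [Finite G] {z : G} {Q : Subgroup (Subgroup.centralizer ({z} : Set G))} [Q.Normal]
  {π : G → V6} {ψ : ↥(Subgroup.centralizer ({z} : Set G)) →* (V6 ≃ₗ[ZMod 2] V6)} (h : LF z (qImg Q) π ψ)
  {g : G} (hu : g * z * g⁻¹ ∈ qImg Q) (hne : g * z * g⁻¹ ≠ z)
include h hu hne

theorem exists_alt : ∃ φ : ↥(h.cLine g) →* ↥(alternatingGroup (Fin 6)), Function.Surjective φ ∧
    ∀ c, φ c = 1 ↔ (c : G) ∈ h.rLine g := by
  classical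
  set X := ((Subgroup.centralizer ({z} : Set G) ⊓ Subgroup.centralizer ({g * z * g⁻¹} : Set G)).subgroupOf
    (Subgroup.centralizer ({z} : Set G))).map (QuotientGroup.mk' Q) with hX
  set E' := (((qImg Q).map (MulAut.conj g).toMonoidHom ⊓ Subgroup.centralizer ({z} : Set G)).subgroupOf
    (Subgroup.centralizer ({z} : Set G))).map (QuotientGroup.mk' Q) with hE'
  obtain ⟨-, -, hEX, -, -, -, hn, ⟨eA⟩⟩ := h.pair_structure hu hne X E' hX hE'
  obtain ⟨R, E, P, hR, hlin, hE, -, -⟩ := h.core_data hu hne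
  have h' : Extra ((qImg Q).map (MulAut.conj g).toMonoidHom) (g * z * g⁻¹) := h.extra.map_conj g
  have hmem : ∀ c : ↥(h.cLine g), QuotientGroup.mk' Q (Subgroup.inclusion (h.cLine_le g) c) ∈ X := fun c =>
    ⟨_, ⟨h.cLine_le g c.2, Subgroup.mem_centralizer_singleton_iff.2
      (Subgroup.mem_centralizer_iff.1 c.2 _ (h.s_mem_line hu hne)).symm⟩, rfl⟩
  let θ : ↥(h.cLine g) →* ↥X :=
    ((QuotientGroup.mk' Q).comp (Subgroup.inclusion (h.cLine_le g))).codRestrict X hmem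
  let φ := eA.toMonoidHom.comp ((QuotientGroup.mk' (E'.subgroupOf X)).comp θ)
  have hsame : ∀ a c : ↥(Subgroup.centralizer ({z} : Set G)),
      QuotientGroup.mk' Q a = QuotientGroup.mk' Q c ↔ ψ a = ψ c := fun a c => by
    rw [QuotientGroup.mk'_apply, QuotientGroup.mk'_apply, QuotientGroup.eq, ← mem_qImg_coe, ← h.ker, map_mul, map_inv,
      inv_mul_eq_one]
  have hφ : ∀ c, φ c = 1 ↔ (c : G) ∈ h.rLine g := by
    intro c
    show eA (QuotientGroup.mk (θ c)) = 1 ↔ _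
    rw [eA.map_eq_one_iff, QuotientGroup.eq_one_iff, Subgroup.mem_subgroupOf]
    constructor
    · rintro ⟨a, ha, e⟩
      have hpsi : ψ a = h.cAct g c := (hsame _ _).1 e
      have hl : h.cAct g c ∈ linPart E :=
        ⟨(hE _).2 ⟨a, ha.1, hpsi⟩, (h.cAct_props hu hne c).2⟩
      obtain ⟨b, hb, hbe⟩ := (hlin _).1 hl
      have hq : ((b⁻¹ * c : ↥(h.cLine g)) : G) ∈ qImg Q := by
        have h1 : ψ (Subgroup.inclusion (h.cLine_le g) (b⁻¹ * c)) = 1 := by
          show h.cAct g (b⁻¹ * c) = 1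
          rw [map_mul, map_inv, hbe, inv_mul_cancel]
        exact (h.ker _).1 h1
      exact (h.mem_rLine hu hne).2 ⟨b, hb, _, ⟨hq, (b⁻¹ * c).2⟩, mul_inv_cancel_left (b : G) (c : G)⟩
    · intro hc
      obtain ⟨b, hb, a, ha, e⟩ := (h.mem_rLine hu hne).1 hc
      refine ⟨⟨b, h.cLine_le g hb.2⟩, ⟨hb.1, h.cLine_le g hb.2⟩, (hsame _ _).2 ?_⟩
      show h.cAct g ⟨b, hb.2⟩ = h.cAct g c
      rw [show c = ⟨b, hb.2⟩ * ⟨a, ha.2⟩ from Subtype.ext e.symm, map_mul, h.cAct_apply g ⟨a, ha.2⟩,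
        (h.ker _).2 ha.1, mul_one]
  refine ⟨φ, ?_, hφ⟩
  have hsq : ∀ x : ↥(alternatingGroup (Fin 6)), x * x ∈ φ.range := by
    intro x
    obtain ⟨y, rfl⟩ := eA.surjective x
    obtain ⟨⟨_, c, hc, rfl⟩, rfl⟩ := QuotientGroup.mk_surjective y
    have hcs : (c : G) * (g * z * g⁻¹) = g * z * g⁻¹ * c := Subgroup.mem_centralizer_singleton_iff.1 hc.2
    have hv : ψ c (π (g * z * g⁻¹)) = π (g * z * g⁻¹) := by rw [← h.act c _ hu, hcs, mul_inv_cancel_right]
    obtain ⟨d, hd⟩ := h.exists_cLine hu hne (c * c)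
      (by rw [map_mul]; show ψ c (ψ c _) = _; rw [hv, hv]) (fun w => by
        rw [map_mul]
        show ψ c (ψ c (omV w)) = omV (ψ c (ψ c w))
        rcases h.model.scal _ ⟨c, rfl⟩ with e | e
        · rw [e, e]
        · rw [e, e, e, omV_cube])
    refine ⟨d, ?_⟩
    show eA (QuotientGroup.mk (θ d)) = _
    rw [← map_mul, ← QuotientGroup.mk_mul]
    refine congrArg (fun t : ↥X => eA (QuotientGroup.mk t)) (Subtype.ext ?_)
    show QuotientGroup.mk' Q (Subgroup.inclusion (h.cLine_le g) d) = QuotientGroup.mk' Q c * QuotientGroup.mk' Q c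
    rw [← map_mul]
    exact (hsame _ _).2 hd
  intro x
  have hall : alternatingGroup (Fin 6) ≤ φ.range.map (alternatingGroup (Fin 6)).subtype := by
    refine (Equiv.Perm.closure_three_cycles_eq_alternating (α := Fin 6)).symm.le.trans ((Subgroup.closure_le _).2 ?_)
    intro σ hσ
    let t : ↥(alternatingGroup (Fin 6)) := ⟨σ, hσ.mem_alternatingGroup⟩
    refine ⟨t, ?_, rfl⟩
    have h3 : t ^ 3 = 1 := Subtype.ext (by rw [SubgroupClass.coe_pow]; exact hσ.orderOf ▸ pow_orderOf_eq_one σ)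
    rw [show t = (t * t) * (t * t) by
      rw [show t * t * (t * t) = t ^ 3 * t by rw [pow_succ, pow_two, mul_assoc (t * t) t t], h3, one_mul]]
    exact hsq _
  obtain ⟨y, hy, e⟩ := hall x.2
  obtain ⟨d, rfl⟩ := hy
  exact ⟨d, Subtype.ext e⟩

theorem line_ext {n : G} (hz : n * z * n⁻¹ = z) (hs : n * (g * z * g⁻¹) * n⁻¹ = g * z * g⁻¹)
    {b : G} (hb : b ∈ qImg Q) (hbe : π b = omV (π (g * z * g⁻¹))) (α : MulAut ↥(h.lineGrp (π (g * z * g⁻¹))))
    (az : ∀ a : ↥(h.lineGrp (π (g * z * g⁻¹))), (a : G) = z ∨ (a : G) = g * z * g⁻¹ → (α a : G) = a)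
    (ab : ∀ a : ↥(h.lineGrp (π (g * z * g⁻¹))), (a : G) = b → (α a : G) = n * b * n⁻¹) :
    ∀ a : ↥(h.lineGrp (π (g * z * g⁻¹))), (α a : G) = n * a * n⁻¹ := by
  have hbV : b ∈ h.lineGrp (π (g * z * g⁻¹)) := ⟨hb, (0, 1), by rw [hbe, sc_om]⟩
  have hmul : ∀ x y : ↥(h.lineGrp (π (g * z * g⁻¹))), (α x : G) = n * x * n⁻¹ → (α y : G) = n * y * n⁻¹ →
      (α (x * y) : G) = n * (x * y : ↥(h.lineGrp (π (g * z * g⁻¹)))) * n⁻¹ := fun x y ex ey => by
    rw [map_mul, Subgroup.coe_mul, ex, ey, Subgroup.coe_mul]; group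
  have e1 : (α ⟨z, h.z_mem_line _⟩ : G) = n * z * n⁻¹ := by rw [hz]; exact az ⟨z, h.z_mem_line _⟩ (Or.inl rfl)
  have e2 : (α ⟨g * z * g⁻¹, h.s_mem_line hu hne⟩ : G) = n * (g * z * g⁻¹) * n⁻¹ := by
    rw [hs]; exact az ⟨_, h.s_mem_line hu hne⟩ (Or.inr rfl)
  have e3 := ab ⟨b, hbV⟩ rfl
  rintro ⟨a, haQ, ⟨i, j⟩, he⟩
  have key : ∃ r : ↥(h.lineGrp (π (g * z * g⁻¹))), π r = π a ∧ (α r : G) = n * r * n⁻¹ := by
    rcases z2 i with rfl | rfl <;> rcases z2 j with rfl | rfl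
    · exact ⟨1, by rw [OneMemClass.coe_one, h.π_one, he]; exact (sc_zero _).symm, by
        rw [map_one, OneMemClass.coe_one]; group⟩
    · exact ⟨⟨b, hbV⟩, by rw [he, sc_om]; exact hbe, e3⟩
    · exact ⟨⟨_, h.s_mem_line hu hne⟩, by rw [he, sc_one], e2⟩
    · exact ⟨⟨_, h.s_mem_line hu hne⟩ * ⟨b, hbV⟩, by
        rw [Subgroup.coe_mul, h.π_mul _ hu _ hb, hbe, he, sc, one_smul, one_smul], hmul _ _ e2 e3⟩
  obtain ⟨r, hr, hrn⟩ := key
  rcases (h.π_eq_iff r.2.1 haQ).1 hr with e | e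
  · rw [show (⟨a, haQ, (i, j), he⟩ : ↥(h.lineGrp (π (g * z * g⁻¹)))) = r from Subtype.ext e]
    exact hrn
  · rw [show (⟨a, haQ, (i, j), he⟩ : ↥(h.lineGrp (π (g * z * g⁻¹)))) = r * ⟨z, h.z_mem_line _⟩ from Subtype.ext e]
    exact hmul _ _ hrn e1

/-- The normaliser induces all automorphisms. -/
theorem normalizerHom_surjective :
    Function.Surjective (h.lineGrp (π (g * z * g⁻¹))).normalizerMonoidHom := by
  set v := π (g * z * g⁻¹) with hv
  set V := h.lineGrp v with hV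
  set act := V.normalizerMonoidHom with hact
  have hact' : ∀ (n : ↥(Subgroup.normalizer (V : Set G))) (a : ↥V), (act n a : G) = n * a * (n : G)⁻¹ := fun n a => rfl
  have hz : z ∈ V := h.z_mem_line _
  have hs : g * z * g⁻¹ ∈ V := h.s_mem_line hu hne
  obtain ⟨b, hb, hbe, -⟩ := h.exists_b hu hne
  have step3 : ∀ γ : MulAut ↥V, γ ⟨z, hz⟩ = ⟨z, hz⟩ → γ ⟨_, hs⟩ = ⟨_, hs⟩ → γ ∈ act.range := by
    intro γ g1 g2
    have gsz : γ (⟨_, hs⟩ * ⟨z, hz⟩) = ⟨_, hs⟩ * ⟨z, hz⟩ := by rw [map_mul, g1, g2]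
    have hne' : π (γ ⟨b, hb⟩ : G) ≠ 0 ∧ π (γ ⟨b, hb⟩ : G) ≠ v := by
      constructor
      · intro e
        rcases (h.π_ker _ (γ ⟨b, hb⟩).2.1).1 e with e1 | e1
        · have := congrArg Subtype.val (γ.injective ((Subtype.ext e1 : γ ⟨b, hb⟩ = 1).trans (map_one γ).symm))
          exact h.v_ne hu hne (omV_inj (by
            rw [omV_zero, ← hbe, show b = 1 from this, h.π_one]))
        · have := congrArg Subtype.val (γ.injective ((Subtype.ext e1 : γ ⟨b, hb⟩ = ⟨z, hz⟩).trans g1.symm))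
          exact h.v_ne hu hne (omV_inj (by
            rw [omV_zero, ← hbe, show b = z from this, h.π_z]))
      · intro e
        have hbv : π b = v → False := fun e1 => by
          rw [hbe] at e1
          have e4 := omV_sq v
          rw [e1, e1, two_V6] at e4
          exact h.v_ne hu hne e4
        rcases (h.π_eq_iff hu (γ ⟨b, hb⟩).2.1).1 e.symm with e1 | e1
        · have := congrArg Subtype.val (γ.injective ((Subtype.ext e1 : γ ⟨b, hb⟩ = ⟨_, hs⟩).trans g2.symm))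
          exact hbv (by rw [show b = g * z * g⁻¹ from this])
        · have := congrArg Subtype.val (γ.injective ((Subtype.ext e1 : γ ⟨b, hb⟩ = ⟨_, hs⟩ * ⟨z, hz⟩).trans gsz.symm))
          exact hbv (by rw [show b = g * z * g⁻¹ * z from this, h.π_mul _ hu _ h.extra.z_mem, h.π_z, add_zero])
    -- an element moving `π b` to `π (γ b)`
    obtain ⟨c, hc1, hc2⟩ : ∃ c : ↥(Subgroup.centralizer ({z} : Set G)),
        (c : G) * (g * z * g⁻¹) = g * z * g⁻¹ * c ∧ π ((c : G) * b * (c : G)⁻¹) = π (γ ⟨b, hb⟩ : G) := by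
      obtain ⟨-, e, he⟩ := (γ ⟨b, hb⟩).2
      rcases e with ⟨i, j⟩
      rcases z2 i with rfl | rfl <;> rcases z2 j with rfl | rfl
      · exact absurd (he.trans (sc_zero _)) hne'.1
      · exact ⟨1, by simp, by rw [he, sc_om, ← hbe]; simp⟩
      · exact absurd (he.trans (sc_one _)) hne'.2
      · obtain ⟨R, E, P, -, -, hE, h16, -⟩ := h.core_data hu hne
        obtain ⟨k, hk, hnl⟩ : ∃ k ∈ E, k ∉ linPart E := by
          by_contra hcon
          push Not at hcon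
          haveI : Finite (V6 ≃ₗ[ZMod 2] V6) := Finite.of_injective (fun e => ⇑e) DFunLike.coe_injective
          have := Subgroup.card_le_of_le (show E ≤ linPart E from hcon)
          rw [P.cardE, h16] at this
          omega
        obtain ⟨c, hc, rfl⟩ := (hE _).1 hk
        have h' : Extra ((qImg Q).map (MulAut.conj g).toMonoidHom) (g * z * g⁻¹) := h.extra.map_conj g
        refine ⟨c, (h'.z_comm hc).symm, ?_⟩
        have hsw := (h.model.scal _ ⟨c, rfl⟩).resolve_left fun e => hnl ⟨hk, e⟩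
        rw [h.act c b hb.1, hbe, hsw, P.E_fix _ hk, he, omV_sq, sc, one_smul, one_smul]
    have hcz := Subgroup.mem_centralizer_singleton_iff.1 c.2
    have hcN : (c : G) ∈ Subgroup.normalizer (V : Set G) := h.norm_line c fun e => by
      have hcv : ψ c v = v := by rw [hv, ← h.act c _ hu, hc1, mul_inv_cancel_right]
      rcases h.line_stab c hcv e with e1 | e1 <;> exact ⟨_, e1⟩
    have main : ∀ n, n ∈ Subgroup.normalizer (V : Set G) → n * z = z * n →
        n * (g * z * g⁻¹) = g * z * g⁻¹ * n → n * b * n⁻¹ = (γ ⟨b, hb⟩ : G) → γ ∈ act.range := by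
      intro n hn hnz hns hnb
      refine ⟨⟨n, hn⟩, MulEquiv.ext fun a => Subtype.ext ((hact' _ a).trans ?_)⟩
      refine (h.line_ext hu hne (mul_inv_eq_iff_eq_mul.2 hnz) (mul_inv_eq_iff_eq_mul.2 hns) hb.1 hbe γ ?_ ?_ a).symm
      · intro a ha
        rcases ha with e | e
        · rw [show a = ⟨z, hz⟩ from Subtype.ext e, g1]
        · rw [show a = ⟨_, hs⟩ from Subtype.ext e, g2]
      · intro a ha
        rw [show a = ⟨b, hb⟩ from Subtype.ext ha]
        exact hnb.symm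
    rcases (h.π_eq_iff (h.norm _ hcz b hb.1) (γ ⟨b, hb⟩).2.1).1 hc2 with e | e
    · exact main c hcN hcz hc1 e.symm
    · obtain ⟨-, q, hq, q1, q2⟩ := h.exists_dual (h.v_ne hu hne)
      rw [← hbe] at q2
      have hqb : q * b * q⁻¹ = b * z := by
        rcases h.extra.conj_cases hb.1 hq with e2 | e2
        · rw [h.bs_of_commute hq hb.1 (mul_inv_eq_iff_eq_mul.1 e2)] at q2
          exact absurd q2 zero_ne_one
        · exact e2
      refine main ((c : G) * q) (mul_mem hcN (h.q_norm_line hq)) (Commute.mul_left hcz (h.cent_z hq))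
        (Commute.mul_left hc1 (h.commute_of_bs hq hu q1)) ?_
      rw [e, show (c : G) * q * b * ((c : G) * q)⁻¹ = (c : G) * (q * b * q⁻¹) * (c : G)⁻¹ by group, hqb,
        show (c : G) * (b * z) * (c : G)⁻¹ = (c : G) * b * (c : G)⁻¹ * ((c : G) * z * (c : G)⁻¹) by group,
        mul_inv_eq_iff_eq_mul.2 hcz]
  intro α
  have hα1 : (α ⟨z, hz⟩ : G) ≠ 1 := fun e => h.extra.z_ne (congrArg Subtype.val
    (α.injective ((Subtype.ext e : α ⟨z, hz⟩ = 1).trans (map_one α).symm)))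
  obtain ⟨n, hn, hne1⟩ := h.line_transitive hu hne (α ⟨z, hz⟩).2 hα1
  let n' : ↥(Subgroup.normalizer (V : Set G)) := ⟨n, hn⟩
  have e1 : act n' ⟨z, hz⟩ = α ⟨z, hz⟩ := Subtype.ext ((hact' n' _).trans hne1)
  set β := (act n')⁻¹ * α with hβ
  have b1 : β ⟨z, hz⟩ = ⟨z, hz⟩ := by
    show (act n').symm (α ⟨z, hz⟩) = _
    rw [← e1, MulEquiv.symm_apply_apply]
  have hb1 : (β ⟨_, hs⟩ : G) ≠ 1 := fun e => h.extra.z_ne (conj_eq_one_iff.1 (congrArg Subtype.val
    (β.injective ((Subtype.ext e : β ⟨_, hs⟩ = 1).trans (map_one β).symm))))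
  have hb2 : (β ⟨_, hs⟩ : G) ≠ z := fun e => hne (congrArg Subtype.val
    (β.injective ((Subtype.ext e : β ⟨_, hs⟩ = ⟨z, hz⟩).trans b1.symm)))
  obtain ⟨d, hd, hdz, hde⟩ := h.move_line hu hne (β ⟨_, hs⟩).2 hb1 hb2
  let d' : ↥(Subgroup.normalizer (V : Set G)) := ⟨d, hd⟩
  have d1 : act d' ⟨z, hz⟩ = ⟨z, hz⟩ := Subtype.ext ((hact' d' _).trans (mul_inv_eq_iff_eq_mul.2 hdz))
  have d2 : act d' ⟨_, hs⟩ = β ⟨_, hs⟩ := Subtype.ext ((hact' d' _).trans hde)
  obtain ⟨m, hm⟩ := step3 ((act d')⁻¹ * β) (by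
      show (act d').symm (β ⟨z, hz⟩) = _
      rw [b1]
      exact (MulEquiv.symm_apply_eq _).2 d1.symm) (by
      show (act d').symm (β ⟨_, hs⟩) = _
      rw [← d2, MulEquiv.symm_apply_apply])
  exact ⟨n' * (d' * m), by rw [map_mul, map_mul, hm, mul_inv_cancel_left, hβ, mul_inv_cancel_left]⟩

/-- The structure of the normaliser. -/
theorem eight_local :
    ∃ Φ : ↥(Subgroup.normalizer (h.lineGrp (π (g * z * g⁻¹)) : Set G)) →* L32 × ↥(alternatingGroup (Fin 6)),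
      Function.Surjective Φ ∧ ∀ n, Φ n = 1 ↔ (n : G) ∈ h.rLine g := by
  classical
  set V := h.lineGrp (π (g * z * g⁻¹)) with hV
  set N := Subgroup.normalizer (V : Set G) with hN
  obtain ⟨φ, hφ, hker⟩ := h.exists_alt hu hne
  have hel := h.isElementary_line hu hne
  obtain ⟨eV⟩ := exists_mulAut_equiv (V := ↥V) (fun a b => hel.1.1.1 a b)
    (fun a => Subtype.ext (by have := hel.2 (a : G) a.2; rwa [pow_two] at this))
    (h.card_line (h.v_ne hu hne))
  let ρ : ↥N →* L32 := eV.toMonoidHom.comp V.normalizerMonoidHom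
  have hρ : Function.Surjective ρ := eV.surjective.comp (h.normalizerHom_surjective hu hne)
  have hρk : ∀ n : ↥N, n ∈ ρ.ker ↔ (n : G) ∈ h.cLine g := fun n => by
    rw [MonoidHom.mem_ker]
    show eV (V.normalizerMonoidHom n) = 1 ↔ _
    rw [eV.map_eq_one_iff, ← MonoidHom.mem_ker, Subgroup.normalizerMonoidHom_ker, Subgroup.mem_subgroupOf]
    rfl
  have hCN : h.cLine g ≤ N := fun c hc => mem_normalizer_of_conj_mem fun a ha => by
    rwa [← Subgroup.mem_centralizer_iff.1 hc a ha, mul_inv_cancel_right]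
  let f : ↥ρ.ker →* ↥(alternatingGroup (Fin 6)) :=
    φ.comp ((N.subtype.comp ρ.ker.subtype).codRestrict (h.cLine g) fun c => (hρk c).1 c.2)
  have hf : Function.Surjective f := fun a => by
    obtain ⟨c, rfl⟩ := hφ a
    exact ⟨⟨⟨c, hCN c.2⟩, (hρk _).2 c.2⟩, rfl⟩
  have hfk : ∀ c : ↥ρ.ker, f c = 1 ↔ ((c : ↥N) : G) ∈ h.rLine g := fun c => hker _
  have hinv : ∀ n ∈ N, ∀ x ∈ h.rLine g, n * x * n⁻¹ ∈ h.rLine g := by
    intro n hn x hx
    have hC : ∀ y ∈ h.cLine g, ∀ m ∈ N, m * y * m⁻¹ ∈ h.cLine g := fun y hy m hm => by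
      have h1 : (⟨y, hCN hy⟩ : ↥N) ∈ ρ.ker := (hρk _).2 hy
      exact (hρk _).1 (ρ.normal_ker.conj_mem _ h1 ⟨m, hm⟩)
    have hc1 : n * x * n⁻¹ ∈ h.cLine g := hC x (h.rLine_le hu hne hx) n hn
    -- the image of the conjugate is a normal two-subgroup
    let S : Subgroup ↥(h.cLine g) := ((h.rLine g).map (MulAut.conj n).toMonoidHom).subgroupOf (h.cLine g)
    have hS2 : IsPGroup 2 S := ((h.rLine_two hu hne).map _).comap_of_injective _ (Subgroup.subtype_injective _)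
    have hSn : S.Normal := ⟨fun y hy c => by
      rw [Subgroup.mem_subgroupOf, mem_map_conj] at hy ⊢
      have hy' : n⁻¹ * (y : G) * n ∈ h.rLine g := hy
      have hcn : n⁻¹ * (c : G) * n⁻¹⁻¹ ∈ h.cLine g := hC _ c.2 _ (inv_mem hn)
      rw [inv_inv] at hcn
      have hnr : (⟨n⁻¹ * (c : G) * n, hcn⟩ * ⟨_, h.rLine_le hu hne hy'⟩ * ⟨n⁻¹ * (c : G) * n, hcn⟩⁻¹ :
          ↥(h.cLine g)).1 ∈ h.rLine g := by
        rw [← hker, map_mul, map_mul, map_inv, (hker ⟨_, h.rLine_le hu hne hy'⟩).2 hy', mul_one, mul_inv_cancel]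
      rw [show n⁻¹ * ((c * y * c⁻¹ : ↥(h.cLine g)) : G) * n =
        (n⁻¹ * (c : G) * n) * (n⁻¹ * (y : G) * n) * (n⁻¹ * (c : G) * n)⁻¹ by
          simp only [Subgroup.coe_mul, InvMemClass.coe_inv]; group]
      exact hnr⟩
    haveI := hSn
    haveI : IsSimpleGroup ↥(alternatingGroup (Fin 6)) := alternatingGroup.isSimpleGroup (by simp)
    haveI : Fact (Nat.Prime 2) := ⟨Nat.prime_two⟩
    rcases (Subgroup.Normal.map (inferInstance : S.Normal) φ hφ).eq_bot_or_eq_top with e | e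
    · have hm : (⟨_, hc1⟩ : ↥(h.cLine g)) ∈ S := by
        rw [Subgroup.mem_subgroupOf]; exact ⟨x, hx, rfl⟩
      have := Subgroup.mem_map_of_mem φ hm
      rw [e, Subgroup.mem_bot, hker] at this
      exact this
    · exfalso
      obtain ⟨k, hk⟩ := IsPGroup.iff_card.1 (hS2.map φ)
      rw [e, Subgroup.card_top, nat_card_alternatingGroup, Nat.card_eq_fintype_card, Fintype.card_fin] at hk
      have h3 : 3 ∣ 2 ^ k := hk ▸ (by decide)
      exact absurd (Nat.prime_three.dvd_of_dvd_pow h3) (by norm_num)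
  obtain ⟨Φ, hΦ, hΦk⟩ := exists_surj_prod ρ hρ f hf fun n c hc => (hfk _).2 (hinv _ n.2 _ ((hfk c).1 hc))
  refine ⟨Φ, hΦ, fun n => (hΦk n).trans ⟨fun ⟨hn, e⟩ => (hfk ⟨n, hn⟩).1 e, fun hn => ?_⟩⟩
  exact ⟨(hρk n).2 (h.rLine_le hu hne hn), (hfk _).2 hn⟩

theorem rLine_special : Cfsg.IsSpecial 2 ↥(h.rLine g) ∧
    (Subgroup.center ↥(h.rLine g)).map (h.rLine g).subtype = h.lineGrp (π (g * z * g⁻¹)) := by
  haveI : Fact (Nat.Prime 2) := ⟨Nat.prime_two⟩
  set V := h.lineGrp (π (g * z * g⁻¹)) with hV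
  set P := h.rLine g with hP
  obtain ⟨hsq, hcm⟩ := h.rLine_squares_comm hu hne
  obtain ⟨Φ, -, hΦk⟩ := h.eight_local hu hne
  have hVP : V ≤ P := (h.line_le_qLine hu hne).trans le_sup_right
  have hcen : ∀ x : ↥P, x ∈ Subgroup.center ↥P ↔ (x : G) ∈ V := fun x => by
    refine ⟨fun hx => h.rLine_center hu hne x.2 fun a ha => ?_, fun hx => Subgroup.mem_center_iff.2 fun y => ?_⟩
    · exact (congrArg Subtype.val (Subgroup.mem_center_iff.1 hx ⟨a, Subgroup.mem_sup_right ha⟩)).symm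
    · exact Subtype.ext (Subgroup.mem_centralizer_iff.1 (h.rLine_le hu hne y.2) _ hx).symm
  have hP2 : IsPGroup 2 ↥P := h.rLine_two hu hne
  have hgen : ∀ x : ↥P, (x : G) ∈ V → x ∈ commutator ↥P := by
    intro x hx
    by_cases h1 : (x : G) = 1
    · rw [show x = 1 from Subtype.ext h1]; exact one_mem _
    obtain ⟨n, hn, he⟩ := h.line_transitive hu hne hx h1
    obtain ⟨a, ha, a', ha', haa⟩ := h.exists_noncommuting hu hne
    have hcj : ∀ y ∈ P, n * y * n⁻¹ ∈ P := fun y hy => by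
      have hyN : y ∈ Subgroup.normalizer (V : Set G) := mem_normalizer_of_conj_mem fun b hb => by
        rwa [← Subgroup.mem_centralizer_iff.1 (h.rLine_le hu hne hy) b hb, mul_inv_cancel_right]
      refine (hΦk (⟨n, hn⟩ * ⟨y, hyN⟩ * ⟨n, hn⟩⁻¹)).1 ?_
      rw [map_mul, map_mul, (hΦk ⟨y, hyN⟩).2 hy, mul_one, map_inv, mul_inv_cancel]
    have hm : ⁅(⟨_, hcj a (Subgroup.mem_sup_right ha)⟩ : ↥P), ⟨_, hcj a' (Subgroup.mem_sup_right ha')⟩⁆ = x := by
      refine Subtype.ext ?_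
      show ⁅n * a * n⁻¹, n * a' * n⁻¹⁆ = (x : G)
      rw [← he, ← haa, commutatorElement_def, commutatorElement_def]
      group
    rw [← hm]
    exact Subgroup.commutator_mem_commutator (Subgroup.mem_top _) (Subgroup.mem_top _)
  have hcom : commutator ↥P = Subgroup.center ↥P := by
    refine le_antisymm ?_ fun x hx => hgen x ((hcen x).1 hx)
    rw [commutator_def, Subgroup.commutator_le]
    exact fun a _ b _ => (hcen _).2 (hcm _ a.2 _ b.2)
  refine ⟨⟨hP2, le_antisymm ?_ ?_, hcom⟩, ?_⟩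
  · exact LocalEven.Residual.frattini_le (p := 2) (fun a b => (hcen _).2 (hcm _ a.2 _ b.2))
      fun a => by rw [pow_two]; exact (hcen _).2 (hsq _ a.2)
  · rw [← hcom, commutator_def, Subgroup.commutator_le]
    exact fun a _ b _ => PGroup.Frattini.commutatorElement_mem_frattini hP2 a b
  · ext x
    exact ⟨fun ⟨y, hy, e⟩ => e ▸ (hcen y).1 hy, fun hx => ⟨⟨x, hVP hx⟩, (hcen _).2 hx, rfl⟩⟩

end LF

end CfsgLib.Sporadic.LargeFischer
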