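import Cfsg.Agent.Lib.Sporadic.LargeFischer.OrbitSizes

/-!
# Singular subgroups fixed by stabilisers, and `A₆` fixing a vector of weight six
-/

set_option autoImplicit false
set_option linter.unusedSectionVars false

namespace CfsgLib.Sporadic.LargeFischer

theorem bs_zero_left (w : V6) : bs 0 w = 0 := by
  show qs (0 + w) + qs 0 + qs w = 0
  rw [zero_add, show qs 0 = 0 by decide, add_zero, CharTwo.add_self_eq_zero]

open scoped Classical in
/-- The size of the orthogonal of a totally singular subgroup. -/
theorem perp_count (R : AddSubgroup V6) (hR : ∀ w ∈ R, qs w = 0) :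
    ((Finset.univ.filter fun u : V6 => ∀ r ∈ R, bs u r = 0).card : ℤ) * Nat.card R = 4096 ∧
    (Finset.univ.filter fun w => w ∈ R) ⊆ (Finset.univ.filter fun u : V6 => ∀ r ∈ R, bs u r = 0) ∧
    Nat.card R = (Finset.univ.filter fun w => w ∈ R).card := by
  set S : Finset V6 := Finset.univ.filter fun w => w ∈ R with hS
  set P : Finset V6 := Finset.univ.filter fun u => ∀ r ∈ R, bs u r = 0 with hP
  have hc : Nat.card R = S.card := by
    rw [← Fintype.card_coe, ← Nat.card_eq_fintype_card]
    exact Nat.card_congr (Equiv.subtypeEquivRight fun w => by simp [hS])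
  have hsub : S ⊆ P := fun w hw => by
    rw [hS, Finset.mem_filter] at hw
    rw [hP, Finset.mem_filter]
    refine ⟨Finset.mem_univ _, fun r hr => ?_⟩
    show qs (w + r) + qs w + qs r = 0
    rw [hR _ (add_mem hw.2 hr), hR _ hw.2, hR _ hr]; rfl
  have two : ∀ t : V6, t + t = 0 := fun t => funext fun i => CharTwo.add_self_eq_zero _
  have e1 : ∀ u : V6, ∑ r ∈ S, sgn (bs u r) = if u ∈ P then (S.card : ℤ) else 0 := by
    intro u
    split_ifs with hu
    · rw [hP, Finset.mem_filter] at hu
      rw [Finset.sum_congr rfl fun r hr => by rw [hu.2 r (by simpa [hS] using hr)]]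
      simp [sgn]
    · obtain ⟨t, ht, htu⟩ : ∃ t ∈ R, bs u t = 1 := by
        by_contra hc
        push Not at hc
        refine hu ?_
        rw [hP, Finset.mem_filter]
        refine ⟨Finset.mem_univ _, fun r hr => ?_⟩
        have := hc r hr
        revert this
        generalize bs u r = c
        revert c; decide
      have hshift : ∑ r ∈ S, sgn (bs u (r + t)) = ∑ r ∈ S, sgn (bs u r) :=
        Finset.sum_nbij' (fun r => r + t) (fun r => r + t)
          (fun r hr => by simp only [hS, Finset.mem_filter, Finset.mem_univ, true_and] at hr ⊢; exact add_mem hr ht)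
          (fun r hr => by simp only [hS, Finset.mem_filter, Finset.mem_univ, true_and] at hr ⊢; exact add_mem hr ht)
          (fun r _ => by rw [add_assoc, two, add_zero]) (fun r _ => by rw [add_assoc, two, add_zero]) (fun r _ => rfl)
      simp only [bs_add, htu, sgn_add, show sgn 1 = -1 from rfl, mul_neg, mul_one, Finset.sum_neg_distrib] at hshift
      omega
  have e2 : ∀ r : V6, ∑ u : V6, sgn (bs u r) = if r = 0 then (4096 : ℤ) else 0 := by
    intro r
    split_ifs with hr
    · subst hr
      simp only [fun u => (bs_comm u 0).trans (bs_zero_left u)]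
      simp [sgn]
    · obtain ⟨t, htu⟩ : ∃ t, bs t r = 1 := by
        by_contra hc
        push Not at hc
        refine hr (bs_nondeg fun v => ?_)
        have := hc v
        rw [bs_comm]
        revert this
        generalize bs v r = c
        revert c; decide
      have hshift : ∑ u : V6, sgn (bs (u + t) r) = ∑ u : V6, sgn (bs u r) :=
        Fintype.sum_equiv (Equiv.addRight t) _ _ fun u => rfl
      have hl : ∀ u, bs (u + t) r = bs u r + bs t r := fun u => by
        rw [bs_comm, bs_add, bs_comm r u, bs_comm r t]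
      simp only [hl, htu, sgn_add, show sgn 1 = -1 from rfl, mul_neg, mul_one, Finset.sum_neg_distrib] at hshift
      omega
  have key : (P.card : ℤ) * S.card = 4096 := by
    have h := Finset.sum_comm (s := (Finset.univ : Finset V6)) (t := S) (f := fun u r => sgn (bs u r))
    simp only [e1, e2] at h
    rw [Finset.sum_ite_mem, Finset.univ_inter, Finset.sum_const, nsmul_eq_mul,
      Finset.sum_ite_eq' S (0 : V6), if_pos (by simp [hS])] at h
    exact h
  refine ⟨by rw [hc]; exact key, hsub, hc⟩

/-- A totally singular subgroup has at most 64 elements. -/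
theorem singular_card_le (R : AddSubgroup V6) (hR : ∀ w ∈ R, qs w = 0) : Nat.card R ≤ 64 := by
  classical
  obtain ⟨key, hsub, hc⟩ := perp_count R hR
  have hle := Finset.card_le_card hsub
  rw [← hc] at hle
  by_contra hgt
  push Not at hgt
  nlinarith

/-- A totally singular subgroup of order 64 is its own orthogonal. -/
theorem perp_mem (R : AddSubgroup V6) (hR : ∀ w ∈ R, qs w = 0) (h64 : Nat.card R = 64) {u : V6}
    (hu : ∀ r ∈ R, bs u r = 0) : u ∈ R := by
  classical
  obtain ⟨key, hsub, hc⟩ := perp_count R hR
  rw [h64] at key hc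
  have he := Finset.eq_of_subset_of_card_le hsub (by omega)
  have : u ∈ Finset.univ.filter fun w => w ∈ R := by
    rw [he, Finset.mem_filter]; exact ⟨Finset.mem_univ _, hu⟩
  exact (Finset.mem_filter.1 this).2

/-- A phase change fixing the canonical vector of weight two. -/
def ph (i j : Fin 6) : Fin 6 → ZMod 3 := fun k => if k = i then 1 else if k = j then 2 else 0

theorem ph_facts : ∀ i j : Fin 6, i ≠ j → 2 ≤ i.1 → 2 ≤ j.1 →
    ∑ k, ph i j k = 0 ∧ (∀ k, omp (ph i j k) (c2 k) = c2 k) := by decide +kernel

theorem exists_others : ∀ i : Fin 6, 2 ≤ i.1 → ∃ j k : Fin 6, i ≠ j ∧ i ≠ k ∧ j ≠ k ∧ 2 ≤ j.1 ∧ 2 ≤ k.1 := by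
  decide

/-- A totally singular subgroup invariant under the phases fixing `c2` has at most four elements. -/
theorem small_invariant {K : Subgroup (V6 ≃ₗ[ZMod 2] V6)} (h : Model K) (R : AddSubgroup V6)
    (hq : ∀ w ∈ R, qs w = 0) (hR : ∀ g ∈ K, g c2 = c2 → ∀ w ∈ R, g w ∈ R) : Nat.card R ≤ 4 := by
  have happ : ∀ i j, i ≠ j → 2 ≤ i.1 → 2 ≤ j.1 → ∀ w ∈ R, (fun k => w k + omp (ph i j k) (w k)) ∈ R := by
    intro i j hij hi hj w hw
    obtain ⟨hs, hfix⟩ := ph_facts i j hij hi hj
    obtain ⟨g, hg, hgv⟩ := h.diag _ hs
    have hgc : g c2 = c2 := funext fun k => by rw [hgv, hfix]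
    have := add_mem hw (hR g hg hgc w hw)
    convert this using 1
    funext k
    rw [Pi.add_apply, hgv]
  have hzero : ∀ w ∈ R, ∀ i : Fin 6, 2 ≤ i.1 → w i = 0 := by
    intro w hw i hi
    obtain ⟨j, k, hij, hik, hjk, hj, hk⟩ := exists_others i hi
    have h2 := happ i k hik hi hk _ (happ i j hij hi hj w hw)
    have hq2 := hq _ h2
    rw [qs, Finset.sum_eq_single i] at hq2
    · simp only [ph, if_pos] at hq2
      revert hq2
      generalize w i = d
      revert d; decide
    · intro l _ hl
      by_cases hlj : l = j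
      · subst hlj
        simp only [ph, if_neg hl, if_neg hjk, if_pos]
        generalize w l = d
        revert d; decide
      · simp only [ph, if_neg hl, if_neg hlj]
        generalize w l = d
        split_ifs <;> revert d <;> decide
    · simp
  have hinj : Function.Injective fun w : R => (w : V6) 0 := by
    intro u v e
    have hd := hq _ (add_mem u.2 v.2)
    have e0 : (u : V6) 0 = (v : V6) 0 := e
    refine Subtype.ext (funext fun i => ?_)
    by_cases h0 : i = 0
    · rw [h0, e0]
    by_cases h1 : i = 1
    · subst h1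
      rw [qs, Finset.sum_eq_single (1 : Fin 6)] at hd
      · rw [Pi.add_apply, nzd_zero_iff] at hd
        exact CharTwo.add_eq_zero.1 hd
      · intro l _ hl
        rw [nzd_zero_iff, Pi.add_apply]
        by_cases hl0 : l = 0
        · rw [hl0, e0, CharTwo.add_self_eq_zero]
        · have : 2 ≤ l.1 := by
            by_contra hc
            have hl0' : l.1 ≠ 0 := fun e => hl0 (Fin.ext e)
            exact hl (Fin.ext (show l.1 = 1 by omega))
          rw [hzero _ u.2 l this, hzero _ v.2 l this, add_zero]
      · simp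
    · have : 2 ≤ i.1 := by
        by_contra hc
        have hi0 : i.1 ≠ 0 := fun e => h0 (Fin.ext e)
        exact h1 (Fin.ext (show i.1 = 1 by omega))
      rw [hzero _ u.2 i this, hzero _ v.2 i this]
  have := Nat.card_le_card_of_injective _ hinj
  simpa [Nat.card_eq_fintype_card] using this

/-- The phase change carrying `c6 0` to `c6 k`. -/
def phase0 (k : ZMod 3) (i : Fin 6) : ZMod 3 := if i = 0 then k else 0

theorem omp_add (a b : ZMod 3) : ∀ d, omp a (omp b d) = omp (a + b) d := by revert a b; decide

theorem omp_linear : ∀ (a : ZMod 3) (d e : D4), omp a (d + e) = omp a d + omp a e := by decide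

/-- The twisted permutation matrices fixing `c6 k`. -/
def twistPerm (k : ZMod 3) : ↥(alternatingGroup (Fin 6)) →* (V6 ≃ₗ[ZMod 2] V6) where
  toFun p :=
    { toFun := fun v i => omp (phase0 k i) (omp (-phase0 k ((p : Equiv.Perm (Fin 6)).symm i))
        (v ((p : Equiv.Perm (Fin 6)).symm i)))
      invFun := fun v i => omp (phase0 k i) (omp (-phase0 k ((p : Equiv.Perm (Fin 6)) i))
        (v ((p : Equiv.Perm (Fin 6)) i)))
      map_add' := fun u v => funext fun i => by simp only [Pi.add_apply, omp_linear]
      map_smul' := fun c v => funext fun i => by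
        rcases (by decide : ∀ c : ZMod 2, c = 0 ∨ c = 1) c with rfl | rfl
        · simp only [zero_smul, RingHom.id_apply, Pi.zero_apply]
          rw [(omp_spec _ (0 : D4)).1, (omp_spec _ (0 : D4)).1]
        · simp only [one_smul, RingHom.id_apply]
      left_inv := fun v => funext fun i => by
        simp only [omp_add, Equiv.symm_apply_apply]
        rw [show phase0 k i + (-phase0 k ((p : Equiv.Perm (Fin 6)) i) + (phase0 k ((p : Equiv.Perm (Fin 6)) i) +
          -phase0 k i)) = 0 by abel]
        rfl
      right_inv := fun v => funext fun i => by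
        simp only [omp_add, Equiv.apply_symm_apply]
        rw [show phase0 k i + (-phase0 k ((p : Equiv.Perm (Fin 6)).symm i) +
          (phase0 k ((p : Equiv.Perm (Fin 6)).symm i) + -phase0 k i)) = 0 by abel]
        rfl }
  map_one' := LinearEquiv.ext fun v => funext fun i => by
    show omp (phase0 k i) (omp (-phase0 k i) (v i)) = v i
    rw [omp_add, add_neg_cancel]; rfl
  map_mul' a b := LinearEquiv.ext fun v => funext fun i => by
    show omp (phase0 k i) (omp (-phase0 k _) (v _)) =
      omp (phase0 k i) (omp (-phase0 k _) (omp (phase0 k _) (omp (-phase0 k _) (v _))))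
    simp only [omp_add]
    congr 1
    show _ = _
    simp only [Subgroup.coe_mul, Equiv.Perm.mul_def, Equiv.symm_trans_apply]
    abel

theorem twistPerm_apply (k : ZMod 3) (p : ↥(alternatingGroup (Fin 6))) (v : V6) (i : Fin 6) :
    twistPerm k p v i = omp (phase0 k i + -phase0 k ((p : Equiv.Perm (Fin 6)).symm i))
      (v ((p : Equiv.Perm (Fin 6)).symm i)) := by
  show omp _ (omp _ _) = _
  rw [omp_add]

theorem twistPerm_mem {K : Subgroup (V6 ≃ₗ[ZMod 2] V6)} (h : Model K) (k : ZMod 3)
    (p : ↥(alternatingGroup (Fin 6))) : twistPerm k p ∈ K := by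
  obtain ⟨g, hg, hgv⟩ := h.perm p p.2
  obtain ⟨d, hd, hdv⟩ := h.diag (fun i => phase0 k i + -phase0 k ((p : Equiv.Perm (Fin 6)).symm i)) (by
    rw [Finset.sum_add_distrib, Finset.sum_neg_distrib, Equiv.sum_comp _ (phase0 k), add_neg_cancel])
  convert mul_mem hd hg using 1
  refine LinearEquiv.ext fun v => funext fun i => ?_
  show _ = d (g v) i
  rw [twistPerm_apply, hdv]
  congr 1
  have := hgv v ((p : Equiv.Perm (Fin 6)).symm i)
  rwa [Equiv.apply_symm_apply, eq_comm] at this

theorem c6_comp : ∀ (k : ZMod 3) (i : Fin 6), c6 k i = omp (phase0 k i) (1, 0) := by decide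

theorem twistPerm_fix (k : ZMod 3) (p : ↥(alternatingGroup (Fin 6))) : twistPerm k p (c6 k) = c6 k :=
  funext fun i => by
    rw [twistPerm_apply, c6_comp, c6_comp, omp_add, add_assoc, neg_add_cancel, add_zero]

theorem twistPerm_injective (k : ZMod 3) : Function.Injective (twistPerm k) := by
  refine (injective_iff_map_eq_one _).2 fun p hp => Subtype.ext (Equiv.ext fun i => ?_)
  by_contra hne
  have := congrFun (LinearEquiv.congr_fun hp (Pi.single i (1, 0))) ((p : Equiv.Perm (Fin 6)) i)
  rw [twistPerm_apply, Equiv.symm_apply_apply, Pi.single_eq_same] at this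
  change omp _ _ = (Pi.single i (1, 0) : V6) ((p : Equiv.Perm (Fin 6)) i) at this
  rw [Pi.single_eq_of_ne (show (p : Equiv.Perm (Fin 6)) i ≠ i from hne)] at this
  exact ((omp_spec _ _).2 (by decide)).1 this

end CfsgLib.Sporadic.LargeFischer
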