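import Cfsg.Agent.Lib.Sporadic.LargeFischer.Pairs
import Cfsg.Agent.Lib.Sporadic.LargeFischer.Pair

/-!
# Linear involutions moving a vector by a point of the orbit of the vectors of weight four

The linear stabiliser of such a point is the extension of an elementary group of order 16 by the even
rearrangements of the coordinates adapted to it, so an involution in it fixing the point is conjugate to one of
those rearrangements, or lies in the elementary group.
-/

set_option autoImplicit false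
set_option linter.unusedSectionVars false
set_option linter.style.haveILetI false

namespace CfsgLib.Sporadic.LargeFischer

/-- The even rearrangements of the coordinates. -/
def rearr : ↥(alternatingGroup (Fin 6)) →* (V6 ≃ₗ[ZMod 2] V6) where
  toFun p := LinearEquiv.funCongrLeft (ZMod 2) D4 (p : Equiv.Perm (Fin 6)).symm
  map_one' := rfl
  map_mul' _ _ := rfl

theorem rearr_apply (p : ↥(alternatingGroup (Fin 6))) (w : V6) (i : Fin 6) :
    rearr p w i = w ((p : Equiv.Perm (Fin 6)).symm i) := rfl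

/-- A fixed point of an even involution of six letters, and a second one with product of order five. -/
theorem even_involutions : ∀ p : Equiv.Perm (Fin 6), p * p = 1 → Equiv.Perm.sign p = 1 → p ≠ 1 →
    (∃ i, p i = i) ∧ ∃ a b c d : Fin 6, (Equiv.swap a b * Equiv.swap c d) * (Equiv.swap a b * Equiv.swap c d) = 1 ∧
      p * (Equiv.swap a b * Equiv.swap c d) ≠ 1 ∧ (p * (Equiv.swap a b * Equiv.swap c d)) ^ 5 = 1 := by
  set_option maxRecDepth 100000 in decide +kernel

/-- On a group of order sixteen and exponent two acted on faithfully by the even rearrangements, every point fixed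
by an involution is a commutator with it. -/
theorem fixed_is_commutator {A : Type*} [CommGroup A] [Finite A] (hA : Nat.card A = 16) (h2 : ∀ a : A, a * a = 1)
    (φ : ↥(alternatingGroup (Fin 6)) →* MulAut A) (hφ : Function.Injective φ)
    {p : ↥(alternatingGroup (Fin 6))} (hp : p * p = 1) (hp1 : p ≠ 1) {a : A} (ha : φ p a = a) :
    ∃ f : A, f * φ p f = a := by
  classical
  let T : ↥(alternatingGroup (Fin 6)) → (A →* A) := fun k => MonoidHom.id A * (φ k).toMonoidHom
  have hker : ∀ k f, f ∈ (T k).ker ↔ φ k f = f := fun k f => by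
    show f * φ k f = 1 ↔ _
    rw [mul_eq_one_iff_eq_inv, inv_eq_of_mul_eq_one_right (h2 (φ k f)), eq_comm]
  have hran : (T p).range ≤ (T p).ker := by
    rintro _ ⟨f, rfl⟩
    rw [hker]
    show φ p (f * φ p f) = f * φ p f
    rw [map_mul, ← MulAut.mul_apply, ← map_mul, hp, map_one, MulAut.one_apply, mul_comm]
  have hmul := (T p).ker.card_mul_index
  rw [Subgroup.index_ker, hA] at hmul
  suffices hle : Nat.card (T p).ker ≤ 4 by
    have h1 : (T p).range = (T p).ker := by
      refine Subgroup.eq_of_le_of_card_ge hran ?_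
      by_contra hlt
      push Not at hlt
      nlinarith
    obtain ⟨f, hf⟩ : a ∈ (T p).range := h1 ▸ (hker p a).2 ha
    exact ⟨f, hf⟩
  by_contra hgt
  push Not at hgt
  obtain ⟨-, a₁, b₁, c₁, d₁, hr2, hy1, hy5⟩ := even_involutions p (congrArg Subtype.val hp) p.2
    fun e => hp1 (Subtype.ext e)
  set rp : Equiv.Perm (Fin 6) := Equiv.swap a₁ b₁ * Equiv.swap c₁ d₁ with hrp
  set y : Equiv.Perm (Fin 6) := (p : Equiv.Perm (Fin 6)) * rp with hy
  have hsy : Equiv.Perm.sign y = 1 := by
    have h := congrArg Equiv.Perm.sign hy5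
    rw [map_pow, Equiv.Perm.sign.map_one] at h
    revert h
    generalize Equiv.Perm.sign y = u
    rcases Int.units_eq_one_or u with rfl | rfl <;> decide
  have hsr : rp ∈ alternatingGroup (Fin 6) := by
    rw [hy, map_mul, Equiv.Perm.mem_alternatingGroup.1 p.2, one_mul] at hsy
    exact Equiv.Perm.mem_alternatingGroup.2 hsy
  set ρ : ↥(alternatingGroup (Fin 6)) := ⟨rp, hsr⟩ with hρ
  set η : ↥(alternatingGroup (Fin 6)) := p * ρ with hη
  have hη5 : η ^ 5 = 1 := Subtype.ext (by rw [SubmonoidClass.coe_pow]; exact hy5)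
  have hη1 : η ≠ 1 := fun e => hy1 (congrArg Subtype.val e)
  have hord : orderOf η = 5 := orderOf_eq_prime (hp := ⟨by norm_num⟩) hη5 hη1
  -- `ρ` is conjugate to `p`
  have hconj : p = η ^ 3 * ρ * (η ^ 3)⁻¹ := by
    have hρ2 : ρ * ρ = 1 := Subtype.ext hr2
    have hinv : ρ * η = η⁻¹ * ρ := by
      rw [hη, mul_inv_rev, inv_eq_of_mul_eq_one_right hp, inv_eq_of_mul_eq_one_right hρ2]; group
    have e1 : ∀ n : ℕ, ρ * (η ^ n)⁻¹ = η ^ n * ρ := by
      intro n
      have hc : ρ * η⁻¹ = η * ρ := by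
        rw [mul_inv_eq_iff_eq_mul, mul_assoc, hinv, mul_inv_cancel_left]
      induction n with
      | zero => simp
      | succ n ih =>
        rw [pow_succ', mul_inv_rev, ← mul_assoc, ih, mul_assoc, hc, ← mul_assoc, ← pow_succ, pow_succ']
    rw [mul_assoc, e1, ← mul_assoc, ← pow_add,
      show η ^ (3 + 3) = η by rw [show 3 + 3 = 5 + 1 from rfl, pow_succ, hη5, one_mul],
      hη, mul_assoc, hρ2, mul_one]
  have hcard : Nat.card (T ρ).ker = Nat.card (T p).ker := by
    refine Nat.card_congr ((φ (η ^ 3)).toEquiv.subtypeEquiv fun f => ?_)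
    show f ∈ (T ρ).ker ↔ φ (η ^ 3) f ∈ (T p).ker
    rw [hker, hker, hconj, map_mul, map_mul, map_inv, MulAut.mul_apply, MulAut.mul_apply, MulAut.inv_apply_self,
      (φ (η ^ 3)).apply_eq_iff_eq]
  -- the common fixed points are fixed by `η`, hence it fixes everything
  let Fy : Subgroup A := (T η).ker
  have hsub : (T p).ker ⊓ (T ρ).ker ≤ Fy := fun f hf => by
    rw [hker, hη, map_mul, MulAut.mul_apply, (hker ρ f).1 hf.2, (hker p f).1 hf.1]
  have h8 : 8 ≤ Nat.card (T p).ker := by
    have hd : Nat.card (T p).ker ∣ 16 := hA ▸ Subgroup.card_subgroup_dvd_card _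
    have := Nat.le_of_dvd (by norm_num) hd
    generalize Nat.card (T p).ker = n at hd hgt this ⊢
    interval_cases n <;> omega
  have hF4 : 4 ≤ Nat.card Fy := by
    refine le_trans ?_ (Subgroup.card_le_of_le hsub)
    have h1 := ((T p).ker ⊓ (T ρ).ker).card_mul_index
    have h2 := Subgroup.index_inf_le (H := (T p).ker) (K := (T ρ).ker)
    have h3 := (T p).ker.card_mul_index
    have h4 := (T ρ).ker.card_mul_index
    rw [hA] at h1 h3 h4
    rw [hcard] at h4
    have h5 : (T p).ker.index ≤ 2 := by nlinarith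
    have h6 : (T ρ).ker.index ≤ 2 := by nlinarith
    have h7 := h2.trans (Nat.mul_le_mul h5 h6)
    nlinarith
  have hfix : ∀ f : A, φ η f = f := by
    letI : MulAction (Subgroup.zpowers η) A :=
      MulAction.compHom A (φ.comp (Subgroup.zpowers η).subtype)
    haveI : Fact (Nat.Prime 5) := ⟨by norm_num⟩
    have hP : IsPGroup 5 (Subgroup.zpowers η) := IsPGroup.of_card (n := 1) (by
      rw [Nat.card_zpowers, hord, pow_one])
    have hmod := hP.card_modEq_card_fixedPoints A
    have hset : MulAction.fixedPoints (Subgroup.zpowers η) A = (Fy : Set A) := by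
      ext f
      refine ⟨fun hf => (hker η f).2 (hf ⟨η, Subgroup.mem_zpowers η⟩), fun hf k => ?_⟩
      have hmem : η ∈ (MulAction.stabilizer (MulAut A) f).comap φ := (hker η f).1 hf
      exact (Subgroup.zpowers_le.2 hmem k.2 :)
    rw [hset, hA] at hmod
    have hd : Nat.card Fy ∣ 16 := hA ▸ Subgroup.card_subgroup_dvd_card _
    have hle := Nat.le_of_dvd (by norm_num) hd
    have h16 : Nat.card Fy = 16 := by
      change 16 ≡ Nat.card Fy [MOD 5] at hmod
      rw [Nat.ModEq] at hmod
      generalize Nat.card Fy = n at hd hmod hF4 hle ⊢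
      interval_cases n <;> omega
    intro f
    refine (hker η f).1 ?_
    show f ∈ Fy
    rw [Subgroup.eq_top_of_card_eq Fy (h16.trans hA.symm)]
    trivial
  refine hη1 (hφ ?_)
  rw [map_one]
  exact MulEquiv.ext hfix

theorem rearr_cp (p : ↥(alternatingGroup (Fin 6))) (c : ZMod 3) (i k : Fin 6) :
    rearr p (cp c i k) = cp c ((p : Equiv.Perm (Fin 6)) i) ((p : Equiv.Perm (Fin 6)) k) := cp_perm c p i k

theorem rearr_injective : Function.Injective rearr := by
  intro p p' e
  refine Subtype.ext (Equiv.ext fun i => ?_)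
  have h1 := congrFun (LinearEquiv.congr_fun e (Pi.single i ((1, 0) : D4))) ((p : Equiv.Perm (Fin 6)) i)
  rw [rearr_apply, rearr_apply, Equiv.symm_apply_apply, Pi.single_eq_same] at h1
  by_contra hne
  rw [Pi.single_eq_of_ne fun e' => hne ((Equiv.symm_apply_eq _).1 e')] at h1
  exact absurd h1 (by decide)

theorem triangle : ∀ i k : Fin 6, i ≠ k → ∃ l, l ≠ i ∧ l ≠ k ∧
    (∃ p ∈ alternatingGroup (Fin 6), p i = i ∧ p k = l) ∧ ∃ p ∈ alternatingGroup (Fin 6), p i = l ∧ p k = k := by
  intro i k hik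
  obtain ⟨u, w, h1, h2, h3, h4, h5⟩ := exists_two i k
  obtain ⟨w', hw⟩ : ∃ w' : Fin 6, w' ≠ i ∧ w' ≠ u ∧ w' ≠ k ∧ w' ≠ w := by
    revert i k u w; decide
  exact ⟨u, h1, h2, exists_even_move i k i u k w hik h1.symm ⟨hik.symm, h2.symm, h3, h5.symm, h4.symm⟩,
    exists_even_move i k u k i w hik h2 ⟨h1.symm, hik, h5.symm, h4, h3.symm⟩⟩

theorem cp_triangle : ∀ (c : ZMod 3) (i k l : Fin 6), i ≠ k → i ≠ l → k ≠ l →
    cp c i l + cp c l k = cp c i k := by decide +kernel

variable {K : Subgroup (V6 ≃ₗ[ZMod 2] V6)}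

/-- The linear stabiliser of a vector. -/
def lStab (K : Subgroup (V6 ≃ₗ[ZMod 2] V6)) (v : V6) : Subgroup (V6 ≃ₗ[ZMod 2] V6) where
  carrier := {g | g ∈ K ∧ g v = v ∧ ∀ w, g (omV w) = omV (g w)}
  one_mem' := ⟨one_mem _, rfl, fun _ => rfl⟩
  mul_mem' := fun {a b} ha hb => ⟨mul_mem ha.1 hb.1, by show a (b v) = v; rw [hb.2.1, ha.2.1], fun w => by
    show a (b (omV w)) = omV (a (b w))
    rw [hb.2.2, ha.2.2]⟩
  inv_mem' := fun {a} ha => ⟨inv_mem ha.1, a.injective (by
    show a (a.symm v) = a v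
    rw [a.apply_symm_apply, ha.2.1]), fun w => a.injective (by
    show a (a.symm (omV w)) = a (omV (a.symm w))
    rw [a.apply_symm_apply, ha.2.2, a.apply_symm_apply])⟩

/-- The members of the linear stabiliser moving the singular subgroup along `v` only. -/
def lineTrans (K : Subgroup (V6 ≃ₗ[ZMod 2] V6)) (v : V6) (R : AddSubgroup V6) : Subgroup (V6 ≃ₗ[ZMod 2] V6) where
  carrier := {g | g ∈ lStab K v ∧ ∀ r ∈ R, g r = r ∨ g r = r + v}
  one_mem' := ⟨one_mem _, fun _ _ => Or.inl rfl⟩
  mul_mem' := fun {a b} ha hb => ⟨mul_mem ha.1 hb.1, fun r hr => by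
    show a (b r) = r ∨ a (b r) = r + v
    have hav : a v = v := ha.1.2.1
    rcases hb.2 r hr with e | e <;> rcases ha.2 r hr with e' | e' <;> rw [e]
    · exact Or.inl e'
    · exact Or.inr e'
    · exact Or.inr (by rw [map_add, e', hav])
    · exact Or.inl (by rw [map_add, e', hav, add_assoc, two_V6, add_zero])⟩
  inv_mem' := fun {a} ha => ⟨inv_mem ha.1, fun r hr => by
    have hav : a v = v := ha.1.2.1
    show a.symm r = r ∨ a.symm r = r + v
    rcases ha.2 r hr with e | e
    · exact Or.inl (a.injective (by rw [a.apply_symm_apply, e]))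
    · exact Or.inr (a.injective (by rw [a.apply_symm_apply, map_add, e, hav, add_assoc, two_V6, add_zero]))⟩

namespace Pair

variable {h : Model K} {v : V6} {R : AddSubgroup V6} {E : Subgroup (V6 ≃ₗ[ZMod 2] V6)} (P : Pair h v R E)
include P

theorem eq_one_of_fix {g : V6 ≃ₗ[ZMod 2] V6} (hg : g ∈ lStab K v) (hfix : ∀ r ∈ R, g r = r) : g = 1 := by
  have hy : ∀ u, g u + u ∈ R := fun u => P.perp fun r hr => by
    have h1 := h.bs_map hg.1 u r
    rw [hfix r hr] at h1
    rw [bs_add_left, h1, CharTwo.add_self_eq_zero]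
  refine no_transvection h P.orbit hg.1 hg.2.2 fun u => P.line_of_both (hy u) ?_
  rw [omV_add, ← hg.2.2]
  exact hy _

/-- Reduction to an element fixing the point: it cannot move a vector by the point. -/
theorem move_absurd {g : V6 ≃ₗ[ZMod 2] V6} (hg : g ∈ lineTrans K v R) {q : V6} (hq : g q = q + v)
    (hb : bs q (omV v) = 1) : False := by
  have hv0 : bs v (omV v) = 0 := by rw [bs_om_self, P.sing v P.v_mem]
  have hvr : ∀ r ∈ R, bs v (omV r) = 0 := fun r hr => by
    rw [bs_comm, bs_om_swap, P.bs_R hr P.v_mem, P.bs_R hr P.omv_mem, add_zero]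
  have h1 : g = 1 := P.eq_one_of_fix hg.1 fun r hr => by
    refine (hg.2 r hr).resolve_right fun e => ?_
    have h2 := h.bs_map hg.1.1 q (omV r)
    rw [hg.1.2.2, e, hq, omV_add, bs_add_left, bs_add, bs_add, hvr r hr, hb, hv0, add_zero, add_zero] at h2
    exact one_ne_zero (α := ZMod 2) (add_eq_left.1 h2)
  rw [h1] at hq
  exact P.v_ne (add_eq_left.1 hq.symm)

/-- An involution of the linear stabiliser cannot move a vector by the point, unless orthogonally. -/
theorem involution_line {g : V6 ≃ₗ[ZMod 2] V6} (hg : g ∈ K) (hlin : ∀ w, g (omV w) = omV (g w))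
    (hg2 : g * g = 1) {q : V6} (hq : g q = q + v) (hb : bs q (omV v) = 1) : False := by
  classical
  have hgg : ∀ w, g (g w) = w := fun w => congrArg (fun e : V6 ≃ₗ[ZMod 2] V6 => e w) hg2
  have hgv : g v = v := by
    have := hgg q
    rw [hq, map_add, hq] at this
    exact eq_of_add_zero (show g v + v = 0 by
      refine (add_eq_left (a := q)).1 ?_
      rw [add_comm (g v), ← add_assoc]
      exact this)
  haveI : Finite (V6 ≃ₗ[ZMod 2] V6) :=
    Finite.of_injective (fun e => (e : V6 → V6)) DFunLike.coe_injective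
  have hgS : g ∈ lStab K v := ⟨hg, hgv, hlin⟩
  obtain ⟨θ, hθv, hθq, hθom, hθp⟩ := exists_theta h P.orbit
  let Φ : ↥(alternatingGroup (Fin 6)) →* (V6 ≃ₗ[ZMod 2] V6) :=
    { toFun := fun p => (θ.symm.trans (rearr p)).trans θ
      map_one' := LinearEquiv.ext fun w => by
        show θ (rearr 1 (θ.symm w)) = w
        rw [map_one]
        exact θ.apply_symm_apply w
      map_mul' := fun p p' => LinearEquiv.ext fun w => by
        show θ (rearr (p * p') (θ.symm w)) = θ (rearr p (θ.symm (θ (rearr p' (θ.symm w)))))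
        rw [map_mul, θ.symm_apply_apply]
        rfl }
  have hΦθ : ∀ p w, Φ p (θ w) = θ (rearr p w) := fun p w => by
    show θ (rearr p (θ.symm (θ w))) = _
    rw [θ.symm_apply_apply]
  have hΦS : ∀ p, Φ p ∈ lStab K v := fun p => by
    obtain ⟨g', hg', hgv', hgl, hgθ⟩ := hθp p p.2
    have e : Φ p = g' := LinearEquiv.ext fun w => by
      obtain ⟨u, rfl⟩ := θ.surjective w
      rw [hΦθ, hgθ]
      rfl
    exact e ▸ ⟨hg', hgv', hgl⟩
  have hΦi : Function.Injective Φ := fun p p' e => rearr_injective (LinearEquiv.ext fun w => θ.injective (by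
    rw [← hΦθ, ← hΦθ, e]))
  have hcline : ∀ a, ∃ a', θ (cst a) = sc v a' := fun a => by
    rw [cst_eq, sc, map_add, map_smul, map_smul, hθv]
    rcases hθom with e | e <;> rw [e, hθv]
    · exact ⟨a, rfl⟩
    · exact ⟨(a.1 + a.2, a.2), by rw [omV_sq, smul_add, sc, add_smul, add_assoc]⟩
  set A := lineTrans K v R with hA
  have hconj : ∀ k ∈ lStab K v, ∀ a ∈ A, k * a * k⁻¹ ∈ A := fun k hk a ha =>
    ⟨mul_mem (mul_mem hk ha.1) (inv_mem hk), fun r hr => by
      have hr' : k.symm r ∈ R := P.inv _ (inv_mem hk.1) (inv_mem hk).2.1 r hr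
      show k (a (k.symm r)) = r ∨ k (a (k.symm r)) = r + v
      rcases ha.2 _ hr' with e | e <;> rw [e]
      · exact Or.inl (k.apply_symm_apply r)
      · exact Or.inr (by rw [map_add, k.apply_symm_apply, hk.2.1])⟩
  -- the elementary group
  have hfunc : ∀ {a a' : V6 ≃ₗ[ZMod 2] V6}, a ∈ A → a' ∈ A → (∀ r ∈ R, a r = a' r) → a = a' := fun {a a'} ha ha' e =>
    inv_mul_eq_one.1 (P.eq_one_of_fix (mul_mem (inv_mem ha.1) ha'.1) fun r hr => by
      show a.symm (a' r) = r
      rw [← e r hr, a.symm_apply_apply])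
  have hcomm : ∀ a ∈ A, ∀ b ∈ A, a * b = b * a := fun a ha b hb =>
    hfunc (mul_mem ha hb) (mul_mem hb ha) fun r hr => by
      show a (b r) = b (a r)
      have hav : a v = v := ha.1.2.1
      have hbv : b v = v := hb.1.2.1
      rcases hb.2 r hr with e | e <;> rcases ha.2 r hr with e' | e' <;> simp [e, e', hav, hbv]
  have hsq : ∀ a ∈ A, a * a = 1 := fun a ha => P.eq_one_of_fix (mul_mem ha.1 ha.1) fun r hr => by
    show a (a r) = r
    have hav : a v = v := ha.1.2.1
    rcases ha.2 r hr with e | e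
    · rw [e, e]
    · rw [e, map_add, e, hav, add_assoc, two_V6, add_zero]
  have htriv : ∀ p, Φ p ∈ A → p = 1 := by
    intro p hp
    let N : Subgroup ↥(alternatingGroup (Fin 6)) := A.comap Φ
    have hN : N.Normal := ⟨fun n hn k => by
      show Φ (k * n * k⁻¹) ∈ A
      rw [map_mul, map_mul, map_inv]
      exact hconj _ (hΦS k) _ hn⟩
    haveI : IsSimpleGroup ↥(alternatingGroup (Fin 6)) := alternatingGroup.isSimpleGroup (by simp)
    rcases hN.eq_bot_or_eq_top with e | e
    · exact Subgroup.mem_bot.1 (e ▸ (hp : p ∈ N))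
    · refine hΦi ((P.eq_one_of_fix (hΦS p) fun r hr => ?_).trans Φ.map_one.symm)
      exfalso
      have hall : ∀ k, Φ k ∈ A := fun k => (e ▸ Subgroup.mem_top k : k ∈ N)
      let s : ↥(alternatingGroup (Fin 6)) := ⟨seven 4, seven_mem 4⟩
      have h1 : s * s = 1 := hΦi (by rw [map_mul, hsq _ (hall s), map_one])
      exact absurd (congrArg Subtype.val h1) (by decide +kernel)
  -- orders
  have hSle : Nat.card (lStab K v) ≤ 5760 := by
    obtain ⟨rp, -, -, -, -, -, -, h16, -⟩ := P.exists_pairs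
    obtain ⟨e, he, hes⟩ : ∃ e ∈ E, ¬ ∀ w, e (omV w) = omV (e w) := by
      by_contra hall
      push Not at hall
      rw [show linPart E = E from le_antisymm (fun e he => he.1) fun e he => ⟨he, hall e he⟩, P.cardE] at h16
      omega
    have hcard := card_stabilizer h v
    rw [congrArg Finset.card (h.orb_eq P.orbit), h.two_orbits.2.2.1] at hcard
    have hSt : Nat.card (MulAction.stabilizer K v) = 11520 := by omega
    let f : lStab K v × Bool → MulAction.stabilizer K v := fun p =>
      if p.2 then ⟨⟨e * p.1, mul_mem (P.E_le he) p.1.2.1⟩, by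
        show e ((p.1 : V6 ≃ₗ[ZMod 2] V6) v) = v
        rw [p.1.2.2.1, P.E_fix e he]⟩ else ⟨⟨p.1, p.1.2.1⟩, p.1.2.2.1⟩
    have hf : Function.Injective f := by
      rintro ⟨a, ba⟩ ⟨b, bb⟩ e1
      have hlin' : ∀ x y : lStab K v, e * (x : V6 ≃ₗ[ZMod 2] V6) ≠ y := fun x y e2 => hes fun w => by
        rw [show e = (y : V6 ≃ₗ[ZMod 2] V6) * ((x : V6 ≃ₗ[ZMod 2] V6))⁻¹ by rw [← e2, mul_inv_cancel_right]]
        exact (mul_mem y.2 (inv_mem x.2)).2.2 w
      have e2 := congrArg (fun x : MulAction.stabilizer K v => ((x : K) : V6 ≃ₗ[ZMod 2] V6)) e1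
      cases ba <;> cases bb <;> simp only [f, Bool.false_eq_true, if_false, if_true] at e2
      · rw [Subtype.ext e2]
      · exact absurd e2.symm (hlin' b a)
      · exact absurd e2 (hlin' a b)
      · rw [Subtype.ext (mul_left_cancel e2)]
    have := Nat.card_le_card_of_injective f hf
    rw [Nat.card_prod, hSt, show Nat.card Bool = 2 by simp] at this
    omega
  let F : A × ↥(alternatingGroup (Fin 6)) → lStab K v := fun p => ⟨p.1 * Φ p.2, mul_mem p.1.2.1 (hΦS p.2)⟩
  have hFi : Function.Injective F := by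
    rintro ⟨a, p⟩ ⟨b, p'⟩ e
    have e1 : (a : V6 ≃ₗ[ZMod 2] V6) * Φ p = b * Φ p' := congrArg Subtype.val e
    have e2 : Φ (p * p'⁻¹) = (a : V6 ≃ₗ[ZMod 2] V6)⁻¹ * b := by
      rw [map_mul, map_inv, mul_inv_eq_iff_eq_mul, mul_assoc, ← e1, inv_mul_cancel_left]
    have e3 := htriv _ (e2 ▸ mul_mem (inv_mem a.2) b.2)
    rw [mul_inv_eq_one] at e3
    subst e3
    rw [Subtype.ext (mul_right_cancel e1)]
  have hA16 : Nat.card A = 16 := by
    refine le_antisymm ?_ (P.card_linPart.trans (Subgroup.card_le_of_le (show linPart E ≤ A from fun e he =>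
      ⟨⟨P.E_le he.1, P.E_fix e he.1, he.2⟩, P.E_act e he.1⟩)))
    have := (Nat.card_le_card_of_injective F hFi).trans hSle
    rw [Nat.card_prod, nat_card_alternatingGroup, Nat.card_fin] at this
    norm_num [Nat.factorial] at this
    omega
  obtain ⟨⟨a, p⟩, hap⟩ : ∃ x, F x = ⟨g, hgS⟩ := by
    refine (hFi.bijective_of_nat_card_le ?_).2 _
    rw [Nat.card_prod, hA16, nat_card_alternatingGroup, Nat.card_fin]
    norm_num [Nat.factorial]
    exact hSle
  have hag : (a : V6 ≃ₗ[ZMod 2] V6) * Φ p = g := congrArg Subtype.val hap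
  by_cases hp1 : p = 1
  · refine P.move_absurd ?_ hq hb
    rw [← hag, hp1, map_one, mul_one]
    exact a.2
  -- the action of the rearrangements
  letI : CommGroup A := { (inferInstance : Group A) with mul_comm := fun x y => Subtype.ext (hcomm _ x.2 _ y.2) }
  let φ : ↥(alternatingGroup (Fin 6)) →* MulAut A :=
    { toFun := fun k =>
        { toFun := fun x => ⟨Φ k * x * (Φ k)⁻¹, hconj _ (hΦS k) _ x.2⟩
          invFun := fun x => ⟨(Φ k)⁻¹ * x * Φ k, by
            have := hconj _ (inv_mem (hΦS k)) _ x.2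
            rwa [inv_inv] at this⟩
          left_inv := fun x => Subtype.ext (by simp [mul_assoc])
          right_inv := fun x => Subtype.ext (by simp [mul_assoc])
          map_mul' := fun x y => Subtype.ext (by simp [mul_assoc]) }
      map_one' := MulEquiv.ext fun x => Subtype.ext (by simp)
      map_mul' := fun k l => MulEquiv.ext fun x => Subtype.ext (by simp [mul_assoc]) }
  have hφ : Function.Injective φ := by
    haveI : IsSimpleGroup ↥(alternatingGroup (Fin 6)) := alternatingGroup.isSimpleGroup (by simp)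
    rcases (inferInstance : φ.ker.Normal).eq_bot_or_eq_top with e | e
    · exact (MonoidHom.ker_eq_bot_iff φ).1 e
    exfalso
    have hall : ∀ k, ∀ x ∈ A, Φ k * x * (Φ k)⁻¹ = x := fun k x hx => by
      have h1 : φ k = 1 := (e ▸ Subgroup.mem_top k : k ∈ φ.ker)
      exact congrArg Subtype.val (MulEquiv.congr_fun h1 ⟨x, hx⟩)
    have hA1 : ∀ x ∈ A, x = 1 := fun x hx => P.eq_one_of_fix hx.1 fun r hr => by
      have hxl : ∀ e', x (sc v e') = sc v e' := fun e' => by
        rw [sc, map_add, map_smul, map_smul, hx.1.2.2, hx.1.2.1]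
      obtain ⟨u, rfl⟩ := θ.surjective r
      have himg : ∀ l, θ (fun i => u (seven l i)) ∈ R := fun l => by
        obtain ⟨g', hg', hgv', -, hgθ⟩ := hθp (seven l)⁻¹ (inv_mem (seven_mem l))
        have := P.inv g' hg' hgv' _ hr
        rwa [hgθ] at this
      have hθb : ∀ u w, bs (θ u) (θ w) = bs u w := fun u w => by
        show qs _ + qs _ + qs _ = qs _ + qs _ + qs _
        rw [← map_add, hθq, hθq, hθq]
      have hperp : bs u (omV one6) = 0 := by
        obtain ⟨a', ha'⟩ := hcline (0, 1)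
        rw [← hθb, show omV one6 = cst (0, 1) by decide, ha']
        exact P.bs_R hr (P.sc_mem _)
      rcases shape u (by rw [← hθq]; exact P.sing _ hr) (by rw [← hθb, hθv]; exact P.bs_R hr P.v_mem) hperp
        (fun l => by rw [← hθb]; exact P.bs_R hr (himg l)) with ⟨a', rfl⟩ | ⟨c, i, k, a', hik, rfl⟩
      · obtain ⟨a'', ha''⟩ := hcline a'
        rw [ha'', hxl]
      · obtain ⟨a'', ha''⟩ := hcline a'
        rw [map_add, ha''] at hr ⊢
        have hcR : θ (cp c i k) ∈ R := by
          have := add_mem hr (P.sc_mem a'')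
          rwa [add_assoc, two_V6, add_zero] at this
        rw [map_add, hxl]
        congr 1
        -- the value is constant on the pairs and additive on a triangle
        obtain ⟨l, hli, hlk, ⟨p₁, hp₁, e11, e12⟩, ⟨p₂, hp₂, e21, e22⟩⟩ := triangle i k hik
        have hval : ∀ (p : Equiv.Perm (Fin 6)) (hp : p ∈ alternatingGroup (Fin 6)),
            x (θ (cp c (p i) (p k))) + θ (cp c (p i) (p k)) = x (θ (cp c i k)) + θ (cp c i k) := by
          intro p hp
          have e1 := hall ⟨p, hp⟩ x hx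
          rw [mul_inv_eq_iff_eq_mul] at e1
          have e2 : Φ ⟨p, hp⟩ (x (θ (cp c i k))) = x (θ (cp c (p i) (p k))) := by
            rw [← rearr_cp ⟨p, hp⟩, ← hΦθ]
            exact congrArg (fun f : V6 ≃ₗ[ZMod 2] V6 => f (θ (cp c i k))) e1
          have hpv : Φ ⟨p, hp⟩ v = v := (hΦS _).2.1
          have e3 : Φ ⟨p, hp⟩ (θ (cp c i k)) = θ (cp c (p i) (p k)) := by rw [hΦθ, rearr_cp]
          rw [← e2]
          rcases hx.2 _ hcR with e4 | e4 <;> rw [e4]
          · rw [e3, two_V6, two_V6]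
          · rw [map_add, e3, hpv, add_comm _ v, add_assoc, two_V6, add_comm _ v, add_assoc, two_V6]
        have h1 := hval p₁ hp₁
        have h2 := hval p₂ hp₂
        rw [e11, e12] at h1
        rw [e21, e22] at h2
        have h3 := congrArg₂ (· + ·) h1 h2
        rw [add_add_add_comm, ← map_add, ← map_add, cp_triangle c i k l hik hli.symm hlk.symm, two_V6] at h3
        exact eq_of_add_zero h3
    have := Subgroup.eq_bot_iff_forall A |>.2 hA1
    rw [this, Subgroup.card_bot] at hA16
    omega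
  -- conjugate to a rearrangement
  have hgA : ∀ k, Φ k * Φ k⁻¹ = 1 := fun k => by rw [← map_mul, mul_inv_cancel, map_one]
  have hpp : p * p = 1 := by
    refine htriv _ ?_
    have e1 : Φ (p * p) = ((a : V6 ≃ₗ[ZMod 2] V6) * (Φ p * a * (Φ p)⁻¹))⁻¹ := by
      rw [eq_inv_iff_mul_eq_one, map_mul]
      have hc := hcomm _ a.2 _ (hconj _ (hΦS p) _ a.2)
      rw [← hag] at hg2
      have : (a : V6 ≃ₗ[ZMod 2] V6) * (Φ p * a * (Φ p)⁻¹) * (Φ p * Φ p) = 1 := by
        rw [← hg2]; group
      exact mul_eq_one_comm.1 this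
    rw [e1]
    exact inv_mem (mul_mem a.2 (hconj _ (hΦS p) _ a.2))
  have hfixa : φ p a = a := by
    refine Subtype.ext ?_
    show Φ p * a * (Φ p)⁻¹ = a
    have hΦ2 : Φ p * Φ p = 1 := by rw [← map_mul, hpp, map_one]
    have e1 : (a : V6 ≃ₗ[ZMod 2] V6) * (Φ p * a * (Φ p)⁻¹) = 1 := by
      rw [← hag] at hg2
      calc _ = (a : V6 ≃ₗ[ZMod 2] V6) * (Φ p * a * (Φ p)⁻¹) * (Φ p * Φ p) := by rw [hΦ2, mul_one]
        _ = 1 := by rw [← hg2]; group
    exact mul_left_cancel (e1.trans (hsq _ a.2).symm)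
  obtain ⟨f, hf⟩ := fixed_is_commutator hA16 (fun x => Subtype.ext (hsq _ x.2)) φ hφ hpp hp1 hfixa
  have hf' : (f : V6 ≃ₗ[ZMod 2] V6) * (Φ p * f * (Φ p)⁻¹) = a := congrArg Subtype.val hf
  have hgf : g = f * Φ p * f := by rw [← hag, ← hf']; group
  have hfv : (f : V6 ≃ₗ[ZMod 2] V6) v = v := f.2.1.2.1
  have hmove : Φ p ((f : V6 ≃ₗ[ZMod 2] V6) q) = (f : V6 ≃ₗ[ZMod 2] V6) q + v := by
    have e1 : (f : V6 ≃ₗ[ZMod 2] V6) (g q) = Φ p ((f : V6 ≃ₗ[ZMod 2] V6) q) := by
      rw [hgf]
      exact congrArg (fun e : V6 ≃ₗ[ZMod 2] V6 => e (Φ p ((f : V6 ≃ₗ[ZMod 2] V6) q))) (hsq _ f.2)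
    rw [← e1, hq, map_add, hfv]
  obtain ⟨u, hu⟩ := θ.surjective ((f : V6 ≃ₗ[ZMod 2] V6) q)
  rw [← hu, hΦθ, ← hθv, ← map_add] at hmove
  obtain ⟨i, hi⟩ := (even_involutions p (congrArg Subtype.val hpp) p.2 fun e => hp1 (Subtype.ext e)).1
  have := congrFun (θ.injective hmove) i
  rw [rearr_apply, (Equiv.symm_apply_eq _).2 hi.symm] at this
  have h1 := add_eq_left.1 this.symm
  revert h1
  fin_cases i <;> decide

end Pair

end CfsgLib.Sporadic.LargeFischer
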