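import Cfsg.Agent.Lib.Sporadic.LargeFischer.Coordinates

/-!
# The coordinates put the group into the model
-/

set_option autoImplicit false
set_option linter.unusedSectionVars false

namespace CfsgLib.Sporadic.LargeFischer

open Twisted (Add3)

theorem sum_zero_card :
    Nat.card {a : Fin 6 → ZMod 3 // ∑ i, a i = 0} = 243 := by
  rw [Nat.card_eq_fintype_card]
  decide +kernel

theorem nzd_om : ∀ d, nzd (om d) = nzd d := by decide

/-- The components of `V6`. -/
def comp6 (i : Fin 6) (d : D4) : V6 := Pi.single i d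

namespace Cfg

variable {Γ : Type*} [Group Γ] [Finite Γ] {P : Type} [Group P] {A B : Subgroup P} {M : Subgroup Γ} {x : M}
  {π : M →* P} {ρ : Γ →* (W12 ≃ₗ[ZMod 2] W12)} {q : W12 → ZMod 2} (h : Cfg Γ A B M x π ρ q)
include h

/-- The polar form. -/
def bf (_h : Cfg Γ A B M x π ρ q) (u v : W12) : ZMod 2 := q (u + v) + q u + q v

theorem bf_comm (u v : W12) : h.bf u v = h.bf v u := by
  show q (u + v) + q u + q v = q (v + u) + q v + q u
  rw [add_comm u v]; abel

theorem bf_add (u v w : W12) : h.bf u (v + w) = h.bf u v + h.bf u w := h.badd u v w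

theorem bf_add_left (u v w : W12) : h.bf (u + v) w = h.bf u w + h.bf v w := by
  rw [h.bf_comm, h.bf_add, h.bf_comm w u, h.bf_comm w v]

theorem bf_zero (u : W12) : h.bf u 0 = 0 := by
  have := h.bf_add u 0 0
  rw [add_zero] at this
  exact left_eq_add.1 this

theorem bf_sum {ι : Type*} (s : Finset ι) (u : W12) (f : ι → W12) :
    h.bf u (∑ i ∈ s, f i) = ∑ i ∈ s, h.bf u (f i) := by
  induction s using Finset.cons_induction with
  | empty => rw [Finset.sum_empty, Finset.sum_empty, h.bf_zero]
  | cons a s ha ih => rw [Finset.sum_cons, Finset.sum_cons, h.bf_add, ih]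

theorem bf_rho (g : Γ) (u v : W12) : h.bf (ρ g u) (ρ g v) = h.bf u v := by
  show q (ρ g u + ρ g v) + q (ρ g u) + q (ρ g v) = _
  rw [← map_add, h.pres, h.pres, h.pres]
  rfl

theorem q_pair (u v : W12) : q (u + v) = q u + q v + h.bf u v := by
  show q (u + v) = q u + q v + (q (u + v) + q u + q v)
  generalize q (u + v) = a
  generalize q u = b
  generalize q v = c
  revert a b c; decide

theorem exists_model : ∃ Φ : V6 ≃ₗ[ZMod 2] W12, (∀ v, q (Φ v) = qs v) ∧
    ∃ ψ : Γ →* (V6 ≃ₗ[ZMod 2] V6), Function.Injective ψ ∧ (∀ g v, Φ (ψ g v) = ρ g (Φ v)) ∧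
      (∀ v i, ψ (x : Γ) v i = om (v i)) ∧ Model ψ.range := by
  classical
  haveI := Fintype.ofFinite ↥(A.comap π)
  obtain ⟨χ, hinj, hχ, h4, hw, hperm, htrans, hmove⟩ := h.exists_weights
  set S := h.single with hS
  have hmem : ∀ i, χ i ∈ S.weights := fun i => (hw _).2 ⟨i, rfl⟩
  choose e he0 he using fun i => S.mem_weights.1 (hmem i)
  have hbω : ∀ (j : ZMod 3) u v, h.bf (S.pw j u) (S.pw j v) = h.bf u v := by
    intro j u v
    have h1 : ∀ u v, h.bf (S.ω u) (S.ω v) = h.bf u v := fun u v => h.bf_rho _ u v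
    rcases Twisted.zmod3_cases j with rfl | rfl | rfl
    · rfl
    · exact h1 u v
    · rw [Twisted.pw_two, Twisted.pw_two, h1, h1]
  -- weight spaces are orthogonal
  have horth : ∀ i j, i ≠ j → ∀ u v, S.Eig (χ i) u → S.Eig (χ j) v → h.bf u v = 0 := by
    intro i j hij u v hu hv
    obtain ⟨t, ht⟩ := Function.ne_iff.1 fun e' => hij (hinj e')
    have key : ∀ z, S.Eig (χ j) z → h.bf u (S.pw (χ j t - χ i t) z) = h.bf u z := by
      intro z hz
      have e1 : h.bf (S.σ t u) (S.σ t z) = h.bf u z := h.bf_rho _ u z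
      rw [hu t, hz t] at e1
      rw [← hbω (χ i t) u, ← S.pw_add, add_sub_cancel]
      exact e1
    have hd : χ j t - χ i t ≠ 0 := fun e' => ht (sub_eq_zero.1 e').symm
    generalize χ j t - χ i t = d at key hd
    have hsum : ∀ z, z + S.pw d z = S.pw (d + d) z := by
      intro z
      have hs := S.sum_pw z
      have h2 := S.two
      rcases Twisted.zmod3_cases d with rfl | rfl | rfl
      · exact absurd rfl hd
      · rw [show (1 : ZMod 3) + 1 = 2 from rfl, Twisted.pw_one, Twisted.pw_two]
        calc z + S.ω z = (z + S.ω z + S.ω (S.ω z)) + S.ω (S.ω z) := by rw [add_assoc (z + S.ω z), h2, add_zero]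
          _ = _ := by rw [hs, zero_add]
      · rw [show (2 : ZMod 3) + 2 = 1 from rfl, Twisted.pw_one, Twisted.pw_two]
        calc z + S.ω (S.ω z) = (z + S.ω z + S.ω (S.ω z)) + S.ω z := by
              rw [show z + S.ω z + S.ω (S.ω z) + S.ω z = z + S.ω (S.ω z) + (S.ω z + S.ω z) by abel, h2, add_zero]
          _ = _ := by rw [hs, zero_add]
    have hz := S.eig_pw hv (-(d + d))
    have e2 : h.bf u (S.pw (-(d + d)) v + S.pw d (S.pw (-(d + d)) v)) = 0 := by
      rw [h.bf_add, key _ hz, CharTwo.add_self_eq_zero]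
    rwa [hsum, ← S.pw_add, add_neg_cancel, Twisted.pw_zero] at e2
  -- the coordinate map
  let emb : Fin 6 → D4 →+ W12 := fun i => AddMonoidHom.mk' (fun d => d.1.val • e i + d.2.val • S.ω (e i))
    fun a b => by
      have h2 : ∀ (u v : ZMod 2) (z : W12), (u + v).val • z = u.val • z + v.val • z := by
        intro u v z
        have hc : ∀ w : ZMod 2, w = 0 ∨ w = 1 := by decide
        have h2 := S.two z
        rcases hc u with rfl | rfl <;> rcases hc v with rfl | rfl <;>
          simp [show ((1 : ZMod 2) + 1) = 0 from rfl, h2]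
      simp only [Prod.fst_add, Prod.snd_add, h2]
      abel
  have hembv : ∀ i a b, emb i (a, b) = a.val • e i + b.val • S.ω (e i) := fun _ _ _ => rfl
  have hembeig : ∀ i d, S.Eig (χ i) (emb i d) := by
    rintro i ⟨a, b⟩
    rw [hembv]
    have hω : S.Eig (χ i) (S.ω (e i)) := S.eig_pw (he i) 1
    have hc : ∀ w : ZMod 2, w = 0 ∨ w = 1 := by decide
    rcases hc a with rfl | rfl <;> rcases hc b with rfl | rfl <;> simp only [ZMod.val_zero, ZMod.val_one, zero_nsmul,
      one_nsmul, zero_add, add_zero]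
    exacts [S.eig_zero _, hω, he i, S.eig_add (he i) hω]
  have hembω : ∀ i d, emb i (om d) = S.ω (emb i d) := by
    rintro i ⟨a, b⟩
    rw [show om (a, b) = (b, a + b) from rfl, hembv, hembv, map_add, map_nsmul, map_nsmul]
    have hs := S.sum_pw (e i)
    have hc : ∀ w : ZMod 2, w = 0 ∨ w = 1 := by decide
    rcases hc a with rfl | rfl <;> rcases hc b with rfl | rfl
    all_goals simp [show ((1 : ZMod 2) + 1) = 0 from rfl]
    all_goals
      have h2 := S.two
      have hω2 : e i + S.ω (e i) = S.ω (S.ω (e i)) := by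
        calc e i + S.ω (e i) = (e i + S.ω (e i) + S.ω (S.ω (e i))) + S.ω (S.ω (e i)) := by
              rw [add_assoc (e i + S.ω (e i)), h2, add_zero]
          _ = _ := by rw [hs, zero_add]
      first
        | exact hω2
        | exact hω2.symm
        | (rw [← hω2, add_left_comm, h2, add_zero])
        | (rw [← hω2, add_comm (e i), ← add_assoc, h2, zero_add])
  have hembinj : ∀ i, Function.Injective (emb i) := by
    intro i
    refine (injective_iff_map_eq_zero (emb i)).2 ?_
    rintro ⟨a, b⟩ h0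
    rw [hembv] at h0
    have hc : ∀ w : ZMod 2, w = 0 ∨ w = 1 := by decide
    rcases hc a with rfl | rfl <;> rcases hc b with rfl | rfl <;>
      simp only [ZMod.val_zero, ZMod.val_one, zero_nsmul, one_nsmul, zero_add, add_zero] at h0
    · rfl
    · have := congrArg S.ω (congrArg S.ω h0)
      rw [S.ω_cube, map_zero, map_zero] at this
      exact absurd this (he0 i)
    · exact absurd h0 (he0 i)
    · have h1 := S.sum_pw (e i)
      rw [h0, zero_add] at h1
      have := congrArg S.ω h1
      rw [S.ω_cube, map_zero] at this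
      exact absurd this (he0 i)
  let L : V6 →+ W12 := AddMonoidHom.mk' (fun v => ∑ i, emb i (v i)) fun a b => by
    simp [Finset.sum_add_distrib]
  have hcomp : ∀ (v : V6) j, S.proj (χ j) (L v) = emb j (v j) := by
    intro v j
    show S.proj (χ j) (∑ i, emb i (v i)) = _
    rw [map_sum, Finset.sum_eq_single j]
    · rw [S.proj_of_eig (hχ j).2 (hχ j).2 (hembeig j _), if_pos rfl]
    · intro i _ hne
      rw [S.proj_of_eig (hχ j).2 (hχ i).2 (hembeig i _), if_neg fun e' => hne (hinj e').symm]
    · simp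
  have hLinj : Function.Injective L := fun a b e' => funext fun j => hembinj j (by rw [← hcomp, ← hcomp, e'])
  let Φ : V6 ≃ₗ[ZMod 2] W12 := LinearEquiv.ofBijective (L.toZModLinearMap 2)
    ⟨hLinj, (Fintype.bijective_iff_injective_and_card _).2 ⟨hLinj, by simp⟩ |>.2⟩
  have hΦ : ∀ v, Φ v = ∑ i, emb i (v i) := fun v => rfl
  -- the quadratic form
  have hΦsingle : ∀ i d, Φ (Pi.single i d) = emb i d := fun i d => by
    rw [hΦ, Finset.sum_eq_single i]
    · rw [Pi.single_eq_same]
    · intro j _ hne; rw [Pi.single_eq_of_ne hne, map_zero]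
    · simp
  have hqω : ∀ z, q (S.ω z) = q z := fun z => h.pres _ z
  have hqe : ∀ i, q (e i) = 1 := by
    intro i
    have hc : ∀ w : ZMod 2, w = 0 ∨ w = 1 := by decide
    refine (hc _).resolve_left fun h0 => he0 i (h.nondeg _ fun v => ?_)
    have hb : h.bf (e i) (S.ω (e i)) = 0 := by
      have hsum : e i + S.ω (e i) = S.ω (S.ω (e i)) := by
        have hs := S.sum_pw (e i)
        calc e i + S.ω (e i) = (e i + S.ω (e i) + S.ω (S.ω (e i))) + S.ω (S.ω (e i)) := by
              rw [add_assoc (e i + S.ω (e i)), S.two, add_zero]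
          _ = _ := by rw [hs, zero_add]
      show q (e i + S.ω (e i)) + q (e i) + q (S.ω (e i)) = 0
      rw [hsum, hqω, hqω, h0]; rfl
    have hbself : h.bf (e i) (e i) = 0 := by
      show q (e i + e i) + q (e i) + q (e i) = 0
      rw [S.two, h.q_zero, h0]; rfl
    obtain ⟨w, rfl⟩ := Φ.surjective v
    show h.bf (e i) (Φ w) = 0
    rw [hΦ, h.bf_sum]
    refine Finset.sum_eq_zero fun j _ => ?_
    by_cases hij : i = j
    · subst hij
      generalize hd : w i = d
      obtain ⟨a, b⟩ := d
      rw [hembv]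
      rcases hc a with rfl | rfl <;> rcases hc b with rfl | rfl <;>
        simp only [ZMod.val_zero, ZMod.val_one, zero_nsmul, one_nsmul, zero_add, add_zero, h.bf_zero, h.bf_add, hb,
          hbself]
    · exact horth i j hij _ _ (he i) (hembeig j _)
  have hq : ∀ v, q (Φ v) = qs v := by
    intro v
    rw [hΦ]
    have key : ∀ s : Finset (Fin 6), q (∑ i ∈ s, emb i (v i)) = ∑ i ∈ s, nzd (v i) := by
      intro s
      induction s using Finset.cons_induction with
      | empty => rw [Finset.sum_empty, Finset.sum_empty, h.q_zero]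
      | cons a s ha ih =>
        have hz : h.bf (emb a (v a)) (∑ b ∈ s, emb b (v b)) = 0 := by
          rw [h.bf_sum]
          exact Finset.sum_eq_zero fun b hb =>
            horth a b (fun e' => ha (e' ▸ hb)) _ _ (hembeig a _) (hembeig b _)
        rw [Finset.sum_cons, Finset.sum_cons, h.q_pair, ih, hz, add_zero]
        · congr 1
          have h4' : ∀ d : D4, d = 0 ∨ d = (1, 0) ∨ d = om (1, 0) ∨ d = om (om (1, 0)) := by decide
          rcases h4' (v a) with r | r | r | r <;> rw [r]
          · rw [map_zero, h.q_zero]; rfl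
          all_goals try simp only [hembω, hqω, nzd_om]
          all_goals rw [hembv, ZMod.val_one, ZMod.val_zero, one_nsmul, zero_nsmul, add_zero, hqe]; rfl
    exact key Finset.univ
  -- the homomorphism
  let ψ : Γ →* (V6 ≃ₗ[ZMod 2] V6) :=
    { toFun := fun g => (Φ.trans (ρ g)).trans Φ.symm
      map_one' := LinearEquiv.ext fun v => by simp
      map_mul' := fun a b => LinearEquiv.ext fun v => by simp }
  have hψΦ : ∀ g v, Φ (ψ g v) = ρ g (Φ v) := fun g v => Φ.apply_symm_apply _
  have hψinj : Function.Injective ψ := fun a b e' => h.inj (LinearEquiv.ext fun w => by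
    obtain ⟨v, rfl⟩ := Φ.surjective w
    rw [← hψΦ, ← hψΦ, e'])
  have hembp : ∀ i (j : ZMod 3) d, emb i (omp j d) = S.pw j (emb i d) := by
    intro i j d
    rcases Twisted.zmod3_cases j with rfl | rfl | rfl
    · rfl
    · exact hembω i d
    · show emb i (om (om d)) = _; rw [hembω, hembω]; rfl
  have hdiagT : ∀ (t : A.comap π) v i, ψ ((t : M) : Γ) v i = omp (χ i t) (v i) := by
    intro t v i
    have hfun : ψ ((t : M) : Γ) v = fun i => omp (χ i t) (v i) := Φ.injective (by
      rw [hψΦ, hΦ, hΦ, map_sum]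
      refine Finset.sum_congr rfl fun j _ => ?_
      rw [hembp]
      exact hembeig j (v j) t)
    rw [hfun]
  -- the permutations of the six weights
  have hex : ∀ m, ∀ i, ∃ j, h.act3 m (χ i) = χ j := hperm
  choose pm hpm using hex
  let φ : B.comap π →* Equiv.Perm (Fin 6) :=
    { toFun := fun m =>
        { toFun := pm m
          invFun := pm m⁻¹
          left_inv := fun i => hinj (by rw [← hpm, ← hpm, map_inv]; simp)
          right_inv := fun i => hinj (by rw [← hpm, ← hpm, map_inv]; simp) }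
      map_one' := Equiv.ext fun i => hinj (by
        show χ (pm 1 i) = χ i
        rw [← hpm, map_one]; rfl)
      map_mul' := fun a b => Equiv.ext fun i => hinj (by
        show χ (pm (a * b) i) = χ (pm a (pm b i))
        rw [← hpm, ← hpm, ← hpm, map_mul]; rfl) }
  have hφx : φ ⟨x, h.mem_big_x⟩ = 1 := Equiv.ext fun i => hinj (by
    show χ (pm _ i) = χ i
    rw [← hpm, h.act3_x]; rfl)
  have hφ : φ.range = alternatingGroup (Fin 6) := by
    have hnt : ∃ m, φ m ≠ 1 := by
      obtain ⟨m, hm⟩ := hmove 0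
      exact ⟨m, fun e' => hm (by rw [hpm, show pm m 0 = 0 from Equiv.congr_fun e' 0])⟩
    have hle : 360 ≤ Nat.card φ.range := by
      by_contra hlt
      obtain ⟨m, hm⟩ := hnt
      have := h.big_hom φ.rangeRestrict (Subtype.ext hφx) (by omega) m
      exact hm (congrArg Subtype.val this)
    have hcard := φ.range.card_mul_index
    rw [Nat.card_eq_fintype_card (α := Equiv.Perm (Fin 6)), Fintype.card_perm, Fintype.card_fin,
      show Nat.factorial 6 = 720 from rfl] at hcard
    have hidx : φ.range.index ≠ 1 := by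
      intro e1
      rw [Subgroup.index_eq_one] at e1
      have hs : Function.Surjective φ := MonoidHom.range_eq_top.1 e1
      obtain ⟨m, hm⟩ := hs (Equiv.swap 0 1)
      have := h.big_hom (Equiv.Perm.sign.comp φ) (by rw [MonoidHom.comp_apply, hφx, map_one])
        (by rw [Nat.card_eq_fintype_card, Fintype.card_units_int]; norm_num) m
      rw [MonoidHom.comp_apply, hm, Equiv.Perm.sign_swap (by decide)] at this
      exact absurd this (by decide)
    refine Equiv.Perm.eq_alternatingGroup_of_index_eq_two ?_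
    have h0 : φ.range.index ≠ 0 := Subgroup.index_ne_zero_of_finite
    have h2 : φ.range.index ≤ 2 := by nlinarith [Nat.pos_of_ne_zero h0]
    omega
  -- monomial action of the normalising group
  have hmon : ∀ (m : B.comap π) i, ∃ c : ZMod 3, ρ ((m : M) : Γ) (e i) = S.pw c (e (φ m i)) := by
    intro m i
    have heig : S.Eig (χ (φ m i)) (ρ ((m : M) : Γ) (e i)) := by
      show S.Eig (χ (pm m i)) _
      rw [← hpm]; exact h.single_act m (he i)
    set k := φ m i
    have hbij : Function.Surjective fun d : D4 => (⟨emb k d, hembeig k d⟩ : {w : W12 // S.Eig (χ k) w}) := by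
      have hi : Function.Injective fun d : D4 => (⟨emb k d, hembeig k d⟩ : {w : W12 // S.Eig (χ k) w}) :=
        fun a b e' => hembinj k (congrArg Subtype.val e')
      haveI := Fintype.ofFinite {w : W12 // S.Eig (χ k) w}
      exact ((Fintype.bijective_iff_injective_and_card _).2 ⟨hi, by
        rw [← Nat.card_eq_fintype_card (α := {w : W12 // S.Eig (χ k) w}), h4]; rfl⟩).2
    obtain ⟨d, hd⟩ := hbij ⟨_, heig⟩
    have hd' : emb k d = ρ ((m : M) : Γ) (e i) := congrArg Subtype.val hd
    have h4' : ∀ d : D4, d = 0 ∨ ∃ c : ZMod 3, d = omp c (1, 0) := by decide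
    rcases h4' d with rfl | ⟨c, rfl⟩
    · rw [map_zero] at hd'
      exact absurd ((ρ _).map_eq_zero_iff.1 hd'.symm) (he0 i)
    · refine ⟨c, ?_⟩
      rw [← hd', hembp, hembv, ZMod.val_one, ZMod.val_zero, one_nsmul, zero_nsmul, add_zero]
  choose c hc using hmon
  have hrω : ∀ (m : M) z, ρ (m : Γ) (S.ω z) = S.ω (ρ (m : Γ) z) := fun m z => by
    show ρ (m : Γ) (ρ (x : Γ) z) = ρ (x : Γ) (ρ (m : Γ) z)
    rw [← h.rho_mul, ← h.rho_mul, h.x_central]
  have hrpw : ∀ (m : M) j z, ρ (m : Γ) (S.pw j z) = S.pw j (ρ (m : Γ) z) := fun m j z => by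
    rcases Twisted.zmod3_cases j with rfl | rfl | rfl <;>
      simp only [Twisted.pw_zero, Twisted.pw_one, Twisted.pw_two, hrω]
  let κ : B.comap π →* Multiplicative (ZMod 3) := MonoidHom.mk' (fun m => Multiplicative.ofAdd (∑ i, c m i))
    fun a b => by
      rw [← ofAdd_add]
      congr 1
      have hab : ∀ i, c (a * b) i = c b i + c a (φ b i) := fun i => by
        refine S.pw_injective (he0 (φ (a * b) i)) ?_
        rw [← hc, Subgroup.coe_mul, h.rho_mul, hc b i, hrpw, hc, ← S.pw_add]
        rw [map_mul]; rfl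
      simp only [hab, Finset.sum_add_distrib]
      rw [Equiv.sum_comp (φ b) (fun k => c a k), add_comm]
  have hκx : κ ⟨x, h.mem_big_x⟩ = 1 := by
    show Multiplicative.ofAdd (∑ i, c _ i) = 1
    have : ∀ i, c ⟨x, h.mem_big_x⟩ i = 1 := fun i => by
      refine S.pw_injective (he0 i) ?_
      have e1 := hc ⟨x, h.mem_big_x⟩ i
      rw [hφx] at e1
      exact e1.symm
    simp only [this, Finset.sum_const, Finset.card_univ, Fintype.card_fin]
    rfl
  have hκ : ∀ m, ∑ i, c m i = 0 := fun m => by
    have := h.big_hom κ hκx (by rw [Nat.card_eq_fintype_card]; decide) m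
    exact Multiplicative.ofAdd.injective this
  -- diagonal elements
  have hsum : ∀ t : A.comap π, ∑ i, χ i t = 0 := by
    have hz : (fun t => ∑ i, χ i t) = 0 := by
      refine h.fixed_zero (fun t u => ?_) (fun m => funext fun t => ?_) ?_
      · simp only [(hχ _).2 t u, Finset.sum_add_distrib]
      · show ∑ i, h.act3 m (χ i) t = _
        simp only [hpm]
        exact Equiv.sum_comp (φ m) (fun k => χ k t)
      · simp only [(hχ _).1, Finset.sum_const, Finset.card_univ, Fintype.card_fin]; rfl
    exact congrFun hz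
  have hdiag : ∀ a : Fin 6 → ZMod 3, ∑ i, a i = 0 → ∃ t : A.comap π, ∀ i, χ i t = a i := by
    let f : A.comap π → {a : Fin 6 → ZMod 3 // ∑ i, a i = 0} := fun t => ⟨fun i => χ i t, hsum t⟩
    have hf : Function.Injective f := by
      intro t u e'
      refine Subtype.ext (Subtype.ext (hψinj (LinearEquiv.ext fun v => funext fun i => ?_)))
      rw [hdiagT, hdiagT, show χ i t = χ i u from congrFun (congrArg Subtype.val e') i]
    intro a ha
    have hb := (Fintype.bijective_iff_injective_and_card f).2 ⟨hf, by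
      rw [← Nat.card_eq_fintype_card, ← Nat.card_eq_fintype_card, h.card_torus, sum_zero_card]⟩
    obtain ⟨t, ht⟩ := hb.2 ⟨a, ha⟩
    exact ⟨t, fun i => congrFun (congrArg Subtype.val ht) i⟩
  refine ⟨Φ, hq, ψ, hψinj, hψΦ, fun v i => ?_, ?_⟩
  · have := hdiagT h.xT v i
    rw [(hχ i).1] at this
    exact this
  have hxv : ∀ v, ψ (x : Γ) v = omV v := fun v => funext fun i => by
    have := hdiagT h.xT v i
    rw [(hχ i).1] at this
    exact this
  refine ⟨?_, ?_, ?_, ?_, ?_⟩
  · rintro _ ⟨g, rfl⟩ v
    rw [← hq, ← hq, hψΦ, h.pres]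
  · intro a ha
    obtain ⟨t, ht⟩ := hdiag a ha
    exact ⟨_, ⟨_, rfl⟩, fun v i => by rw [hdiagT, ht]⟩
  · intro p hp
    rw [← hφ] at hp
    obtain ⟨m, rfl⟩ := hp
    obtain ⟨t, ht⟩ := hdiag (fun j => -c m ((φ m).symm j)) (by
      rw [Finset.sum_neg_distrib, Equiv.sum_comp (φ m).symm (fun k => c m k), hκ, neg_zero])
    refine ⟨ψ (((t : M) * m : M) : Γ), ⟨_, rfl⟩, fun v => ?_⟩
    have hfun : ψ (((t : M) * m : M) : Γ) v = fun j => v ((φ m).symm j) := Φ.injective (by
      rw [hψΦ, hΦ, hΦ, map_sum]
      refine Fintype.sum_equiv (φ m) _ _ fun i => ?_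
      rw [Equiv.symm_apply_apply]
      generalize v i = d
      have h4' : ∀ d : D4, d = 0 ∨ ∃ c : ZMod 3, d = omp c (1, 0) := by decide
      rcases h4' d with rfl | ⟨j, rfl⟩
      · rw [map_zero, map_zero, map_zero]
      · have h1 : ∀ k, emb k (1, 0) = e k := fun k => by
          rw [hembv, ZMod.val_one, ZMod.val_zero, one_nsmul, zero_nsmul, add_zero]
        rw [hembp, hembp, h1, h1, hrpw, h.rho_mul, hc]
        have := (he (φ m i)) t
        have e3 : ρ ((t : M) : Γ) (S.pw (c m i) (e (φ m i))) = S.pw (c m i) (ρ ((t : M) : Γ) (e (φ m i))) :=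
          hrpw _ _ _
        rw [e3]
        show S.pw j (S.pw (c m i) (S.σ t (e (φ m i)))) = _
        rw [this, ht, Equiv.symm_apply_apply, ← S.pw_add (c m i), add_neg_cancel, Twisted.pw_zero])
    intro i
    rw [hfun]
    show v ((φ m).symm ((φ m) i)) = v i
    rw [Equiv.symm_apply_apply]
  · rintro _ ⟨g, rfl⟩
    rcases h.normX g with e1 | e1
    · refine Or.inl fun v => ?_
      have e2 : g * (x : Γ) = (x : Γ) * g := mul_inv_eq_iff_eq_mul.1 e1
      rw [← hxv, ← hxv, ← LinearEquiv.mul_apply, ← map_mul, e2, map_mul, LinearEquiv.mul_apply]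
    · refine Or.inr fun v => ?_
      have e2 : g * (x : Γ) = (x : Γ) * (x : Γ) * g := by
        rw [mul_inv_eq_iff_eq_mul.1 e1]
        have h3 : (x : Γ) * x * x = 1 := by
          have := congrArg Subtype.val h.x_cube
          rwa [pow_succ, pow_two] at this
        congr 1
        exact inv_eq_of_mul_eq_one_left h3
      rw [← hxv v, ← hxv (ψ g v), ← hxv, ← LinearEquiv.mul_apply, ← map_mul, e2, map_mul, map_mul,
        LinearEquiv.mul_apply, LinearEquiv.mul_apply]
  · rw [← Nat.card_congr (MonoidHom.ofInjective hψinj).toEquiv, h.card_Γ]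

end Cfg

end CfsgLib.Sporadic.LargeFischer
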