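import Cfsg.Agent.Lib.Sporadic.LargeFischer.OuterLift
import Cfsg.Agent.Lib.Sporadic.LargeFischer.DoubleFi22
import Cfsg.Agent.Lib.Fusion.ThompsonTransfer

/-!
# Groups of large Fischer type: the centraliser of an involution of `Q` not conjugate to `z`
-/

set_option autoImplicit false
set_option linter.style.haveILetI false
set_option linter.unusedSectionVars false

namespace CfsgLib.Sporadic.LargeFischer

open CfsgLib.Sporadic.U62Centralizer
open CfsgLib.Sporadic.CosetCert CfsgLib.Sporadic.CosetCert.FiP CfsgLib.Sporadic.CosetCert.FiP.OutFi22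

/-- In a double cover of `PSU₆(2)` the central involution is no square. -/
theorem no_square_root {X : Type*} [Group X] [Finite X] (hX : Cfsg.IsQuasisimple X) (K : Type) [Field K]
    [Fintype K] (hK : Fintype.card K = 4) (f : X →* Cfsg.PSU 6 K 2) (hf : Function.Surjective f) (t t' : X)
    (htt : t * t = 1) (htt' : t' * t' = 1) (ht : t ≠ 1) (hne : t ≠ t') (hc : ∀ x, x * t' = t' * x)
    (hct : ∀ x, x * t = t * x) (hker : ∀ x, f x = 1 ↔ x = 1 ∨ x = t ∨ x = t' ∨ x = t * t') (m : X) :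
    m * m ≠ t := by
  classical
  intro hm
  haveI : (Subgroup.zpowers t').Normal := ⟨fun n hn x => by
    obtain ⟨i, rfl⟩ := hn
    rw [((show Commute x t' from hc x).zpow_right i).eq, mul_inv_cancel_right]
    exact ⟨i, rfl⟩⟩
  set N := Subgroup.zpowers t' with hN
  have hmk : ∀ a b : X, (QuotientGroup.mk a : X ⧸ N) = QuotientGroup.mk b ↔ b = a ∨ b = a * t' := fun a b => by
    rw [QuotientGroup.eq, hN, mem_zpowers_two htt', inv_mul_eq_iff_eq_mul, inv_mul_eq_iff_eq_mul, mul_one]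
  let e : Shrink.{0} (X ⧸ N) ≃* X ⧸ N := Shrink.mulEquiv
  haveI : Finite (Shrink.{0} (X ⧸ N)) := Finite.of_equiv _ e.symm.toEquiv
  let ψ := Schur.PSUSixTwo.psuEquiv (FiniteField.ringEquivOfCardEq (K := Schur.PSUSixTwo.F4) (K' := K)
    (FieldFour.card_eq.trans hK.symm))
  have hle : N ≤ f.ker := fun x hx => by
    rw [MonoidHom.mem_ker, hker]
    rcases (mem_zpowers_two htt' x).1 hx with h | h
    · exact Or.inl h
    · exact Or.inr (Or.inr (Or.inl h))
  let f₀ : Shrink.{0} (X ⧸ N) →* Schur.PSUSixTwo.G :=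
    (ψ.symm.toMonoidHom.comp (QuotientGroup.lift N f hle)).comp e.toMonoidHom
  haveI := hX.1
  have hperf : commutator (Shrink.{0} (X ⧸ N)) = ⊤ :=
    Group.isPerfect_def.1 (Group.IsPerfect.ofSurjective (f := e.symm.toMonoidHom.comp (QuotientGroup.mk' N))
      (e.symm.surjective.comp (QuotientGroup.mk'_surjective N)))
  set d : Shrink.{0} (X ⧸ N) := e.symm (QuotientGroup.mk t) with hd
  have hd1 : d ≠ 1 := fun h => by
    have h1 := (hmk 1 t).1 ((QuotientGroup.mk_one N).trans (e.symm.map_eq_one_iff.1 h).symm)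
    rw [one_mul] at h1
    exact h1.elim ht hne
  obtain ⟨φ, hφ⟩ := U62Centralizer.exists_iso hperf d hd1
    (by rw [hd, ← map_mul, ← QuotientGroup.mk_mul, htt, QuotientGroup.mk_one, map_one])
    (fun c => by
      obtain ⟨x, hx⟩ := QuotientGroup.mk_surjective (e c)
      refine e.injective ?_
      rw [map_mul, map_mul, hd, e.apply_symm_apply, ← hx, ← QuotientGroup.mk_mul, ← QuotientGroup.mk_mul, hct])
    f₀ (fun y => by
      obtain ⟨x, hx⟩ := hf (ψ y)
      refine ⟨e.symm (QuotientGroup.mk x), ?_⟩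
      show ψ.symm (QuotientGroup.lift N f hle (e (e.symm (QuotientGroup.mk x)))) = y
      rw [e.apply_symm_apply, QuotientGroup.lift_mk, hx, ψ.symm_apply_apply])
    (by
      show ψ.symm (QuotientGroup.lift N f hle (e (e.symm (QuotientGroup.mk t)))) = 1
      rw [e.apply_symm_apply, QuotientGroup.lift_mk, (hker t).2 (Or.inr (Or.inl rfl)), map_one])
    (fun c hc' => by
      obtain ⟨x, hx⟩ := QuotientGroup.mk_surjective (e c)
      have h1 : ψ.symm (QuotientGroup.lift N f hle (e c)) = 1 := hc'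
      rw [← hx, QuotientGroup.lift_mk, MulEquiv.map_eq_one_iff, hker] at h1
      rw [← e.symm_apply_apply c, ← hx, hd]
      have hN1 : (QuotientGroup.mk t' : X ⧸ N) = 1 := (QuotientGroup.eq_one_iff t').2 (Subgroup.mem_zpowers t')
      rcases h1 with rfl | rfl | rfl | rfl
      · left; rw [QuotientGroup.mk_one, map_one]
      · right; rfl
      · left; rw [hN1, map_one]
      · right; rw [QuotientGroup.mk_mul, hN1, mul_one])
  refine tr_not_square (h := φ (e.symm (QuotientGroup.mk m))) ?_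
  have h2 : φ (e.symm (QuotientGroup.mk m)) * φ (e.symm (QuotientGroup.mk m)) = Schur.PSUSixTwo.invol := by
    rw [← map_mul, ← map_mul, ← QuotientGroup.mk_mul, hm, ← hd, hφ]
  exact (congrArg Subtype.val h2).trans invol_coe

namespace LF

variable {G : Type*} [Group G] [Finite G] {z : G} {Q : Subgroup (Subgroup.centralizer ({z} : Set G))} [Q.Normal]
  {π : G → V6} {ψ : ↥(Subgroup.centralizer ({z} : Set G)) →* (V6 ≃ₗ[ZMod 2] V6)} (h : LF z (qImg Q) π ψ)
include h

/-- The centraliser of an involution of `Q` outside the class of `z`, given that of the four-group of its lifts. -/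
theorem involution_centralizer {g : G} (hu : g * z * g⁻¹ ∈ qImg Q) (hne : g * z * g⁻¹ ≠ z) {t t' : G}
    (ht : t ∈ qImg Q) (ht' : t' ∈ qImg Q) (htt : t * t = 1) (htt' : t' * t' = 1)
    (hv : π t ∈ h.model.orb c2) (hπ : π t' = omV (π t)) (hnc : ¬ IsConj z t)
    (hX : Cfsg.IsQuasisimple ↥(Subgroup.centralizer ({t, t'} : Set G)))
    (F : Type) [Field F] [Fintype F] (hF : Fintype.card F = 4)
    (f : ↥(Subgroup.centralizer ({t, t'} : Set G)) →* Cfsg.PSU 6 F 2) (hf : Function.Surjective f)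
    (hker : ∀ x : ↥(Subgroup.centralizer ({t, t'} : Set G)), f x = 1 ↔
      (x : G) = 1 ∨ (x : G) = t ∨ (x : G) = t' ∨ (x : G) = t * t')
    [hn : ((Subgroup.zpowers t).subgroupOf (Subgroup.centralizer ({t} : Set G))).Normal] :
    Cfsg.IsQuasisimple ↥(Cfsg.generalizedFittingSubgroup ↥(Subgroup.centralizer ({t} : Set G))) ∧
    (Cfsg.generalizedFittingSubgroup ↥(Subgroup.centralizer ({t} : Set G))).index = 2 ∧
    (∃ htc : t ∈ Subgroup.centralizer ({t} : Set G), (⟨t, htc⟩ : ↥(Subgroup.centralizer ({t} : Set G))) ∈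
      Cfsg.generalizedFittingSubgroup ↥(Subgroup.centralizer ({t} : Set G))) ∧
    Nonempty (↥(Subgroup.centralizer ({t} : Set G)) ⧸
      (Subgroup.zpowers t).subgroupOf (Subgroup.centralizer ({t} : Set G)) ≃* MulAut Cfsg.Spor.Fi22) := by
  classical
  haveI : Fact (Nat.Prime 2) := ⟨Nat.prime_two⟩
  set v := π t with hvdef
  have hq : qs v = 0 := (h.model.qs_zero_of_orb hv).trans c2_facts.1
  have hv0 : v ≠ 0 := h.model.ne_zero_of_orb c2_facts.2.2.1 hv
  have ht1 : t ≠ 1 := fun e => hv0 (by rw [hvdef, e, h.π_one])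
  have htz : t ≠ z := fun e => hnc (e ▸ IsConj.refl z)
  have hωv : omV v ≠ 0 := fun e => hv0 (omV_inj (e.trans omV_zero.symm))
  have hωv' : omV v ≠ v := fun e => hv0 (funext fun i => (omV_om (v i)).2.2 (congrFun e i))
  have ht'1 : t' ≠ 1 := fun e => hωv (by rw [← hπ, e, h.π_one])
  have ht't : t' ≠ t := fun e => hωv' (by rw [← hπ, e])
  have hztt : t * z = z * t := h.cent_z ht
  have hzt' : t' * z = z * t' := h.cent_z ht'
  have hcomm : t * t' = t' * t := h.commute_of_bs ht ht' (by rw [hπ, ← hvdef, bs_om_self, hq])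
  have hzz : z * z = 1 := h.extra.z_sq
  have hz1 : z ≠ 1 := h.extra.z_ne
  -- the images of the second lift
  have four : ∀ c : G, c * z = z * c → c * t = t * c →
      c * t' * c⁻¹ = t' ∨ c * t' * c⁻¹ = t' * z ∨ c * t' * c⁻¹ = t * t' ∨ c * t' * c⁻¹ = t * t' * z := by
    intro c hcz hct
    set cc : ↥(Subgroup.centralizer ({z} : Set G)) := ⟨c, Subgroup.mem_centralizer_singleton_iff.2 hcz⟩
    have hfix : ψ cc v = v := by
      rw [hvdef, ← h.act cc t ht]
      show π (c * t * c⁻¹) = π t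
      rw [hct, mul_inv_cancel_right]
    obtain ⟨hm, he⟩ := h.π_conj cc ht'
    rw [hπ] at he
    rcases h.model.scal _ ⟨cc, rfl⟩ with e | e <;> rw [e, hfix] at he
    · rcases (h.π_eq_iff ht' hm).1 (hπ.trans he.symm) with e' | e'
      · exact Or.inl e'
      · exact Or.inr (Or.inl e')
    · have e0 : π (t * t') = omV (omV v) := by rw [h.π_mul t ht t' ht', hπ, omV_sq]
      rcases (h.π_eq_iff (mul_mem ht ht') hm).1 (e0.trans he.symm) with e' | e'
      · exact Or.inr (Or.inr (Or.inl e'))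
      · exact Or.inr (Or.inr (Or.inr e'))
  obtain ⟨k₀, hk₀z, hk₀t, hk₀2, hk₀t'⟩ := h.exists_outer_element hu hne ht ht' htt htt' hv hπ
  -- the group `C(t)`
  set T := Subgroup.centralizer ({t} : Set G) with hT
  have hTmem : ∀ {x : G}, x ∈ T ↔ x * t = t * x := fun {x} => Subgroup.mem_centralizer_singleton_iff
  set tT : ↥T := ⟨t, hTmem.2 rfl⟩
  set tT' : ↥T := ⟨t', hTmem.2 hcomm.symm⟩
  set zT : ↥T := ⟨z, hTmem.2 hztt.symm⟩
  set kT : ↥T := ⟨k₀, hTmem.2 hk₀t⟩ with hkT
  have hcT : ∀ c : ↥T, c * tT = tT * c := fun c => Subtype.ext (hTmem.1 c.2)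
  set N := (Subgroup.zpowers t).subgroupOf T with hN
  have hNmem : ∀ x : ↥T, x ∈ N ↔ x = 1 ∨ x = tT := fun x => by
    rw [hN, Subgroup.mem_subgroupOf, mem_zpowers_two htt]
    exact ⟨Or.imp (fun e => Subtype.ext e) (fun e => Subtype.ext e),
      Or.imp (fun e => congrArg Subtype.val e) (fun e => congrArg Subtype.val e)⟩
  set H' := Subgroup.centralizer ({zT} : Set ↥T) with hH'
  have hH'mem : ∀ {x : ↥T}, x ∈ H' ↔ (x : G) * z = z * x := fun {x} =>
    Subgroup.mem_centralizer_singleton_iff.trans ⟨fun e => congrArg Subtype.val e, fun e => Subtype.ext e⟩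
  -- a Sylow subgroup
  set kH : ↥H' := ⟨kT, hH'mem.2 hk₀z⟩ with hkH
  have hk4 : IsPGroup 2 (Subgroup.zpowers kH) := by
    rintro ⟨x, i, rfl⟩
    refine ⟨2, Subtype.ext ?_⟩
    show (kH ^ i) ^ (2 ^ 2) = 1
    rw [← zpow_natCast, ← zpow_mul, mul_comm, zpow_mul, zpow_natCast,
      show kH ^ (2 ^ 2) = 1 from Subtype.ext (Subtype.ext (by
        show k₀ ^ (2 ^ 2) = 1
        rw [show (2 : ℕ) ^ 2 = 2 * 2 from rfl, pow_mul k₀ 2 2, pow_two k₀, hk₀2, pow_two, htt])), one_zpow]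
  obtain ⟨S, hkS⟩ := hk4.exists_le_sylow
  set Q₁ : Subgroup ↥H' := ((qImg Q).comap T.subtype).subgroupOf H' with hQ₁
  haveI hQ₁n : Q₁.Normal := ⟨fun a ha b => by
    show ((b : ↥T) : G) * ((a : ↥T) : G) * ((b : ↥T) : G)⁻¹ ∈ qImg Q
    exact h.norm _ (hH'mem.1 b.2) _ ha⟩
  have hQ₁p : IsPGroup 2 Q₁ := by
    have hp : IsPGroup 2 ↥(qImg Q) := IsPGroup.of_card (n := 13) (by rw [h.card_Q]; norm_num)
    exact hp.of_injective (((T.subtype.comp H'.subtype).comp Q₁.subtype).codRestrict (qImg Q) fun x => x.2)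
      fun a b e => Subtype.ext (Subtype.ext (Subtype.ext (congrArg Subtype.val e :)))
  have hQS : Q₁ ≤ (S : Subgroup ↥H') :=
    le_sup_right.trans (S.is_maximal' (S.isPGroup'.to_sup_of_normal_right hQ₁p) le_sup_left).le
  set S' := (S : Subgroup ↥H').map H'.subtype with hS'
  obtain ⟨P, hSP⟩ := (show IsPGroup 2 S' from S.isPGroup'.map _).exists_le_sylow
  have hPH : ∀ x ∈ (P : Subgroup ↥T), x ∈ H' → x ∈ S' := by
    intro x hx hxH
    have h1 := S.is_maximal' (Q := (P : Subgroup ↥T).subgroupOf H')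
      (P.isPGroup'.comap_of_injective H'.subtype H'.subtype_injective) fun y hy => hSP ⟨y, hy, rfl⟩
    exact ⟨⟨x, hxH⟩, h1 ▸ (hx : (⟨x, hxH⟩ : ↥H') ∈ (P : Subgroup ↥T).subgroupOf H'), rfl⟩
  have hSH : ∀ {x : ↥T}, x ∈ S' → (x : G) * z = z * x := by
    rintro _ ⟨y, -, rfl⟩; exact hH'mem.1 y.2
  have hQS' : ∀ a : ↥T, (a : G) ∈ qImg Q → a ∈ S' := fun a ha =>
    ⟨⟨a, hH'mem.2 (h.cent_z ha)⟩, hQS ha, rfl⟩
  have hPS : (P : Subgroup ↥T) = S' := by
    refine le_antisymm ?_ hSP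
    by_contra hle
    haveI : Group.IsNilpotent ↥(P : Subgroup ↥T) := P.isPGroup'.isNilpotent
    have hlt : S'.subgroupOf (P : Subgroup ↥T) < ⊤ := lt_top_iff_ne_top.2 fun e => hle (Subgroup.subgroupOf_eq_top.1 e)
    obtain ⟨⟨n, hnP⟩, hnN, hnS⟩ := SetLike.exists_of_lt (Group.normalizerCondition_of_isNilpotent _ hlt)
    refine hnS (Subgroup.mem_subgroupOf.2 (hPH n hnP (hH'mem.2 ?_)))
    have hnorm : ∀ a ∈ S', n⁻¹ * a * n ∈ S' := fun a ha =>
      (Subgroup.mem_normalizer_iff''.1 hnN ⟨a, hSP ha⟩).1 ha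
    have hnorm' : n * zT * n⁻¹ ∈ S' :=
      (Subgroup.mem_normalizer_iff.1 hnN ⟨zT, hSP (hQS' zT h.extra.z_mem)⟩).1 (hQS' zT h.extra.z_mem)
    set y : G := (n : G) * z * (n : G)⁻¹ with hy
    have hyz : y * z = z * y := hSH hnorm'
    set yc : ↥(Subgroup.centralizer ({z} : Set G)) := ⟨y, Subgroup.mem_centralizer_singleton_iff.2 hyz⟩
    have hyq : ∀ q ∈ qImg Q, q * t = t * q → y * q = q * y := by
      intro q hq hqt
      have h1 : (n : G)⁻¹ * q * n * z = z * ((n : G)⁻¹ * q * n) := hSH (hnorm ⟨q, hTmem.2 hqt⟩ (hQS' _ hq))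
      calc y * q = (n : G) * (z * ((n : G)⁻¹ * q * n)) * (n : G)⁻¹ := by rw [hy]; group
        _ = q * y := by rw [← h1, hy]; group
    have hyQ : y ∈ qImg Q := (h.ker yc).1 (h.model.eq_one_of_fix_perp ⟨yc, rfl⟩ hv0 hq fun w hw => by
      obtain ⟨q, hq', hπq⟩ := h.π_surj w
      rw [← hπq, ← h.act yc q hq']
      show π (y * q * y⁻¹) = π q
      rw [hyq q hq' (h.commute_of_bs hq' ht (by rw [hπq]; exact hw)), mul_inv_cancel_right])
    have hy0 : π y = 0 ∨ π y = v := eq_zero_or_of_perp hv0 fun w hw => by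
      obtain ⟨q, hq', hπq⟩ := h.π_surj w
      rw [← hπq]
      exact h.bs_of_commute hyQ hq' (hyq q hq' (h.commute_of_bs hq' ht (by rw [hπq]; exact hw)))
    have hnt : (n : G) * t = t * n := hTmem.1 n.2
    have hyconj : IsConj z y := isConj_iff.2 ⟨n, rfl⟩
    have hyz' : y = z := by
      rcases hy0 with e | e
      · refine ((h.π_ker y hyQ).1 e).resolve_left fun e1 => hz1 ?_
        exact conj_eq_one_iff.1 e1
      · exfalso
        rcases (h.π_eq_iff ht hyQ).1 e.symm with e1 | e1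
        · exact hnc (e1 ▸ hyconj)
        · obtain ⟨q, hq', hqe⟩ := h.extra.exists_conj_eq ht ht1 htz
          exact hnc (hyconj.trans (e1 ▸ (isConj_iff.2 ⟨q, hqe⟩).symm))
    exact mul_inv_eq_iff_eq_mul.1 hyz'
  -- the subgroup for the transfer
  have hdis : t * t' ≠ t' ∧ t * t' ≠ t * t' * z ∧ t' * z ≠ t' ∧ t' * z ≠ t * t' * z :=
    ⟨fun e => ht1 (mul_eq_right.1 e), fun e => hz1 (left_eq_mul.1 e), fun e => hz1 (mul_eq_left.1 e),
      fun e => ht1 (mul_eq_right.1 (mul_right_cancel e).symm)⟩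
  have hmove : ∀ a : G, a * z = z * a → a * t = t * a → ∀ b : G,
      a * (t * b * z) * a⁻¹ = t * (a * b * a⁻¹) * z := fun a haz hat b => by
    calc a * (t * b * z) * a⁻¹ = (a * t) * b * (z * a⁻¹) := by group
      _ = (t * a) * b * (a⁻¹ * z) := by rw [hat, ((show Commute a z from haz).inv_left.eq).symm]
      _ = _ := by group
  have hback : t * (t * t' * z) * z = t' := by
    rw [show t * (t * t' * z) * z = (t * t) * t' * (z * z) by group, htt, hzz, one_mul, mul_one]
  let M : Subgroup ↥T :=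
    { carrier := {c | c ∈ S' ∧ ((c : G) * t' * (c : G)⁻¹ = t' ∨ (c : G) * t' * (c : G)⁻¹ = t * t' * z)}
      one_mem' := ⟨one_mem _, Or.inl (by simp)⟩
      mul_mem' := fun {a b} ha hb => ⟨mul_mem ha.1 hb.1, by
        have e : ((a * b : ↥T) : G) * t' * ((a * b : ↥T) : G)⁻¹ =
            (a : G) * ((b : G) * t' * (b : G)⁻¹) * (a : G)⁻¹ := by
          show (a : G) * b * t' * ((a : G) * b)⁻¹ = _
          group
        rw [e]
        rcases hb.2 with e' | e' <;> rw [e']
        · exact ha.2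
        · rw [hmove a (hSH ha.1) (hTmem.1 a.2)]
          rcases ha.2 with e'' | e'' <;> rw [e'']
          · exact Or.inr rfl
          · exact Or.inl hback⟩
      inv_mem' := fun {a} ha => ⟨inv_mem ha.1, by
        show (a : G)⁻¹ * t' * (a : G)⁻¹⁻¹ = t' ∨ (a : G)⁻¹ * t' * (a : G)⁻¹⁻¹ = t * t' * z
        rcases ha.2 with e | e
        · left
          conv_lhs => rw [← e]
          group
        · right
          have h1 := hmove (a : G)⁻¹ ((show Commute (a : G) z from hSH ha.1).inv_left.eq)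
            ((show Commute (a : G) t from hTmem.1 a.2).inv_left.eq) t'
          rw [← e, show (a : G)⁻¹ * ((a : G) * t' * (a : G)⁻¹) * (a : G)⁻¹⁻¹ = t' by group] at h1
          calc (a : G)⁻¹ * t' * (a : G)⁻¹⁻¹ =
              (t * t) * ((a : G)⁻¹ * t' * (a : G)⁻¹⁻¹) * (z * z) := by rw [htt, hzz, one_mul, mul_one]
            _ = t * (t * ((a : G)⁻¹ * t' * (a : G)⁻¹⁻¹) * z) * z := by group
            _ = t * t' * z := by rw [← h1]⟩ }
  have hkS' : kT ∈ S' := ⟨kH, hkS (Subgroup.mem_zpowers _), rfl⟩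
  have hparity : ∀ s ∈ S', ¬ (s ∈ M ∧ s * kT ∈ M) ∧ (s ∈ M ∨ s * kT ∈ M) := by
    intro s hs
    have e : ((s * kT : ↥T) : G) * t' * ((s * kT : ↥T) : G)⁻¹ = t * ((s : G) * t' * (s : G)⁻¹) := by
      show (s : G) * k₀ * t' * ((s : G) * k₀)⁻¹ = _
      calc (s : G) * k₀ * t' * ((s : G) * k₀)⁻¹ = (s : G) * (k₀ * t' * k₀⁻¹) * (s : G)⁻¹ := by group
        _ = (s : G) * t * t' * (s : G)⁻¹ := by rw [hk₀t']; group
        _ = _ := by rw [hTmem.1 s.2]; group
    have hmem : ∀ c : ↥T, c ∈ M ↔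
        c ∈ S' ∧ ((c : G) * t' * (c : G)⁻¹ = t' ∨ (c : G) * t' * (c : G)⁻¹ = t * t' * z) := fun c => Iff.rfl
    have e1 : t * (t * t') = t' := by rw [← mul_assoc, htt, one_mul]
    have e2 : t * (t * t' * z) = t' * z := by rw [← mul_assoc, e1]
    rw [hmem, hmem, e]
    rcases four s (hSH hs) (hTmem.1 s.2) with e3 | e3 | e3 | e3 <;> rw [e3]
    · exact ⟨fun hh => hh.2.2.elim hdis.1 hdis.2.1, Or.inl ⟨hs, Or.inl rfl⟩⟩
    · exact ⟨fun hh => hh.1.2.elim hdis.2.2.1 hdis.2.2.2,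
        Or.inr ⟨mul_mem hs hkS', Or.inr (mul_assoc t t' z).symm⟩⟩
    · exact ⟨fun hh => hh.1.2.elim hdis.1 hdis.2.1, Or.inr ⟨mul_mem hs hkS', Or.inl e1⟩⟩
    · rw [e2]
      exact ⟨fun hh => hh.2.2.elim hdis.2.2.1 hdis.2.2.2, Or.inl ⟨hs, Or.inr rfl⟩⟩
  have hkM : kT ∉ M := fun hk => (hparity 1 (one_mem _)).1 ⟨one_mem _, by rwa [one_mul]⟩
  have htM : tT ∈ M := ⟨hQS' tT ht, Or.inl (by show t * t' * t⁻¹ = t'; rw [hcomm, mul_inv_cancel_right])⟩
  set mk := QuotientGroup.mk' N with hmkdef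
  have hmk : ∀ a b : ↥T, mk a = mk b ↔ b = a ∨ b = a * tT := fun a b => by
    rw [hmkdef, QuotientGroup.mk'_apply, QuotientGroup.mk'_apply, QuotientGroup.eq, hNmem,
      inv_mul_eq_iff_eq_mul, inv_mul_eq_iff_eq_mul, mul_one]
  set Mb := M.map mk with hMb
  have hMbmem : ∀ s : ↥T, mk s ∈ Mb ↔ s ∈ M := fun s => by
    refine ⟨?_, fun hs => ⟨s, hs, rfl⟩⟩
    rintro ⟨m, hm, e⟩
    rcases (hmk _ _).1 e with rfl | rfl
    · exact hm
    · exact mul_mem hm htM
  let PW : Sylow 2 (↥T ⧸ N) := P.mapSurjective (QuotientGroup.mk'_surjective N)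
  have hPW : (PW : Subgroup (↥T ⧸ N)) = S'.map mk := by rw [← hPS]; rfl
  have hrel : Mb.relIndex (PW : Subgroup (↥T ⧸ N)) = 2 := by
    rw [Subgroup.relIndex, Subgroup.index_eq_two_iff]
    refine ⟨⟨mk kT, hPW ▸ ⟨kT, hkS', rfl⟩⟩, fun b => ?_⟩
    obtain ⟨s, hs, hse⟩ : (b : ↥T ⧸ N) ∈ S'.map mk := hPW ▸ b.2
    simp only [Subgroup.mem_subgroupOf, Subgroup.coe_mul]
    rw [← hse, ← map_mul, hMbmem, hMbmem]
    obtain ⟨h1, h2⟩ := hparity s hs
    by_cases hsM : s ∈ M
    · exact Or.inr ⟨hsM, fun hh => h1 ⟨hsM, hh⟩⟩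
    · exact Or.inl ⟨h2.resolve_left hsM, hsM⟩
  have hker' : ∀ {x : G}, x ∈ Subgroup.centralizer ({t, t'} : Set G) ↔ x * t = t * x ∧ x * t' = t' * x :=
    fun {x} => Subgroup.mem_centralizer_iff.trans
      ⟨fun hx => ⟨(hx t (by simp)).symm, (hx t' (by simp)).symm⟩, fun hx y hy => by
        rcases hy with rfl | rfl
        · exact hx.1.symm
        · exact hx.2.symm⟩
  rcases CfsgLib.Fusion.ThompsonTransfer.thompson_transfer PW Mb
    (by rw [hPW]; exact Subgroup.map_mono fun x hx => hx.1) hrel (mk kT)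
    (by rw [← map_pow, ← map_one mk, hmk]; exact Or.inr (by
      rw [pow_two]; exact Subtype.ext (by show 1 = k₀ * k₀ * t; rw [hk₀2, htt])))
    (hPW ▸ ⟨kT, hkS', rfl⟩) (fun hk => hkM ((hMbmem kT).1 hk)) with ⟨MW, hMWn, hMWi, hMWk⟩ | ⟨w, hw⟩
  swap
  · exfalso
    obtain ⟨c, rfl⟩ := QuotientGroup.mk'_surjective N w
    obtain ⟨m, hm, hme⟩ := hw
    rw [← map_inv, ← map_mul, ← map_mul] at hme
    have hmm : (m : G) * m = t := by
      have e0 : (c * kT * c⁻¹) * (c * kT * c⁻¹) = tT := by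
        rw [show c * kT * c⁻¹ * (c * kT * c⁻¹) = c * (kT * kT) * c⁻¹ by group,
          show kT * kT = tT from Subtype.ext hk₀2, hcT, mul_inv_cancel_right]
      have e1 : m * m = tT := by
        rcases (hmk _ _).1 hme with e | e
        · rw [← e]; exact e0
        · have e' : m = c * kT * c⁻¹ * tT := by
            rw [e, mul_assoc, show tT * tT = 1 from Subtype.ext htt, mul_one]
          rw [e', show c * kT * c⁻¹ * tT * (c * kT * c⁻¹ * tT) = c * kT * c⁻¹ * (tT * (c * kT * c⁻¹)) * tT by group,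
            ← hcT, ← mul_assoc, e0, show tT * tT = 1 from Subtype.ext htt, one_mul]
      exact congrArg Subtype.val e1
    have hmz : (m : G) * z = z * m := hSH hm.1
    have hmt : (m : G) * t = t * m := hTmem.1 m.2
    rcases hm.2 with e | e
    · have hmX : (m : G) ∈ Subgroup.centralizer ({t, t'} : Set G) := hker'.2 ⟨hmt, mul_inv_eq_iff_eq_mul.1 e⟩
      refine no_square_root hX F hF f hf ⟨t, hker'.2 ⟨rfl, hcomm⟩⟩ ⟨t', hker'.2 ⟨hcomm.symm, rfl⟩⟩
        (Subtype.ext htt) (Subtype.ext htt') (fun e => ht1 (congrArg Subtype.val e))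
        (fun e => ht't (congrArg Subtype.val e).symm) (fun x => Subtype.ext (hker'.1 x.2).2)
        (fun x => Subtype.ext (hker'.1 x.2).1) (fun x => ?_) ⟨m, hmX⟩ (Subtype.ext hmm)
      rw [hker]
      simp only [Subtype.ext_iff, Subgroup.coe_one, Subgroup.coe_mul]
    · set mc : ↥(Subgroup.centralizer ({z} : Set G)) := ⟨(m : G) * t', Subgroup.mem_centralizer_singleton_iff.2
        ((show Commute (m : G) z from hmz).mul_left hzt').eq⟩
      refine h.no_semilinear_square hu hne (c := mc) ((h.model.scal _ ⟨mc, rfl⟩).resolve_left fun hl => hv0 ?_) ?_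
      · have hmem1 : ψ mc v = v := by
          rw [hvdef, ← h.act mc t ht]
          show π ((m : G) * t' * t * ((m : G) * t')⁻¹) = π t
          rw [show (m : G) * t' * t * ((m : G) * t')⁻¹ = t by
            rw [mul_assoc (m : G) t' t, ← hcomm, ← mul_assoc, hmt]; group]
        have h1 : ψ mc (omV v) = omV (omV v) := by
          rw [← hπ, ← h.act mc t' ht']
          show π ((m : G) * t' * t' * ((m : G) * t')⁻¹) = _
          rw [show (m : G) * t' * t' * ((m : G) * t')⁻¹ = (m : G) * t' * (m : G)⁻¹ by group, e,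
            h.π_mul _ (mul_mem ht ht') z h.extra.z_mem, h.π_z, add_zero, h.π_mul t ht t' ht', hπ, omV_sq]
        rw [hl, hmem1, omV_sq] at h1
        exact add_eq_right.1 h1.symm
      · show (m : G) * t' * ((m : G) * t') = z
        calc (m : G) * t' * ((m : G) * t') = ((m : G) * t' * (m : G)⁻¹) * ((m : G) * m) * t' := by group
          _ = t * t' * z * t * t' := by rw [e, hmm]
          _ = t * (t' * (z * t)) * t' := by group
          _ = t * ((t' * t) * z) * t' := by rw [← hztt]; group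
          _ = (t * t) * t' * (z * t') := by rw [← hcomm]; group
          _ = z := by rw [htt, one_mul, ← hzt', ← mul_assoc, htt', one_mul]
  -- the subgroup of index two
  haveI := hMWn
  set K₀ := MW.comap mk with hK₀
  have hidx : K₀.index = 2 := (MW.index_comap_of_surjective (QuotientGroup.mk'_surjective N)).trans hMWi
  have htK : tT ∈ K₀ := by
    show mk tT ∈ MW
    rw [show mk tT = 1 from (QuotientGroup.eq_one_iff tT).2 ((hNmem tT).2 (Or.inr rfl))]
    exact one_mem _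
  -- fusion
  obtain ⟨w, hwv, hwω⟩ : ∃ w, bs w v = 0 ∧ bs w (omV v) = 1 := by
    by_contra hno
    push Not at hno
    rcases eq_zero_or_of_perp hv0 (a := omV v) (fun w hw => by
      rw [bs_comm]; exact (z2 _).resolve_right (hno w hw)) with e | e
    · exact hωv e
    · exact hωv' e
  obtain ⟨q, hqQ, hπq⟩ := h.π_surj w
  have hqt : q * t = t * q := h.commute_of_bs hqQ ht (by rw [hπq]; exact hwv)
  have hqt' : q * t' * q⁻¹ = t' * z := by
    have e1 := h.swap ht' hqQ
    rw [show bs (π t') (π q) = 1 by rw [hπ, hπq, bs_comm]; exact hwω, zp_one] at e1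
    rw [e1, mul_assoc t' q z, h.cent_z hqQ, ← mul_assoc, mul_inv_cancel_right]
  set qT : ↥T := ⟨q, hTmem.2 hqt⟩
  have hfus : ∃ g ∈ K₀, Commute (g * tT' * g⁻¹) tT' ∧ g * tT' * g⁻¹ ≠ tT' ∧ g * tT' * g⁻¹ ≠ tT * tT' := by
    by_cases hqK : qT ∈ K₀
    · refine ⟨qT, hqK, ?_, fun e => hdis.2.2.1 ?_, fun e => ?_⟩
      · refine Subtype.ext ?_
        show q * t' * q⁻¹ * t' = t' * (q * t' * q⁻¹)
        rw [hqt', mul_assoc, ← hzt']
      · exact hqt'.symm.trans (congrArg Subtype.val e)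
      · have e' : t' * z = t * t' := hqt'.symm.trans (congrArg Subtype.val e)
        rw [hcomm, mul_right_inj] at e'
        exact htz e'.symm
    · have hqk : qT * kT ∈ K₀ := (Subgroup.mul_mem_iff_of_index_two hidx).2 (iff_of_false hqK hMWk)
      have e0 : ((qT * kT : ↥T) : G) * t' * ((qT * kT : ↥T) : G)⁻¹ = t * (t' * z) := by
        show q * k₀ * t' * (q * k₀)⁻¹ = _
        calc q * k₀ * t' * (q * k₀)⁻¹ = q * (k₀ * t' * k₀⁻¹) * q⁻¹ := by group
          _ = (q * t) * t' * q⁻¹ := by rw [hk₀t']; group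
          _ = t * (q * t' * q⁻¹) := by rw [hqt]; group
          _ = _ := by rw [hqt']
      refine ⟨qT * kT, hqk, ?_, fun e => htz ?_, fun e => hdis.2.1 ?_⟩
      · refine Subtype.ext ?_
        show ((qT * kT : ↥T) : G) * t' * ((qT * kT : ↥T) : G)⁻¹ * t' =
          t' * (((qT * kT : ↥T) : G) * t' * ((qT * kT : ↥T) : G)⁻¹)
        rw [e0, mul_assoc t (t' * z) t', mul_assoc t' z t', ← hzt', ← mul_assoc t' t (t' * z), ← hcomm,
          mul_assoc t t' (t' * z)]
      · have e' : t * (t' * z) = t' := e0.symm.trans (congrArg Subtype.val e)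
        rw [← mul_assoc, hcomm, mul_assoc, mul_eq_left] at e'
        calc t = t * (z * z) := by rw [hzz, mul_one]
          _ = z := by rw [← mul_assoc, e', one_mul]
      · exact ((congrArg Subtype.val e).symm.trans (e0.trans (mul_assoc t t' z).symm))
  -- conclusion
  let eX : ↥(Subgroup.centralizer ({tT'} : Set ↥T)) ≃* ↥(Subgroup.centralizer ({t, t'} : Set G)) :=
    { toFun := fun x => ⟨((x : ↥T) : G), hker'.2 ⟨hTmem.1 x.1.2,
        congrArg Subtype.val (Subgroup.mem_centralizer_singleton_iff.1 x.2)⟩⟩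
      invFun := fun x => ⟨⟨(x : G), hTmem.2 (hker'.1 x.2).1⟩,
        Subgroup.mem_centralizer_singleton_iff.2 (Subtype.ext (hker'.1 x.2).2)⟩
      left_inv := fun x => rfl
      right_inv := fun x => rfl
      map_mul' := fun x y => rfl }
  obtain ⟨hqK, hFit, hiso⟩ := double_fi22 (t := tT) (t' := tT') (k := kT) hcT (Subtype.ext htt)
    (fun e => ht1 (congrArg Subtype.val e)) (Subtype.ext htt') (fun e => ht'1 (congrArg Subtype.val e))
    (fun e => ht't (congrArg Subtype.val e)) (Components.IsQuasisimple.of_mulEquiv hX eX.symm) F hF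
    (f.comp eX.toMonoidHom) (hf.comp eX.surjective)
    (fun x => by
      show f (eX x) = 1 ↔ _
      rw [hker]
      simp only [Subtype.ext_iff, Subgroup.coe_one, Subgroup.coe_mul]
      rfl)
    K₀ hidx htK hMWk (Subtype.ext hk₀t') hfus N hNmem
  rw [hFit]
  exact ⟨hqK, hidx, ⟨tT.2, htK⟩, hiso⟩

end LF

end CfsgLib.Sporadic.LargeFischer
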