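import Cfsg.Agent.Lib.Sporadic.LargeFischer.Cfg

/-!
# The weights of the torus: six in one class, and the element of order three is fixed-point-free
-/

set_option autoImplicit false
set_option linter.unusedSectionVars false

namespace CfsgLib.Sporadic.LargeFischer

open Twisted (Add3)

namespace Cfg

variable {Γ : Type*} [Group Γ] [Finite Γ] {P : Type} [Group P] {A B : Subgroup P} {M : Subgroup Γ} {x : M}
  {π : M →* P} {ρ : Γ →* (W12 ≃ₗ[ZMod 2] W12)} {q : W12 → ZMod 2} (h : Cfg Γ A B M x π ρ q)
include h

theorem mem_torus_x : x ∈ A.comap π := by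
  have hx : x ∈ π.ker := by rw [h.ker]; exact Subgroup.mem_zpowers x
  show π x ∈ A
  rw [MonoidHom.mem_ker.1 hx]; exact one_mem A

theorem mem_big_x : x ∈ B.comap π := by
  have hx : x ∈ π.ker := by rw [h.ker]; exact Subgroup.mem_zpowers x
  show π x ∈ B
  rw [MonoidHom.mem_ker.1 hx]; exact one_mem B

/-- `x` in the torus. -/
def xT : A.comap π := ⟨x, h.mem_torus_x⟩

/-- A homomorphism killing `x` into a group of order less than 360 is trivial. -/
theorem big_hom {G : Type*} [Group G] [Finite G] (φ : B.comap π →* G) (hx : φ ⟨x, h.mem_big_x⟩ = 1)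
    (hG : Nat.card G < 360) (m : B.comap π) : φ m = 1 := by
  set r : B.comap π →* B := π.subgroupComap B
  have hr : Function.Surjective r := fun b => by
    obtain ⟨m, hm⟩ := h.surj b
    exact ⟨⟨m, by show π m ∈ B; rw [hm]; exact b.2⟩, Subtype.ext hm⟩
  have hle : r.ker ≤ φ.ker := by
    intro m hm
    have : (m : M) ∈ Subgroup.zpowers x := by
      rw [← h.ker]; exact congrArg Subtype.val (MonoidHom.mem_ker.1 hm)
    obtain ⟨i, hi⟩ := this
    rw [MonoidHom.mem_ker, show m = (⟨x, h.mem_big_x⟩ : B.comap π) ^ i from Subtype.ext hi.symm,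
      map_zpow, hx, one_zpow]
  have hN := (inferInstance : φ.ker.Normal).map r hr
  by_contra hm
  have hne : φ.ker.map r ≠ ⊤ := fun e => by
    have e1 := congrArg (Subgroup.comap r) e
    rw [Subgroup.comap_map_eq, sup_eq_left.2 hle, Subgroup.comap_top] at e1
    exact hm (MonoidHom.mem_ker.1 (e1 ▸ Subgroup.mem_top m))
  have h1 := h.frame.big _ hN hne
  rw [Subgroup.index_map_eq _ hr hle, Subgroup.index_ker] at h1
  have h2 : Nat.card φ.range ≤ Nat.card G := Finite.card_subtype_le _
  omega

/-- A point is fixed or has an orbit of at least six points. -/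
theorem fixed_or_six {S : Type*} [DecidableEq S] (φ : B.comap π →* Equiv.Perm S)
    (hx : φ ⟨x, h.mem_big_x⟩ = 1) (s : S) (O : Finset S) (hs : s ∈ O) (hO : ∀ m, ∀ r ∈ O, φ m r ∈ O)
    (hcard : O.card ≤ 5) (m : B.comap π) : φ m s = s := by
  let ψ : B.comap π →* Equiv.Perm {r // r ∈ O} :=
    { toFun := fun m =>
        { toFun := fun r => ⟨φ m r, hO m r r.2⟩
          invFun := fun r => ⟨φ m⁻¹ r, hO _ r r.2⟩
          left_inv := fun r => Subtype.ext (by simp)
          right_inv := fun r => Subtype.ext (by simp) }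
      map_one' := Equiv.ext fun r => Subtype.ext (by simp)
      map_mul' := fun a b => Equiv.ext fun r => Subtype.ext (by simp) }
  have hψx : ψ ⟨x, h.mem_big_x⟩ = 1 := Equiv.ext fun r => Subtype.ext (by
    show φ _ (r : S) = r; rw [hx]; rfl)
  have hlt : Nat.card (Equiv.Perm {r // r ∈ O}) < 360 := by
    rw [Nat.card_eq_fintype_card, Fintype.card_perm, Fintype.card_coe]
    exact lt_of_le_of_lt (Nat.factorial_le hcard) (by decide)
  have := h.big_hom ψ hψx hlt m
  exact congrArg Subtype.val (Equiv.congr_fun this ⟨s, hs⟩)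

/-- Conjugation of the torus by the normalising group. -/
def conjT : B.comap π →* MulAut (A.comap π) where
  toFun m :=
    { toFun := fun t => ⟨(m : M) * t * (m : M)⁻¹, by
        show π _ ∈ A
        rw [map_mul, map_mul, map_inv]
        exact h.frame.norm _ m.2 _ t.2⟩
      invFun := fun t => ⟨(m : M)⁻¹ * t * m, by
        show π _ ∈ A
        have e := h.frame.norm _ (inv_mem m.2) _ t.2
        rw [inv_inv] at e
        rw [map_mul, map_mul, map_inv]
        exact e⟩
      left_inv := fun t => Subtype.ext (by simp [mul_assoc])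
      right_inv := fun t => Subtype.ext (by simp [mul_assoc])
      map_mul' := fun t u => Subtype.ext (by simp [mul_assoc]) }
  map_one' := MulEquiv.ext fun t => Subtype.ext (by simp)
  map_mul' a b := MulEquiv.ext fun t => Subtype.ext (by simp [mul_assoc])

theorem conjT_x_left (t : A.comap π) : h.conjT ⟨x, h.mem_big_x⟩ t = t := Subtype.ext (by
  show x * (t : M) * x⁻¹ = t
  rw [← h.x_central, mul_inv_cancel_right])

theorem conjT_x_right (m : B.comap π) : h.conjT m h.xT = h.xT := Subtype.ext (by
  show (m : M) * x * (m : M)⁻¹ = x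
  rw [h.x_central, mul_inv_cancel_right])

/-- The action on functions on the torus. -/
def act3 : B.comap π →* Equiv.Perm (A.comap π → ZMod 3) where
  toFun m :=
    { toFun := fun χ t => χ ((h.conjT m).symm t)
      invFun := fun χ t => χ (h.conjT m t)
      left_inv := fun χ => funext fun t => by simp
      right_inv := fun χ => funext fun t => by simp }
  map_one' := Equiv.ext fun χ => funext fun t => by simp; rfl
  map_mul' a b := Equiv.ext fun χ => funext fun t => by simp only [map_mul]; rfl

theorem act3_apply (m : B.comap π) (χ : A.comap π → ZMod 3) (t : A.comap π) :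
    h.act3 m χ (h.conjT m t) = χ t := by
  show χ ((h.conjT m).symm (h.conjT m t)) = χ t
  rw [MulEquiv.symm_apply_apply]

theorem act3_x : h.act3 ⟨x, h.mem_big_x⟩ = 1 := Equiv.ext fun χ => funext fun t => by
  conv_lhs => rw [← h.conjT_x_left t, h.act3_apply]
  rfl

theorem act3_xT (m : B.comap π) (χ : A.comap π → ZMod 3) : h.act3 m χ h.xT = χ h.xT := by
  conv_lhs => rw [← h.conjT_x_right m, h.act3_apply]

/-- A fixed additive function vanishing at `x` is zero. -/
theorem fixed_zero {χ : A.comap π → ZMod 3} (hadd : Add3 χ) (hfix : ∀ m, h.act3 m χ = χ)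
    (hx : χ h.xT = 0) : χ = 0 := by
  classical
  have hsec : ∀ {a}, a ∈ A → π (h.sec a) ∈ A := fun {a} ha => by rwa [h.π_sec]
  let f : P → ZMod 3 := fun a => if ha : π (h.sec a) ∈ A then χ ⟨h.sec a, ha⟩ else 0
  have hker : ∀ t u : A.comap π, π t = π u → χ t = χ u := by
    intro t u e
    have hk : ((u : M))⁻¹ * t ∈ Subgroup.zpowers x := by
      rw [← h.ker, MonoidHom.mem_ker, map_mul, map_inv, e, inv_mul_cancel]
    rw [← mem_powers_iff_mem_zpowers] at hk
    obtain ⟨k, hk⟩ := hk
    have hk' : x ^ k = ((u : M))⁻¹ * t := hk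
    have et : t = u * h.xT ^ k := Subtype.ext (by
      show (t : M) = (u : M) * x ^ k
      rw [hk', mul_inv_cancel_left])
    rw [et, hadd]
    have : ∀ k : ℕ, χ (h.xT ^ k) = 0 := by
      intro k
      induction k with
      | zero =>
        have := hadd 1 1
        rw [one_mul] at this
        rw [pow_zero]; exact left_eq_add.1 this
      | succ k ih => rw [pow_succ, hadd, ih, hx, add_zero]
    rw [this, add_zero]
  have hf : ∀ t : A.comap π, f (π t) = χ t := fun t => by
    show (if ha : _ then _ else _) = _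
    rw [dif_pos (hsec t.2)]
    exact hker _ t (h.π_sec _)
  have hz := h.frame.noLin f ?_ ?_
  · funext t
    rw [← hf t]
    exact hz _ t.2
  · intro a ha a' ha'
    obtain ⟨t, rfl⟩ : ∃ t : A.comap π, π t = a := ⟨⟨h.sec a, hsec ha⟩, h.π_sec a⟩
    obtain ⟨u, rfl⟩ : ∃ u : A.comap π, π u = a' := ⟨⟨h.sec a', hsec ha'⟩, h.π_sec a'⟩
    rw [← map_mul, show (t : M) * u = ((t * u : A.comap π) : M) from rfl, hf, hf, hf, hadd]
  · intro b hb a ha
    obtain ⟨t, rfl⟩ : ∃ t : A.comap π, π t = a := ⟨⟨h.sec a, hsec ha⟩, h.π_sec a⟩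
    obtain ⟨m, rfl⟩ := h.surj b
    have hmB : m ∈ B.comap π := hb
    rw [show π m * π t * (π m)⁻¹ = π ((h.conjT ⟨m, hmB⟩ t : A.comap π) : M) by
      show _ = π (m * t * m⁻¹); rw [map_mul, map_mul, map_inv], hf, hf]
    conv_lhs => rw [← hfix ⟨m, hmB⟩, h.act3_apply]

/-- The action of the torus on the space. -/
noncomputable def rT (_h : Cfg Γ A B M x π ρ q) (t : A.comap π) : W12 →+ W12 := (ρ ((t : M) : Γ)).toLinearMap.toAddMonoidHom


theorem rho_mul (a b : M) (w : W12) : ρ (((a * b : M)) : Γ) w = ρ (a : Γ) (ρ (b : Γ) w) := by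
  rw [Subgroup.coe_mul, map_mul]; rfl

/-- The action on the doubled space with a scalar of order three. -/
noncomputable def doubled : Twisted (A.comap π) (W12 × W12) where
  σ t := (h.rT t).prodMap (h.rT t)
  ω := AddMonoidHom.mk' (fun p => (p.2, p.1 + p.2)) fun p p' => by
    simp only [Prod.fst_add, Prod.snd_add, Prod.mk_add_mk, Prod.mk.injEq, true_and]
    abel
  two y := by ext <;> simp [CharTwo.add_self_eq_zero]
  fpf y e := by
    have h1 : y.2 = y.1 := congrArg Prod.fst e
    have h2 : y.1 + y.2 = y.2 := congrArg Prod.snd e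
    have h3 : y.1 = 0 := by simpa using h2
    exact Prod.ext h3 (h1.trans h3)
  ω_cube y := by
    obtain ⟨a, b⟩ := y
    show (b + (a + b), (a + b) + (b + (a + b))) = (a, b)
    have e : b + (a + b) = a := by
      funext i
      show b i + (a i + b i) = a i
      generalize a i = u
      generalize b i = v
      revert u v; decide
    rw [e]
    refine Prod.ext rfl (funext fun i => ?_)
    show a i + b i + a i = b i
    generalize a i = u
    generalize b i = v
    revert u v; decide
  σ_one y := by
    show (ρ ((1 : M) : Γ) y.1, ρ ((1 : M) : Γ) y.2) = y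
    simp
  σ_mul t u y := Prod.ext (h.rho_mul t u y.1) (h.rho_mul t u y.2)
  σ_ω t y := by
    show (ρ ((t : M) : Γ) y.2, ρ ((t : M) : Γ) (y.1 + y.2)) = (ρ _ y.2, ρ _ y.1 + ρ _ y.2)
    rw [map_add]
  comm t u := Subtype.ext (h.torus_comm t.2 u.2)
  cube t := Subtype.ext (h.torus_cube t.2)

variable [Fintype ↥(A.comap π)]

theorem rho_x_ne : ∃ w, ρ (x : Γ) w ≠ w := by
  by_contra hc
  push Not at hc
  have e : (x : Γ) = 1 := h.inj (by rw [map_one]; exact LinearEquiv.ext hc)
  have := h.ord
  rw [show x = 1 from Subtype.ext e, orderOf_one] at this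
  omega

/-- Conjugation transports eigenvectors. -/
theorem eig_act (m : B.comap π) {χ : A.comap π → ZMod 3} {y : W12 × W12} (hy : h.doubled.Eig χ y) :
    h.doubled.Eig (h.act3 m χ) ((ρ ((m : M) : Γ) y.1, ρ ((m : M) : Γ) y.2)) := by
  intro t
  obtain ⟨u, rfl⟩ := (h.conjT m).surjective t
  rw [h.act3_apply]
  have e : ∀ w, ρ (((h.conjT m u : A.comap π) : M) : Γ) (ρ ((m : M) : Γ) w) = ρ ((m : M) : Γ) (ρ ((u : M) : Γ) w) :=
    fun w => by
      rw [← h.rho_mul, ← h.rho_mul]
      show ρ ((((m : M) * u * (m : M)⁻¹ * m : M)) : Γ) w = _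
      rw [inv_mul_cancel_right]
  have e2 : ∀ (j : ZMod 3) (z : W12 × W12), (h.doubled.pw j) (ρ ((m : M) : Γ) z.1, ρ ((m : M) : Γ) z.2) =
      (ρ ((m : M) : Γ) (h.doubled.pw j z).1, ρ ((m : M) : Γ) (h.doubled.pw j z).2) := by
    intro j z
    rcases Twisted.zmod3_cases j with rfl | rfl | rfl
    · rfl
    · show (ρ _ z.2, ρ _ z.1 + ρ _ z.2) = (ρ _ z.2, ρ _ (z.1 + z.2))
      rw [map_add]
    · show (ρ _ z.1 + ρ _ z.2, ρ _ z.2 + (ρ _ z.1 + ρ _ z.2)) = (ρ _ (z.1 + z.2), ρ _ (z.2 + (z.1 + z.2)))
      rw [map_add, map_add, map_add]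
  rw [e2, ← hy u]
  exact Prod.ext (e y.1) (e y.2)

theorem act3_mem (m : B.comap π) {χ : A.comap π → ZMod 3} (hχ : χ ∈ (h.doubled).weights) :
    h.act3 m χ ∈ h.doubled.weights := by
  obtain ⟨y, hy, he⟩ := h.doubled.mem_weights.1 hχ
  refine h.doubled.mem_weights.2 ⟨_, fun e => hy ?_, h.eig_act m he⟩
  exact Prod.ext ((ρ _).map_eq_zero_iff.1 (congrArg Prod.fst e)) ((ρ _).map_eq_zero_iff.1 (congrArg Prod.snd e))

theorem neg_mem_weights {χ : A.comap π → ZMod 3} (hχ : χ ∈ h.doubled.weights) : -χ ∈ h.doubled.weights := by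
  obtain ⟨y, hy, he⟩ := h.doubled.mem_weights.1 hχ
  refine h.doubled.mem_weights.2 ⟨(y.1 + y.2, y.2), fun e => hy ?_, fun t => ?_⟩
  · have e2 : y.2 = 0 := congrArg Prod.snd e
    have e1 : y.1 + y.2 = 0 := congrArg Prod.fst e
    rw [e2, add_zero] at e1
    exact Prod.ext e1 e2
  · have e := he t
    show (ρ ((t : M) : Γ) (y.1 + y.2), ρ ((t : M) : Γ) y.2) = h.doubled.pw ((-χ) t) (y.1 + y.2, y.2)
    rw [map_add]
    have e1 : ρ ((t : M) : Γ) y.1 = (h.doubled.pw (χ t) y).1 := congrArg Prod.fst e
    have e2 : ρ ((t : M) : Γ) y.2 = (h.doubled.pw (χ t) y).2 := congrArg Prod.snd e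
    rw [e1, e2]
    have hpw : ∀ (j : ZMod 3) (z : W12 × W12),
        ((h.doubled.pw j z).1 + (h.doubled.pw j z).2, (h.doubled.pw j z).2) = h.doubled.pw (-j) (z.1 + z.2, z.2) := by
      intro j z
      obtain ⟨a, b⟩ := z
      rcases Twisted.zmod3_cases j with rfl | rfl | rfl
      · rfl
      · rw [show (-1 : ZMod 3) = 2 from rfl]
        show (b + (a + b), a + b) = (a + b + b, b + (a + b + b))
        refine Prod.ext (by abel) (funext fun i => ?_)
        show a i + b i = b i + (a i + b i + b i)
        generalize a i = u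
        generalize b i = v
        revert u v; decide
      · rw [show (-2 : ZMod 3) = 1 from rfl]
        show ((a + b) + (b + (a + b)), b + (a + b)) = (b, a + b + b)
        refine Prod.ext (funext fun i => ?_) (by abel)
        show a i + b i + (b i + (a i + b i)) = b i
        generalize a i = u
        generalize b i = v
        revert u v; decide
    exact hpw (χ t) y

theorem weights_card_le : h.doubled.weights.card ≤ 12 := by
  have hle := h.doubled.pow_weights_le
  have hW : Nat.card (W12 × W12) = 4 ^ 12 := by simp [Nat.card_eq_fintype_card]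
  rw [hW] at hle
  exact (Nat.pow_le_pow_iff_right (show 1 < 4 by norm_num)).1 hle

theorem rho_of_trivial {t : A.comap π} (ht : ∀ χ ∈ h.doubled.weights, χ t = 0) : t = 1 := by
  refine Subtype.ext (Subtype.ext (h.inj (LinearEquiv.ext fun w => ?_)))
  rw [Subgroup.coe_one, Subgroup.coe_one, map_one]
  have key : h.doubled.σ t (w, 0) = (w, 0) := by
    conv_lhs => rw [← h.doubled.sum_proj (w, 0), map_sum]
    conv_rhs => rw [← h.doubled.sum_proj (w, 0)]
    refine Finset.sum_congr rfl fun χ hχ => ?_
    rw [h.doubled.proj_eig (h.doubled.add3_of_mem hχ) _ t, ht χ hχ]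
    rfl
  exact congrArg Prod.fst key

/-- The six weights. -/
theorem exists_six : ∃ O : Finset (A.comap π → ZMod 3), O.card = 6 ∧ (∀ χ ∈ O, χ h.xT = 1 ∧ Add3 χ) ∧
    (∀ m, ∀ χ ∈ O, h.act3 m χ ∈ O) ∧ (∀ χ ∈ O, ∃ m, h.act3 m χ ≠ χ) ∧
    (∀ χ ∈ O, ∀ ψ ∈ O, ∃ m, h.act3 m χ = ψ) ∧
    ∀ χ ∈ h.doubled.weights, χ h.xT ≠ 0 ∧ (χ h.xT = 1 → χ ∈ O) := by
  classical
  haveI := Fintype.ofFinite (B.comap π)
  have hx1 := h.act3_x
  set Λ := h.doubled.weights with hΛ
  have hle := h.weights_card_le
  rw [← hΛ] at hle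
  let orb : (A.comap π → ZMod 3) → Finset (A.comap π → ZMod 3) := fun χ => Finset.univ.image fun m => h.act3 m χ
  have horb : ∀ χ ∈ Λ, orb χ ⊆ Λ := fun χ hχ r hr => by
    obtain ⟨m, -, rfl⟩ := Finset.mem_image.1 hr
    exact h.act3_mem m hχ
  have hclosed : ∀ χ m, ∀ r ∈ orb χ, h.act3 m r ∈ orb χ := fun χ m r hr => by
    obtain ⟨n, -, rfl⟩ := Finset.mem_image.1 hr
    exact Finset.mem_image.2 ⟨m * n, Finset.mem_univ _, by rw [map_mul]; rfl⟩
  have hself : ∀ χ, χ ∈ orb χ := fun χ => Finset.mem_image.2 ⟨1, Finset.mem_univ _, by rw [map_one]; rfl⟩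
  have hsix : ∀ χ, (∃ m, h.act3 m χ ≠ χ) → 6 ≤ (orb χ).card := by
    rintro χ ⟨m, hm⟩
    by_contra hlt
    exact hm (h.fixed_or_six h.act3 hx1 χ _ (hself χ) (hclosed χ) (by omega) m)
  have horbx : ∀ χ, ∀ r ∈ orb χ, r h.xT = χ h.xT := fun χ r hr => by
    obtain ⟨m, -, rfl⟩ := Finset.mem_image.1 hr
    exact h.act3_xT m χ
  have hneg : ∀ χ ∈ Λ, -χ ∈ Λ := fun χ hχ => h.neg_mem_weights hχ
  obtain ⟨χ₁, hχ₁, hχ₁x⟩ : ∃ χ ∈ Λ, χ h.xT = 1 := by
    have hex : ∃ χ ∈ Λ, χ h.xT ≠ 0 := by
      by_contra hc
      push Not at hc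
      have := h.rho_of_trivial hc
      have e : x = 1 := congrArg Subtype.val this
      have ho := h.ord
      rw [e, orderOf_one] at ho
      omega
    obtain ⟨χ, hχ, hne⟩ := hex
    rcases Twisted.zmod3_cases (χ h.xT) with e | e | e
    · exact absurd e hne
    · exact ⟨χ, hχ, e⟩
    · exact ⟨-χ, hneg χ hχ, by rw [Pi.neg_apply, e]; rfl⟩
  have hdisj : ∀ χ, χ h.xT = 1 → Disjoint (orb χ) ((orb χ).image fun r => -r) := fun χ hχ => by
    refine Finset.disjoint_left.2 fun r hr hr' => ?_
    obtain ⟨r', hr2, rfl⟩ := Finset.mem_image.1 hr'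
    have e1 : (-r') h.xT = χ h.xT := horbx χ (-r') hr
    rw [Pi.neg_apply, horbx χ r' hr2, hχ] at e1
    exact absurd e1 (by decide)
  by_cases hmove : ∃ χ ∈ Λ, χ h.xT = 1 ∧ ∃ m, h.act3 m χ ≠ χ
  · obtain ⟨χ, hχ, hχx, hm⟩ := hmove
    have h6 := hsix χ hm
    have hsub : orb χ ∪ ((orb χ).image fun r => -r) ⊆ Λ := by
      refine Finset.union_subset (horb χ hχ) fun r hr => ?_
      obtain ⟨r', hr', rfl⟩ := Finset.mem_image.1 hr
      exact hneg _ (horb χ hχ hr')
    have hcard := Finset.card_le_card hsub
    rw [Finset.card_union_of_disjoint (hdisj χ hχx), Finset.card_image_of_injective _ neg_injective] at hcard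
    have hO : (orb χ).card = 6 := by omega
    have hall : orb χ ∪ ((orb χ).image fun r => -r) = Λ := Finset.eq_of_subset_of_card_le hsub (by
      rw [Finset.card_union_of_disjoint (hdisj χ hχx), Finset.card_image_of_injective _ neg_injective]; omega)
    refine ⟨orb χ, hO, fun r hr => ⟨(horbx χ r hr).trans hχx, h.doubled.add3_of_mem (horb χ hχ hr)⟩, hclosed χ,
      ?_, ?_, ?_⟩
    · intro r hr
      by_contra hfix
      push Not at hfix
      obtain ⟨n, -, rfl⟩ := Finset.mem_image.1 hr
      obtain ⟨m, hm⟩ := hm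
      have e1 := hfix (n * m * n⁻¹)
      have e2 : h.act3 (n * m * n⁻¹) (h.act3 n χ) = h.act3 n (h.act3 m χ) := by
        rw [← Equiv.Perm.mul_apply, ← map_mul, ← Equiv.Perm.mul_apply, ← map_mul, inv_mul_cancel_right]
      rw [e2] at e1
      exact hm ((h.act3 n).injective e1)
    · intro r hr r' hr'
      obtain ⟨n, -, rfl⟩ := Finset.mem_image.1 hr
      obtain ⟨n', -, rfl⟩ := Finset.mem_image.1 hr'
      exact ⟨n' * n⁻¹, by rw [← Equiv.Perm.mul_apply, ← map_mul, inv_mul_cancel_right]⟩
    · intro r hr
      rw [← hall, Finset.mem_union] at hr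
      rcases hr with hr | hr
      · have e := (horbx χ r hr).trans hχx
        exact ⟨by rw [e]; decide, fun _ => hr⟩
      · obtain ⟨r', hr', rfl⟩ := Finset.mem_image.1 hr
        have e : (-r') h.xT = -1 := by rw [Pi.neg_apply, (horbx χ r' hr').trans hχx]
        refine ⟨by rw [e]; decide, fun e' => ?_⟩
        rw [e] at e'
        exact absurd e' (by decide)
  · exfalso
    push Not at hmove
    have huniq : ∀ χ ∈ Λ, χ h.xT = 1 → χ = χ₁ := by
      intro χ hχ hx
      have ha := h.doubled.add3_of_mem hχ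
      have hb := h.doubled.add3_of_mem hχ₁
      have h0 : χ - χ₁ = 0 := by
        refine h.fixed_zero (fun t u => ?_) (fun m => funext fun t => ?_) ?_
        · simp only [Pi.sub_apply, ha t u, hb t u]; abel
        · obtain ⟨u, rfl⟩ := (h.conjT m).surjective t
          rw [h.act3_apply]
          show χ u - χ₁ u = χ _ - χ₁ _
          conv_rhs => rw [← hmove χ hχ hx m, ← hmove χ₁ hχ₁ hχ₁x m, h.act3_apply, h.act3_apply]
        · rw [Pi.sub_apply, hx, hχ₁x, sub_self]
      exact sub_eq_zero.1 h0
    have hzero : ∀ χ ∈ Λ, χ h.xT = 0 → χ = 0 := by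
      intro χ hχ hx
      by_contra hne
      obtain ⟨m, hm⟩ : ∃ m, h.act3 m χ ≠ χ := by
        by_contra hfix
        push Not at hfix
        exact hne (h.fixed_zero (h.doubled.add3_of_mem hχ) hfix hx)
      have hneq : ∀ r : A.comap π → ZMod 3, r ≠ 0 → r ≠ -r := fun r hr e => hr (funext fun t => by
        have := congrFun e t
        rw [Pi.neg_apply] at this
        show r t = 0
        revert this
        generalize r t = c
        revert c; decide)
      let pr : (A.comap π → ZMod 3) → Finset (A.comap π → ZMod 3) := fun r => {r, -r}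
      have hactneg : ∀ m r, h.act3 m (-r) = -(h.act3 m r) := fun m r => rfl
      have hne0 : ∀ r ∈ orb χ, r ≠ 0 := fun r hr e => by
        obtain ⟨n, -, rfl⟩ := Finset.mem_image.1 hr
        refine hne ((h.act3 n).injective ?_)
        rw [e]; rfl
      let actF : B.comap π →* Equiv.Perm (Finset (A.comap π → ZMod 3)) :=
        { toFun := fun m =>
            { toFun := fun S => S.image (h.act3 m)
              invFun := fun S => S.image (h.act3 m⁻¹)
              left_inv := fun S => by
                show (S.image (h.act3 m)).image (h.act3 m⁻¹) = S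
                rw [Finset.image_image, show (h.act3 m⁻¹) ∘ (h.act3 m) = id from funext fun r => by simp,
                  Finset.image_id]
              right_inv := fun S => by
                show (S.image (h.act3 m⁻¹)).image (h.act3 m) = S
                rw [Finset.image_image, show (h.act3 m) ∘ (h.act3 m⁻¹) = id from funext fun r => by simp,
                  Finset.image_id] }
          map_one' := Equiv.ext fun S => by simp
          map_mul' := fun a b => Equiv.ext fun S => by
            show S.image (h.act3 (a * b)) = (S.image (h.act3 b)).image (h.act3 a)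
            rw [Finset.image_image, map_mul]; rfl }
      have hactx : actF ⟨x, h.mem_big_x⟩ = 1 := Equiv.ext fun S => by
        show S.image (h.act3 ⟨x, _⟩) = S
        rw [hx1]; exact Finset.image_id
      have hpr : ∀ m r, actF m (pr r) = pr (h.act3 m r) := fun m r => by
        show ({r, -r} : Finset _).image _ = {_, _}
        rw [Finset.image_insert, Finset.image_singleton, hactneg]
      by_cases h5 : ((orb χ).image pr).card ≤ 5
      · have hfix := fun m => h.fixed_or_six actF hactx (pr χ) ((orb χ).image pr)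
          (Finset.mem_image_of_mem pr (hself χ)) (fun m S hS => by
            obtain ⟨r, hr, rfl⟩ := Finset.mem_image.1 hS
            rw [hpr]
            exact Finset.mem_image_of_mem pr (hclosed χ m r hr)) h5 m
        have hsub : orb χ ⊆ pr χ := fun r hr => by
          obtain ⟨n, -, rfl⟩ := Finset.mem_image.1 hr
          have e := hfix n
          rw [hpr] at e
          rw [← e]; exact Finset.mem_insert_self _ _
        have := Finset.card_le_card hsub
        have h2 : (pr χ).card ≤ 2 := Finset.card_le_two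
        exact hm (h.fixed_or_six h.act3 hx1 χ _ (hself χ) (hclosed χ) (by omega) m)
      · have hU : ((orb χ).image pr).biUnion id ∪ {χ₁, -χ₁} ⊆ Λ := by
          intro r hr
          rcases Finset.mem_union.1 hr with hr | hr
          · obtain ⟨S, hS, hrS⟩ := Finset.mem_biUnion.1 hr
            obtain ⟨r', hr', rfl⟩ := Finset.mem_image.1 hS
            rcases Finset.mem_insert.1 hrS with e | e
            · rw [e]; exact horb χ hχ hr'
            · rw [Finset.mem_singleton.1 e]; exact hneg _ (horb χ hχ hr')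
          · rcases Finset.mem_insert.1 hr with e | e
            · rw [e]; exact hχ₁
            · rw [Finset.mem_singleton.1 e]; exact hneg _ hχ₁
        have hbu : (((orb χ).image pr).biUnion id).card = ((orb χ).image pr).card * 2 := by
          rw [Finset.card_biUnion]
          · rw [Finset.sum_const_nat]
            intro S hS
            obtain ⟨r, hr, rfl⟩ := Finset.mem_image.1 hS
            exact Finset.card_pair (hneq r (hne0 r hr))
          · intro S hS S' hS' hne
            simp only [Function.onFun, id]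
            refine Finset.disjoint_left.2 fun a ha ha' => hne ?_
            obtain ⟨r, -, rfl⟩ := Finset.mem_image.1 hS
            obtain ⟨r', -, rfl⟩ := Finset.mem_image.1 hS'
            have key : ∀ r : A.comap π → ZMod 3, a ∈ pr r → pr r = pr a := fun r ha => by
              rcases Finset.mem_insert.1 ha with e | e
              · rw [e]
              · rw [Finset.mem_singleton.1 e]
                show ({r, -r} : Finset _) = {-r, -(-r)}
                rw [neg_neg, Finset.pair_comm]
            rw [key r ha, key r' ha']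
        have hdj : Disjoint (((orb χ).image pr).biUnion id) {χ₁, -χ₁} := by
          refine Finset.disjoint_left.2 fun a ha ha' => ?_
          obtain ⟨S, hS, haS⟩ := Finset.mem_biUnion.1 ha
          obtain ⟨r, hr, rfl⟩ := Finset.mem_image.1 hS
          have e0 : r h.xT = 0 := (horbx χ r hr).trans hx
          have ea : a h.xT = 0 := by
            rcases Finset.mem_insert.1 haS with e | e
            · rw [e, e0]
            · rw [Finset.mem_singleton.1 e, Pi.neg_apply, e0, neg_zero]
          rcases Finset.mem_insert.1 ha' with e | e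
          · rw [e, hχ₁x] at ea; exact one_ne_zero ea
          · rw [Finset.mem_singleton.1 e, Pi.neg_apply, hχ₁x] at ea; exact absurd ea (by decide)
        have hcard := Finset.card_le_card hU
        rw [Finset.card_union_of_disjoint hdj, hbu,
          Finset.card_pair (hneq χ₁ fun e => by rw [e] at hχ₁x; exact zero_ne_one hχ₁x)] at hcard
        omega
    -- the torus acts faithfully through a single weight
    have hinj : Function.Injective χ₁ := by
      intro t u e
      refine inv_mul_eq_one.1 (h.rho_of_trivial fun χ hχ => ?_) |>.symm.symm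
      have ha := h.doubled.add3_of_mem hχ
      have h1 : χ₁ (t⁻¹ * u) = 0 := by
        have hb := h.doubled.add3_of_mem hχ₁
        have e2 := hb t (t⁻¹ * u)
        rw [mul_inv_cancel_left, ← e] at e2
        exact left_eq_add.1 e2
      rcases Twisted.zmod3_cases (χ h.xT) with e' | e' | e'
      · rw [hzero χ hχ e']; rfl
      · rw [huniq χ hχ e']; exact h1
      · have e3 : -χ = χ₁ := huniq _ (hneg χ hχ) (by rw [Pi.neg_apply, e']; rfl)
        have := congrFun e3 (t⁻¹ * u)
        rw [h1, Pi.neg_apply, neg_eq_zero] at this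
        exact this
    have := Nat.card_le_card_of_injective χ₁ hinj
    rw [h.card_torus, Nat.card_zmod] at this
    omega

end Cfg

end CfsgLib.Sporadic.LargeFischer
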