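import Cfsg.Agent.Lib.Sporadic.LargeFischer.Orbits

/-!
# An element of order seven fixes only the zero vector; the orbit lengths 378 and 1701
-/

set_option autoImplicit false
set_option linter.unusedSectionVars false

namespace CfsgLib.Sporadic.LargeFischer

/-- The sign of an element of the field with two elements. -/
def sgn (a : ZMod 2) : ℤ := if a = 0 then 1 else -1

theorem sgn_add : ∀ a b : ZMod 2, sgn (a + b) = sgn a * sgn b := by decide

theorem omV_om : ∀ d, d + om d + om (om d) = 0 ∧ om (om (om d)) = d ∧ (om d = d → d = 0) := by decide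

theorem qs_omV (v : V6) : qs (omV v) = qs v := Finset.sum_congr rfl fun i _ => by
  show nzd (om (v i)) = nzd (v i)
  generalize v i = d
  revert d; decide

/-- The polar form of `qs`. -/
def bs (u v : V6) : ZMod 2 := qs (u + v) + qs u + qs v

theorem nzd_polar : ∀ a b c : D4, nzd (a + (b + c)) + nzd a + nzd (b + c) =
    (nzd (a + b) + nzd a + nzd b) + (nzd (a + c) + nzd a + nzd c) := by decide

theorem bs_add (u v w : V6) : bs u (v + w) = bs u v + bs u w := by
  simp only [bs, qs, ← Finset.sum_add_distrib]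
  exact Finset.sum_congr rfl fun i _ => nzd_polar _ _ _

theorem bs_comm (u v : V6) : bs u v = bs v u := by
  show qs (u + v) + qs u + qs v = qs (v + u) + qs v + qs u
  rw [add_comm u v]; abel

theorem bs_nondeg {u : V6} (hu : ∀ v, bs u v = 0) : u = 0 := funext fun i => by
  have key : ∀ d : D4, (∀ e : D4, nzd (d + e) + nzd d + nzd e = 0) → d = 0 := by decide
  refine key _ fun e => ?_
  have h := hu (Pi.single i e)
  simp only [bs, qs, ← Finset.sum_add_distrib] at h
  rwa [Finset.sum_eq_single i (fun j _ hne => by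
    rw [Pi.add_apply, Pi.single_eq_of_ne hne, add_zero]
    generalize u j = d; revert d; decide) (by simp), Pi.add_apply, Pi.single_eq_same] at h

namespace Model

variable {K : Subgroup (V6 ≃ₗ[ZMod 2] V6)} (h : Model K)
include h

theorem bs_map {g : V6 ≃ₗ[ZMod 2] V6} (hg : g ∈ K) (u v : V6) : bs (g u) (g v) = bs u v := by
  show qs (g u + g v) + qs (g u) + qs (g v) = _
  rw [← map_add, h.quad g hg, h.quad g hg, h.quad g hg]; rfl

theorem seven_fixed (g : V6 ≃ₗ[ZMod 2] V6) (hg : g ∈ K) (h7 : orderOf g = 7) (v : V6) (hv : g v = v) : v = 0 := by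
  classical
  haveI : Fact (Nat.Prime 7) := ⟨by norm_num⟩
  have hpow : ∀ n : ℕ, g ^ n ∈ K := fun n => pow_mem hg n
  have hg7 : g ^ 7 = 1 := h7 ▸ pow_orderOf_eq_one g
  -- `g` commutes with the scalar
  have hω : ∀ w, g (omV w) = omV (g w) := by
    refine (h.scal g hg).resolve_right fun hanti => ?_
    have h3 : ∀ w, omV (omV (omV w)) = w := fun w => funext fun i => (omV_om (w i)).2.1
    have h2 : ∀ w, (g ^ 2) (omV w) = omV ((g ^ 2) w) := fun w => by
      show g (g (omV w)) = omV (g (g w))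
      rw [hanti, hanti, hanti]
      simp only [h3]
    have h6 : ∀ w, (g ^ 6) (omV w) = omV ((g ^ 6) w) := fun w => by
      show (g ^ 2) ((g ^ 2) ((g ^ 2) (omV w))) = omV ((g ^ 2) ((g ^ 2) ((g ^ 2) w)))
      rw [h2, h2, h2]
    set w : V6 := fun _ => (1, 0)
    have e1 : (g ^ 7) (omV w) = omV w := by rw [hg7]; rfl
    rw [pow_succ', LinearEquiv.mul_apply, h6, hanti, ← LinearEquiv.mul_apply, ← pow_succ', hg7] at e1
    exact absurd (congrFun e1 0) (by decide)
  set F : Finset V6 := Finset.univ.filter fun w => g w = w with hF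
  have hmem : ∀ w, w ∈ F ↔ g w = w := fun w => by simp [hF]
  have hFadd : ∀ a ∈ F, ∀ b ∈ F, a + b ∈ F := fun a ha b hb => (hmem _).2 (by
    rw [map_add, (hmem a).1 ha, (hmem b).1 hb])
  -- orbits of `g` on invariant sets
  haveI : Finite (V6 ≃ₗ[ZMod 2] V6) := Finite.of_injective _ DFunLike.coe_injective
  have hmod : ∀ (p : V6 → Prop) [DecidablePred p], (∀ w, p w → p (g w)) →
      (Finset.univ.filter p).card ≡ (F.filter p).card [MOD 7] := by
    intro p _ hp
    haveI : IsPGroup 7 (Subgroup.zpowers g) := IsPGroup.of_card (n := 1) (by rw [Nat.card_zpowers, h7, pow_one])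
    have hpn : ∀ (n : ℕ) w, p w → p ((g ^ n) w) := by
      intro n
      induction n with
      | zero => exact fun w hw => hw
      | succ n ih => exact fun w hw => by rw [pow_succ', LinearEquiv.mul_apply]; exact hp _ (ih _ hw)
    have hall : ∀ a : Subgroup.zpowers g, ∀ w, p w → p ((a : V6 ≃ₗ[ZMod 2] V6) w) := fun a w hw => by
      obtain ⟨n, hn⟩ := Submonoid.mem_powers_iff _ _ |>.1 ((mem_powers_iff_mem_zpowers).2 a.2)
      rw [← hn]; exact hpn n w hw
    letI : MulAction (Subgroup.zpowers g) {w : V6 // p w} :=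
      { smul := fun a w => ⟨(a : V6 ≃ₗ[ZMod 2] V6) w, hall a w w.2⟩
        one_smul := fun w => Subtype.ext rfl
        mul_smul := fun a b w => Subtype.ext rfl }
    have hcard := (‹IsPGroup 7 (Subgroup.zpowers g)›).card_modEq_card_fixedPoints {w : V6 // p w}
    rw [Nat.card_eq_fintype_card, Fintype.card_subtype] at hcard
    refine hcard.trans ?_
    refine congrArg (· % 7) ?_
    rw [← Fintype.card_coe, ← Nat.card_eq_fintype_card]
    refine Nat.card_congr
      { toFun := fun w => ⟨(w.1 : V6), Finset.mem_filter.2 ⟨(hmem _).2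
          (congrArg Subtype.val (w.2 ⟨g, Subgroup.mem_zpowers g⟩)), w.1.2⟩⟩
        invFun := fun w => ⟨⟨w.1, (Finset.mem_filter.1 w.2).2⟩, fun a => Subtype.ext (by
          obtain ⟨n, hn⟩ := Submonoid.mem_powers_iff _ _ |>.1 ((mem_powers_iff_mem_zpowers).2 a.2)
          show (a : V6 ≃ₗ[ZMod 2] V6) w.1 = w.1
          rw [← hn]
          clear hn
          induction n with
          | zero => rfl
          | succ n ih => rw [pow_succ', LinearEquiv.mul_apply, ih, (hmem _).1 (Finset.mem_filter.1 w.2).1])⟩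
        left_inv := fun w => rfl
        right_inv := fun w => rfl }
  -- the form on the fixed space is non-degenerate
  have hnd : ∀ u ∈ F, (∀ w ∈ F, bs u w = 0) → u = 0 := by
    intro u hu hperp
    refine bs_nondeg fun w => ?_
    set s := ∑ i ∈ Finset.range 7, (g ^ i) w with hs
    have hsF : s ∈ F := (hmem _).2 (by
      rw [hs, map_sum]
      have e := Finset.sum_range_succ' (fun i => (g ^ i) w) 7
      rw [Finset.sum_range_succ (fun i => (g ^ i) w) 7, hg7, pow_zero] at e
      have e' := add_right_cancel e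
      rw [e']
      exact Finset.sum_congr rfl fun i _ => by rw [pow_succ', LinearEquiv.mul_apply])
    have hfix : ∀ i : ℕ, (g ^ i) u = u := by
      intro i
      induction i with
      | zero => rfl
      | succ i ih => rw [pow_succ', LinearEquiv.mul_apply, ih, (hmem u).1 hu]
    have hsum : bs u s = ∑ i ∈ Finset.range 7, bs u ((g ^ i) w) :=
      map_sum (AddMonoidHom.mk' (bs u) (bs_add u)) (fun i => (g ^ i) w) (Finset.range 7)
    have hconst : ∀ i ∈ Finset.range 7, bs u ((g ^ i) w) = bs u w := fun i _ => by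
      conv_lhs => rw [← hfix i, h.bs_map (hpow i)]
    rw [hperp s hsF, Finset.sum_congr rfl hconst, Finset.sum_const, Finset.card_range] at hsum
    rw [show (7 : ℕ) • bs u w = bs u w by rw [nsmul_eq_mul]; generalize bs u w = c; revert c; decide] at hsum
    exact hsum.symm
  -- the Gauss sum
  set S : ℤ := ∑ w ∈ F, sgn (qs w) with hS
  have hzero : (0 : V6) ∈ F := (hmem 0).2 (map_zero g)
  have hgauss : S * S = F.card := by
    have hinner : ∀ u ∈ F, ∑ w ∈ F, sgn (bs u w) = if u = 0 then (F.card : ℤ) else 0 := by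
      intro u hu
      split_ifs with hu0
      · subst hu0
        have : ∀ w, bs 0 w = 0 := fun w => by
          show qs (0 + w) + qs 0 + qs w = 0
          rw [zero_add, show qs 0 = 0 by decide, add_zero, CharTwo.add_self_eq_zero]
        simp [this, sgn]
      · obtain ⟨t, ht, htu⟩ : ∃ t ∈ F, bs u t = 1 := by
          by_contra hc
          push Not at hc
          refine hu0 (hnd u hu fun w hw => ?_)
          have := hc w hw
          revert this
          generalize bs u w = c
          revert c; decide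
        have hshift : ∑ w ∈ F, sgn (bs u (w + t)) = ∑ w ∈ F, sgn (bs u w) :=
          Finset.sum_nbij' (fun w => w + t) (fun w => w + t) (fun w hw => hFadd w hw t ht)
            (fun w hw => hFadd w hw t ht)
            (fun w _ => by rw [add_assoc, show t + t = 0 from funext fun i => CharTwo.add_self_eq_zero _, add_zero])
            (fun w _ => by rw [add_assoc, show t + t = 0 from funext fun i => CharTwo.add_self_eq_zero _, add_zero])
            (fun w _ => rfl)
        simp only [bs_add, htu, sgn_add, show sgn 1 = -1 from rfl, mul_neg, mul_one, Finset.sum_neg_distrib]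
          at hshift
        omega
    calc S * S = ∑ u ∈ F, ∑ w ∈ F, sgn (qs u) * sgn (qs w) := by rw [hS, Finset.sum_mul_sum]
      _ = ∑ w ∈ F, ∑ u ∈ F, sgn (qs (u + w)) * sgn (qs w) := by
          rw [Finset.sum_comm]
          refine Finset.sum_congr rfl fun w hw => ?_
          refine Finset.sum_nbij' (fun u => u + w) (fun u => u + w) (fun u hu => hFadd u hu w hw)
            (fun u hu => hFadd u hu w hw) ?_ ?_ ?_
          · exact fun u _ => by rw [add_assoc, show w + w = 0 from funext fun i => CharTwo.add_self_eq_zero _, add_zero]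
          · exact fun u _ => by rw [add_assoc, show w + w = 0 from funext fun i => CharTwo.add_self_eq_zero _, add_zero]
          · exact fun u _ => by rw [add_assoc, show w + w = 0 from funext fun i => CharTwo.add_self_eq_zero _, add_zero]
      _ = ∑ u ∈ F, sgn (qs u) * ∑ w ∈ F, sgn (bs u w) := by
          rw [Finset.sum_comm]
          refine Finset.sum_congr rfl fun u _ => ?_
          rw [Finset.mul_sum]
          refine Finset.sum_congr rfl fun w _ => ?_
          show sgn (qs (u + w)) * sgn (qs w) = sgn (qs u) * sgn (qs (u + w) + qs u + qs w)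
          generalize qs (u + w) = a
          generalize qs u = b
          generalize qs w = c
          revert a b c; decide
      _ = ∑ u ∈ F, if u = 0 then (F.card : ℤ) else 0 := Finset.sum_congr rfl fun u hu => by
          rw [hinner u hu]
          split_ifs with h0
          · subst h0; simp [show qs 0 = 0 by decide, sgn]
          · rw [mul_zero]
      _ = _ := by rw [Finset.sum_ite_eq' F 0, if_pos hzero]
  -- singular vectors of the fixed space
  set Z := F.filter fun w => qs w = 0 with hZ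
  have hSZ : S = 2 * (Z.card : ℤ) - F.card := by
    have e : ∀ w : V6, sgn (qs w) = 2 * (if qs w = 0 then 1 else 0) - 1 := fun w => by
      unfold sgn; split_ifs <;> norm_num
    rw [hS]
    simp only [e]
    rw [Finset.sum_sub_distrib, ← Finset.mul_sum, Finset.sum_boole, Finset.sum_const, nsmul_eq_mul, mul_one, hZ]
  have hsq : ((2 * (Z.card : ℤ) - F.card) * (2 * (Z.card : ℤ) - F.card)) = F.card := hSZ ▸ hgauss
  obtain ⟨n, hn, hnF⟩ : ∃ n, n ≤ 12 ∧ F.card = 2 ^ n := by
    let FS : AddSubgroup V6 :=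
      { carrier := {w | g w = w}, zero_mem' := map_zero g
        add_mem' := fun {a b} ha hb => by show g (a + b) = a + b; rw [map_add, ha, hb]
        neg_mem' := fun {a} ha => by show g (-a) = -a; rw [map_neg, ha] }
    have hd : Nat.card FS ∣ 2 ^ 12 := by
      have := FS.card_addSubgroup_dvd_card
      rwa [show Nat.card V6 = 2 ^ 12 by simp [Nat.card_eq_fintype_card]] at this
    obtain ⟨n, hn, e⟩ := (Nat.dvd_prime_pow Nat.prime_two).1 hd
    refine ⟨n, hn, ?_⟩
    rw [← e, ← Fintype.card_coe, ← Nat.card_eq_fintype_card]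
    exact Nat.card_congr (Equiv.subtypeEquivRight fun w => hmem w)
  have hall7 : (4096 : ℕ) ≡ F.card [MOD 7] := by
    have e := hmod (fun _ => True) (fun _ _ => trivial)
    simpa using e
  have hsing7 : (2080 : ℕ) ≡ Z.card [MOD 7] := by
    have e := hmod (fun w => qs w = 0) (fun w hw => by rw [h.quad g hg]; exact hw)
    rwa [counts.2.2.2] at e
  have hω3 : Z.card % 3 = 1 := by
    have h3 : ∀ w, omV (omV (omV w)) = w := fun w => funext fun i => (omV_om (w i)).2.1
    have hZω : ∀ w ∈ Z, omV w ∈ Z := fun w hw => by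
      rw [hZ, Finset.mem_filter] at hw ⊢
      exact ⟨(hmem _).2 (by rw [hω, (hmem w).1 hw.1]), by rw [qs_omV]; exact hw.2⟩
    let f : Equiv.Perm Z :=
      { toFun := fun w => ⟨omV w, hZω w w.2⟩
        invFun := fun w => ⟨omV (omV w), hZω _ (hZω w w.2)⟩
        left_inv := fun w => Subtype.ext (h3 w)
        right_inv := fun w => Subtype.ext (h3 w) }
    haveI : Fact (Nat.Prime 3) := ⟨Nat.prime_three⟩
    have hf3 : f ^ 3 ^ 1 = 1 := Equiv.ext fun w => Subtype.ext (h3 w)
    have hsupp : f.supportᶜ.card ≡ Fintype.card Z [MOD 3] := Equiv.Perm.card_compl_support_modEq hf3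
    have hone : f.supportᶜ.card = 1 := by
      rw [Finset.card_eq_one]
      refine ⟨⟨0, by rw [hZ, Finset.mem_filter]; exact ⟨hzero, by decide⟩⟩, Finset.ext fun w => ?_⟩
      simp only [Finset.mem_compl, Equiv.Perm.mem_support, not_not, Finset.mem_singleton]
      constructor
      · intro e
        refine Subtype.ext (funext fun i => (omV_om ((w : V6) i)).2.2 (congrFun (congrArg Subtype.val e) i))
      · rintro rfl; exact Subtype.ext (funext fun i => rfl)
    rw [hone, Fintype.card_coe] at hsupp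
    exact hsupp.symm
  have hn0 : n = 0 := by
    have hZle : Z.card ≤ F.card := Finset.card_filter_le _ _
    have hne : n ≠ 12 := by
      rintro rfl
      have huniv : F = Finset.univ := Finset.eq_univ_of_card _ (by rw [hnF]; simp)
      have : g = 1 := LinearEquiv.ext fun w => (hmem w).1 (huniv ▸ Finset.mem_univ w)
      rw [this, orderOf_one] at h7
      norm_num at h7
    have hn6 : n = 0 ∨ n = 3 ∨ n = 6 ∨ n = 9 := by
      rw [hnF] at hall7
      unfold Nat.ModEq at hall7
      interval_cases n <;> norm_num at hall7 <;> omega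
    rcases hn6 with e | e | e | e
    · exact e
    all_goals (exfalso; subst e; rw [hnF] at hsq hZle; norm_num at hsq hZle)
    · have hsq' : (2 * (Z.card : ℤ) - 8) * (2 * (Z.card : ℤ) - 8) = 8 := hsq
      interval_cases hz : Z.card <;> norm_num at hsq'
    · have hsq' : (2 * (Z.card : ℤ) - 64) * (2 * (Z.card : ℤ) - 64) = 64 := hsq
      unfold Nat.ModEq at hsing7
      interval_cases hz : Z.card <;> first | omega | (norm_num at hsq')
    · have hsq' : (2 * (Z.card : ℤ) - 512) * (2 * (Z.card : ℤ) - 512) = 512 := hsq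
      have h1 : (2 * (Z.card : ℤ) - 512) ≤ 22 := by nlinarith
      have h2 : -22 ≤ (2 * (Z.card : ℤ) - 512) := by nlinarith
      have h3 : Z.card ≤ 267 := by omega
      have h4 : 245 ≤ Z.card := by omega
      interval_cases hz : Z.card <;> norm_num at hsq'
  rw [hn0, pow_zero, Finset.card_eq_one] at hnF
  obtain ⟨a, ha⟩ := hnF
  have h1 := ha ▸ hzero
  have h2 := ha ▸ (hmem v).2 hv
  rw [Finset.mem_singleton] at h1 h2
  rw [h2, ← h1]

theorem finite_K : Finite K := Nat.finite_of_card_ne_zero (by rw [h.card]; norm_num)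

theorem card_orb_mul (v : V6) : ∃ s, (h.orb v).card * s = 19595520 ∧ (v ≠ 0 → ¬ 7 ∣ s) := by
  classical
  haveI := h.finite_K
  set S : Subgroup K :=
    { carrier := {g | (g : V6 ≃ₗ[ZMod 2] V6) v = v}
      one_mem' := rfl
      mul_mem' := fun {a b} ha hb => by
        show (a : V6 ≃ₗ[ZMod 2] V6) ((b : V6 ≃ₗ[ZMod 2] V6) v) = v; rw [hb, ha]
      inv_mem' := fun {a} ha => by
        show (a : V6 ≃ₗ[ZMod 2] V6).symm v = v
        conv_lhs => rw [← ha]
        exact (a : V6 ≃ₗ[ZMod 2] V6).symm_apply_apply v }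
  refine ⟨Nat.card S, ?_, fun hv hd => ?_⟩
  · rw [← h.card, ← S.card_mul_index, mul_comm, Subgroup.index_eq_card, ← Fintype.card_coe,
      ← Nat.card_eq_fintype_card]
    congr 1
    let f : K ⧸ S → h.orb v := Quotient.lift (fun g : K => ⟨(g : V6 ≃ₗ[ZMod 2] V6) v, h.mem_orb.2 ⟨g, g.2, rfl⟩⟩)
      fun a b hab => Subtype.ext (by
        have hab' : a⁻¹ * b ∈ S := QuotientGroup.leftRel_apply.1 hab
        have : (a : V6 ≃ₗ[ZMod 2] V6).symm ((b : V6 ≃ₗ[ZMod 2] V6) v) = v := hab'
        show (a : V6 ≃ₗ[ZMod 2] V6) v = (b : V6 ≃ₗ[ZMod 2] V6) v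
        conv_lhs => rw [← this, LinearEquiv.apply_symm_apply])
    refine (Nat.card_congr (Equiv.ofBijective f ⟨?_, ?_⟩)).symm
    · rintro ⟨a⟩ ⟨b⟩ e
      refine Quotient.sound (QuotientGroup.leftRel_apply.2 ?_)
      show (a : V6 ≃ₗ[ZMod 2] V6).symm ((b : V6 ≃ₗ[ZMod 2] V6) v) = v
      have e' : (a : V6 ≃ₗ[ZMod 2] V6) v = (b : V6 ≃ₗ[ZMod 2] V6) v := congrArg Subtype.val e
      rw [← e', LinearEquiv.symm_apply_apply]
    · rintro ⟨w, hw⟩
      obtain ⟨g, hg, rfl⟩ := h.mem_orb.1 hw
      exact ⟨QuotientGroup.mk ⟨g, hg⟩, rfl⟩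
  · haveI : Fact (Nat.Prime 7) := ⟨by norm_num⟩
    obtain ⟨g, hg⟩ := exists_prime_orderOf_dvd_card' (G := S) 7 hd
    rw [← Subgroup.orderOf_coe, ← Subgroup.orderOf_coe] at hg
    exact hv (h.seven_fixed _ (g : K).2 hg v g.2)

theorem card_orb_cond {v : V6} (hv : v ≠ 0) :
    7 ∣ (h.orb v).card ∧ (h.orb v).card ∣ 19595520 ∧ (h.orb v).card ≠ 0 := by
  obtain ⟨s, hs, h7⟩ := h.card_orb_mul v
  refine ⟨?_, ⟨s, hs.symm⟩, Finset.card_ne_zero.2 ⟨v, h.self_mem v⟩⟩
  exact ((show Nat.Prime 7 by norm_num).dvd_mul.1 (hs ▸ (by norm_num : 7 ∣ 19595520))).resolve_right (h7 hv)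

end Model

/-- Representatives of the parts. -/
def rep : Fin 5 → V6 := ![c2, c4, c6 0, c6 1, c6 2]

theorem rep_facts : ∀ i, qs (rep i) = 0 ∧ rep i ≠ 0 := by decide +kernel

theorem rep_part : (wt (rep 0) = 2) ∧ wt (rep 1) = 4 ∧
    ∀ k : ZMod 3, wt (c6 k) = 6 ∧ cls (c6 k) = k := by decide +kernel

theorem orbit_arith : ∀ b : Fin 5 → Bool,
    (((if b 0 then 135 else 0) + (if b 1 then 1215 else 0) + (if b 2 then 243 else 0) + (if b 3 then 243 else 0) +
      (if b 4 then 243 else 0)) % 7 = 0 ∧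
      19595520 % ((if b 0 then 135 else 0) + (if b 1 then 1215 else 0) + (if b 2 then 243 else 0) +
        (if b 3 then 243 else 0) + (if b 4 then 243 else 0)) = 0) →
    ((b 0 = true → ((if b 0 then 135 else 0) + (if b 1 then 1215 else 0) + (if b 2 then 243 else 0) +
        (if b 3 then 243 else 0) + (if b 4 then 243 else 0) = 378) ∧
        ∃ k : Fin 5, 2 ≤ k.1 ∧ ∀ i, b i = decide (i = 0 ∨ i = k)) ∧
     (b 1 = true → ((if b 0 then 135 else 0) + (if b 1 then 1215 else 0) + (if b 2 then 243 else 0) +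
        (if b 3 then 243 else 0) + (if b 4 then 243 else 0) = 1701) ∧
        ∃ k : Fin 5, 2 ≤ k.1 ∧ ∀ i, b i = decide (i ≠ 0 ∧ i ≠ k))) := by decide +kernel

namespace Model

variable {K : Subgroup (V6 ≃ₗ[ZMod 2] V6)} (h : Model K)
include h

theorem orb_of_part {v : V6} (hq : qs v = 0) (hv : v ≠ 0) : ∃ i, h.orb v = h.orb (rep i) ∧
    ((i = 0 ∧ wt v = 2) ∨ (i = 1 ∧ wt v = 4) ∨ (wt v = 6 ∧ (i : ℕ) = 2 + (cls v).val)) := by
  rcases h.wt_cases hq hv with e | e | e
  · exact ⟨0, h.canon_two e, Or.inl ⟨rfl, e⟩⟩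
  · exact ⟨1, h.canon_four e, Or.inr (Or.inl ⟨rfl, e⟩)⟩
  · refine ⟨⟨2 + (cls v).val, by have := ZMod.val_lt (cls v); omega⟩, ?_, Or.inr (Or.inr ⟨e, rfl⟩)⟩
    rw [h.canon_six e]
    congr 1
    have key : ∀ (k : ZMod 3) (hk : 2 + k.val < 5), c6 k = rep ⟨2 + k.val, hk⟩ := by decide +kernel
    exact key _ _

/-- The orbit of a singular vector is a union of the parts. -/
theorem card_orb_eq (r : V6) (hq : qs r = 0) (hr : r ≠ 0) : ∃ b : Fin 5 → Bool,
    (∀ i, b i = true ↔ h.orb (rep i) = h.orb r) ∧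
    (h.orb r).card = (if b 0 then 135 else 0) + (if b 1 then 1215 else 0) + (if b 2 then 243 else 0) +
      (if b 3 then 243 else 0) + (if b 4 then 243 else 0) := by
  classical
  refine ⟨fun i => decide (h.orb (rep i) = h.orb r), fun i => decide_eq_true_iff, ?_⟩
  have hin : ∀ v, v ∈ h.orb r ↔ qs v = 0 ∧ v ≠ 0 ∧ h.orb v = h.orb r := fun v =>
    ⟨fun hv => ⟨(h.qs_zero_of_orb hv).trans hq, h.ne_zero_of_orb hr hv, h.orb_eq hv⟩,
      fun hv => hv.2.2 ▸ h.self_mem v⟩
  have hsplit : h.orb r = ((((Finset.univ.filter fun v : V6 => wt v = 2 ∧ h.orb (rep 0) = h.orb r) ∪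
      (Finset.univ.filter fun v : V6 => wt v = 4 ∧ h.orb (rep 1) = h.orb r)) ∪
      (Finset.univ.filter fun v : V6 => (wt v = 6 ∧ cls v = 0) ∧ h.orb (rep 2) = h.orb r)) ∪
      (Finset.univ.filter fun v : V6 => (wt v = 6 ∧ cls v = 1) ∧ h.orb (rep 3) = h.orb r)) ∪
      (Finset.univ.filter fun v : V6 => (wt v = 6 ∧ cls v = 2) ∧ h.orb (rep 4) = h.orb r) := by
    ext v
    simp only [Finset.mem_union, Finset.mem_filter, Finset.mem_univ, true_and]
    constructor
    · intro hv
      obtain ⟨hq', hv', he⟩ := (hin v).1 hv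
      obtain ⟨i, hi, hc⟩ := h.orb_of_part hq' hv'
      rw [hi] at he
      rcases hc with ⟨rfl, hw⟩ | ⟨rfl, hw⟩ | ⟨hw, hc⟩
      · exact Or.inl (Or.inl (Or.inl (Or.inl ⟨hw, he⟩)))
      · exact Or.inl (Or.inl (Or.inl (Or.inr ⟨hw, he⟩)))
      · rcases (by decide : ∀ j : ZMod 3, j = 0 ∨ j = 1 ∨ j = 2) (cls v) with e | e | e
        · rw [e] at hc
          obtain rfl : i = 2 := Fin.ext hc
          exact Or.inl (Or.inl (Or.inr ⟨⟨hw, e⟩, he⟩))
        · rw [e] at hc
          obtain rfl : i = 3 := Fin.ext hc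
          exact Or.inl (Or.inr ⟨⟨hw, e⟩, he⟩)
        · rw [e] at hc
          obtain rfl : i = 4 := Fin.ext hc
          exact Or.inr ⟨⟨hw, e⟩, he⟩
    · intro hv
      rcases hv with (((⟨hw, he⟩ | ⟨hw, he⟩) | ⟨⟨hw, hc⟩, he⟩) | ⟨⟨hw, hc⟩, he⟩) | ⟨⟨hw, hc⟩, he⟩
      · rw [← he, show h.orb (rep 0) = h.orb v from (h.canon_two hw).symm]; exact h.self_mem v
      · rw [← he, show h.orb (rep 1) = h.orb v from (h.canon_four hw).symm]; exact h.self_mem v
      all_goals
        rw [← he]
        have e := h.canon_six hw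
        rw [hc] at e
        exact e ▸ h.self_mem v
  have hpc : ∀ (p : V6 → Prop) [DecidablePred p] (c : Prop) [Decidable c],
      (Finset.univ.filter fun v => p v ∧ c).card = if c then (Finset.univ.filter p).card else 0 := by
    intro p _ c _
    split_ifs with hc <;> simp [hc]
  rw [congrArg Finset.card hsplit, Finset.card_union_of_disjoint, Finset.card_union_of_disjoint,
    Finset.card_union_of_disjoint, Finset.card_union_of_disjoint]
  · simp only [decide_eq_true_eq, hpc, counts.1, counts.2.1, counts.2.2.1]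
  all_goals
    rw [Finset.disjoint_left]
    intro v
    simp only [Finset.mem_union, Finset.mem_filter, Finset.mem_univ, true_and]
    have hd : (0 : ZMod 3) ≠ 1 ∧ (0 : ZMod 3) ≠ 2 ∧ (1 : ZMod 3) ≠ 2 := by decide
  · rintro ⟨e, -⟩ ⟨e', -⟩; omega
  · rintro (⟨e, -⟩ | ⟨e, -⟩) ⟨⟨e', -⟩, -⟩ <;> omega
  · rintro ((⟨e, -⟩ | ⟨e, -⟩) | ⟨⟨-, c⟩, -⟩) ⟨⟨e', c'⟩, -⟩
    · omega
    · omega
    · exact hd.1 (c.symm.trans c')
  · rintro (((⟨e, -⟩ | ⟨e, -⟩) | ⟨⟨-, c⟩, -⟩) | ⟨⟨-, c⟩, -⟩) ⟨⟨e', c'⟩, -⟩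
    · omega
    · omega
    · exact hd.2.1 (c.symm.trans c')
    · exact hd.2.2 (c.symm.trans c')

/-- The two orbits. -/
theorem two_orbits : h.orb c2 ≠ h.orb c4 ∧ (h.orb c2).card = 378 ∧ (h.orb c4).card = 1701 ∧
    (∀ v, qs v = 0 → v ≠ 0 → h.orb v = h.orb c2 ∨ h.orb v = h.orb c4) ∧
    ∃ k : ZMod 3, h.orb (c6 k) = h.orb c4 := by
  obtain ⟨b, hb, hcard⟩ := h.card_orb_eq c2 (rep_facts 0).1 (rep_facts 0).2
  obtain ⟨b', hb', hcard'⟩ := h.card_orb_eq c4 (rep_facts 1).1 (rep_facts 1).2
  have harith : ∀ (b : Fin 5 → Bool) (n : ℕ), n = (if b 0 then 135 else 0) + (if b 1 then 1215 else 0) +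
      (if b 2 then 243 else 0) + (if b 3 then 243 else 0) + (if b 4 then 243 else 0) →
      7 ∣ n ∧ n ∣ 19595520 ∧ n ≠ 0 → _ := fun b n e hn =>
    orbit_arith b ⟨Nat.mod_eq_zero_of_dvd (e ▸ hn.1), Nat.mod_eq_zero_of_dvd (e ▸ hn.2.1)⟩
  obtain ⟨hc0, k, hk, hbk⟩ := (harith b _ hcard (h.card_orb_cond (rep_facts 0).2)).1 ((hb 0).2 rfl)
  obtain ⟨hc1, k', hk', hbk'⟩ := (harith b' _ hcard' (h.card_orb_cond (rep_facts 1).2)).2 ((hb' 1).2 rfl)
  have hne : h.orb c2 ≠ h.orb c4 := fun e => by
    have h1 : b 1 = true := (hb 1).2 e.symm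
    rw [hbk 1] at h1
    simp only [decide_eq_true_eq] at h1
    rcases h1 with h1 | h1
    · exact absurd h1 (by decide)
    · rw [← h1] at hk; simp at hk
  have hc : (h.orb c2).card = 378 := hcard.trans hc0
  have hc' : (h.orb c4).card = 1701 := hcard'.trans hc1
  have hkk : k = k' := by
    by_contra hne'
    have h1 : b k = true := by rw [hbk]; simp
    have h2 : b' k = true := by
      rw [hbk']
      simp only [decide_eq_true_eq]
      exact ⟨fun e => by rw [e] at hk; simp at hk, hne'⟩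
    exact hne (((hb k).1 h1).symm.trans ((hb' k).1 h2))
  subst hkk
  refine ⟨hne, hc, hc', fun v hq hv => ?_, ?_⟩
  · obtain ⟨i, hi, -⟩ := h.orb_of_part hq hv
    rw [hi]
    by_cases he : i = 0 ∨ i = k
    · exact Or.inl ((hb i).1 (by rw [hbk]; simpa using he))
    · exact Or.inr ((hb' i).1 (by rw [hbk']; simpa using he))
  · have hex : ∀ k : Fin 5, 2 ≤ k.1 → ∃ j : ZMod 3, ∃ i : Fin 5, i ≠ 0 ∧ i ≠ k ∧ rep i = c6 j := by decide +kernel
    obtain ⟨j, i, hi0, hik, hi⟩ := hex k hk
    exact ⟨j, hi ▸ (hb' i).1 (by rw [hbk']; simp [hi0, hik])⟩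

end Model

end CfsgLib.Sporadic.LargeFischer
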