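import Cfsg.Agent.Lib.Sporadic.LargeFischer.Basic

/-!
# The two orbits on the singular vectors

The monomial group splits the 2079 non-zero singular vectors into sets of sizes 135, 1215, 243, 243 and 243;
each orbit is a union of these, of size divisible by 7 and dividing the order of the group.
-/

set_option autoImplicit false
set_option linter.unusedSectionVars false

namespace CfsgLib.Sporadic.LargeFischer

/-- The number of non-zero components. -/
def wt (v : V6) : ℕ := (Finset.univ.filter fun i => v i ≠ 0).card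

/-- The exponent of a non-zero element with respect to `(1, 0)`. -/
def dlog (d : D4) : ZMod 3 := if d = (0, 1) then 1 else if d = (1, 1) then 2 else 0

/-- The class of a vector of full support. -/
def cls (v : V6) : ZMod 3 := ∑ i, dlog (v i)

theorem dlog_spec : ∀ d : D4, d ≠ 0 → omp (-dlog d) d = (1, 0) := by decide

theorem omp_spec : ∀ (j : ZMod 3) (d : D4), omp j (0 : D4) = 0 ∧
    (d ≠ 0 → omp j d ≠ 0 ∧ dlog (omp j d) = j + dlog d) := by decide

theorem nzd_zero_iff : ∀ d, nzd d = 0 ↔ d = 0 := by decide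

theorem qs_eq_wt (v : V6) : qs v = (wt v : ZMod 2) := by
  rw [qs, wt, ← Finset.sum_filter_ne_zero]
  have e : (Finset.univ.filter fun i => nzd (v i) ≠ 0) = Finset.univ.filter fun i => v i ≠ 0 := by
    ext i; simp [nzd_zero_iff]
  rw [e, Finset.card_eq_sum_ones, Nat.cast_sum]
  refine Finset.sum_congr rfl fun i hi => ?_
  have hi' := (Finset.mem_filter.1 hi).2
  simp [nzd, hi']

theorem counts : (Finset.univ.filter fun v : V6 => wt v = 2).card = 135 ∧
    (Finset.univ.filter fun v : V6 => wt v = 4).card = 1215 ∧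
    (∀ k : ZMod 3, (Finset.univ.filter fun v : V6 => wt v = 6 ∧ cls v = k).card = 243) ∧
    (Finset.univ.filter fun v : V6 => qs v = 0).card = 2080 := by decide +kernel

/-- The canonical vector of weight two. -/
def c2 : V6 := ![(1, 0), (1, 0), 0, 0, 0, 0]

/-- The canonical vector of weight four. -/
def c4 : V6 := ![(1, 0), (1, 0), (1, 0), (1, 0), 0, 0]

/-- The canonical vector of weight six and class `k`. -/
def c6 (k : ZMod 3) : V6 := ![omp k (1, 0), (1, 0), (1, 0), (1, 0), (1, 0), (1, 0)]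

theorem exists_even_move (a b a' b' c d : Fin 6) (hab : a ≠ b) (hab' : a' ≠ b')
    (hc : c ≠ a' ∧ c ≠ b' ∧ d ≠ a' ∧ d ≠ b' ∧ c ≠ d) :
    ∃ p ∈ alternatingGroup (Fin 6), p a = a' ∧ p b = b' := by
  set p₁ := Equiv.swap a a'
  set p := Equiv.swap (p₁ b) b' * p₁ with hp
  have h1 : p₁ b ≠ a' := fun e => hab (p₁.injective (by rw [e, Equiv.swap_apply_left]))
  have hpa : p a = a' := by
    rw [hp, Equiv.Perm.mul_apply, Equiv.swap_apply_left, Equiv.swap_apply_of_ne_of_ne (Ne.symm h1) hab']
  have hpb : p b = b' := by rw [hp, Equiv.Perm.mul_apply, Equiv.swap_apply_left]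
  rcases Int.units_eq_one_or (Equiv.Perm.sign p) with e | e
  · exact ⟨p, e, hpa, hpb⟩
  · refine ⟨Equiv.swap c d * p, ?_, ?_, ?_⟩
    · rw [Equiv.Perm.mem_alternatingGroup, map_mul, e, Equiv.Perm.sign_swap hc.2.2.2.2]; rfl
    · rw [Equiv.Perm.mul_apply, hpa, Equiv.swap_apply_of_ne_of_ne hc.1.symm hc.2.2.1.symm]
    · rw [Equiv.Perm.mul_apply, hpb, Equiv.swap_apply_of_ne_of_ne hc.2.1.symm hc.2.2.2.1.symm]

namespace Model

variable {K : Subgroup (V6 ≃ₗ[ZMod 2] V6)} (h : Model K)
include h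

/-- The orbit of a vector. -/
noncomputable def orb (_h : Model K) (v : V6) : Finset V6 :=
  open scoped Classical in Finset.univ.filter fun w => ∃ g ∈ K, g v = w

theorem mem_orb {v w : V6} : w ∈ h.orb v ↔ ∃ g ∈ K, g v = w := by simp [orb]

theorem orb_eq {v w : V6} (hw : w ∈ h.orb v) : h.orb w = h.orb v := by
  obtain ⟨g, hg, rfl⟩ := h.mem_orb.1 hw
  ext u
  rw [h.mem_orb, h.mem_orb]
  constructor
  · rintro ⟨g', hg', rfl⟩; exact ⟨g' * g, mul_mem hg' hg, rfl⟩
  · rintro ⟨g', hg', rfl⟩
    refine ⟨g' * g⁻¹, mul_mem hg' (inv_mem hg), ?_⟩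
    show g' (g.symm (g v)) = g' v
    rw [g.symm_apply_apply]

theorem self_mem (v : V6) : v ∈ h.orb v := h.mem_orb.2 ⟨1, one_mem _, rfl⟩

/-- Even rearrangements followed by an adjustment of the phases. -/
theorem move (v : V6) (p : Equiv.Perm (Fin 6)) (hp : p ∈ alternatingGroup (Fin 6)) (a : Fin 6 → ZMod 3)
    (ha : ∑ i, a i = 0) : (fun i => omp (a i) (v (p.symm i))) ∈ h.orb v := by
  obtain ⟨g, hg, hgv⟩ := h.perm p hp
  obtain ⟨d, hd, hdv⟩ := h.diag a ha
  refine h.mem_orb.2 ⟨d * g, mul_mem hd hg, funext fun i => ?_⟩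
  show d (g v) i = _
  rw [hdv]
  congr 1
  have := hgv v (p.symm i)
  rwa [p.apply_symm_apply] at this

/-- Normal form of a vector whose support is not everything. -/
theorem to_canon (u : V6) (o : Fin 6) (ho : u o = 0) :
    (fun i => if u i = 0 then (0 : D4) else (1, 0)) ∈ h.orb u := by
  set a : Fin 6 → ZMod 3 := fun i => if i = o then ∑ j ∈ Finset.univ.erase o, dlog (u j) else -dlog (u i) with ha
  have hsum : ∑ i, a i = 0 := by
    rw [← Finset.add_sum_erase _ _ (Finset.mem_univ o), ha]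
    simp only [if_true]
    rw [Finset.sum_congr rfl fun i hi => if_neg (Finset.ne_of_mem_erase hi), Finset.sum_neg_distrib, add_neg_cancel]
  have := h.move u 1 (one_mem _) a hsum
  convert this using 1
  funext i
  show _ = omp (a i) (u i)
  by_cases hi : u i = 0
  · rw [if_pos hi, hi, (omp_spec (a i) 0).1]
  · have hio : i ≠ o := fun e => hi (e ▸ ho)
    rw [if_neg hi, ha]
    simp only [if_neg hio]
    exact (dlog_spec _ hi).symm

theorem canon_two {v : V6} (hv : wt v = 2) : h.orb v = h.orb c2 := by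
  obtain ⟨a, b, hab, hS⟩ := Finset.card_eq_two.1 hv
  obtain ⟨p, hp, hpa, hpb⟩ := exists_even_move a b 0 1 2 3 hab (by decide) (by decide)
  have hm := h.move v p hp (fun _ => 0) (by simp)
  set u : V6 := fun i => omp ((fun _ : Fin 6 => (0 : ZMod 3)) i) (v (p.symm i)) with hu
  have hzero : ∀ i, u i = 0 ↔ i ∉ ({0, 1} : Finset (Fin 6)) := by
    intro i
    show v (p.symm i) = 0 ↔ _
    have : p.symm i ∈ ({a, b} : Finset (Fin 6)) ↔ v (p.symm i) ≠ 0 := by rw [← hS]; simp
    rw [← not_iff_not, not_not, ← ne_eq, ← this]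
    simp only [Finset.mem_insert, Finset.mem_singleton, Equiv.symm_apply_eq, hpa, hpb]
  have hc := h.to_canon u 2 ((hzero 2).2 (by decide))
  rw [← h.orb_eq hm, ← h.orb_eq hc]
  congr 1
  funext i
  by_cases hi : i ∈ ({0, 1} : Finset (Fin 6))
  · rw [if_neg (fun e => (hzero i).1 e hi)]; revert i; decide
  · rw [if_pos ((hzero i).2 hi)]; revert i; decide

theorem canon_four {v : V6} (hv : wt v = 4) : h.orb v = h.orb c4 := by
  have hz : (Finset.univ.filter fun i => v i = 0).card = 2 := by
    have := Finset.card_filter_add_card_filter_not (s := (Finset.univ : Finset (Fin 6))) (p := fun i => v i ≠ 0)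
    simp only [not_not, Finset.card_univ, Fintype.card_fin] at this
    unfold wt at hv
    omega
  obtain ⟨a, b, hab, hS⟩ := Finset.card_eq_two.1 hz
  obtain ⟨p, hp, hpa, hpb⟩ := exists_even_move a b 4 5 0 1 hab (by decide) (by decide)
  have hm := h.move v p hp (fun _ => 0) (by simp)
  set u : V6 := fun i => omp ((fun _ : Fin 6 => (0 : ZMod 3)) i) (v (p.symm i)) with hu
  have hzero : ∀ i, u i = 0 ↔ i ∈ ({4, 5} : Finset (Fin 6)) := by
    intro i
    show v (p.symm i) = 0 ↔ _
    have : p.symm i ∈ ({a, b} : Finset (Fin 6)) ↔ v (p.symm i) = 0 := by rw [← hS]; simp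
    rw [← this]
    simp only [Finset.mem_insert, Finset.mem_singleton, Equiv.symm_apply_eq, hpa, hpb]
  have hc := h.to_canon u 4 ((hzero 4).2 (by decide))
  rw [← h.orb_eq hm, ← h.orb_eq hc]
  congr 1
  funext i
  by_cases hi : i ∈ ({4, 5} : Finset (Fin 6))
  · rw [if_pos ((hzero i).2 hi)]; revert i; decide
  · rw [if_neg (fun e => hi ((hzero i).1 e))]; revert i; decide

theorem canon_six {v : V6} (hv : wt v = 6) : h.orb v = h.orb (c6 (cls v)) := by
  have hne : ∀ i, v i ≠ 0 := fun i => by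
    have e : (Finset.univ.filter fun i => v i ≠ 0) = Finset.univ := Finset.eq_univ_of_card _ (by simpa [wt] using hv)
    have := e ▸ Finset.mem_univ i
    exact (Finset.mem_filter.1 this).2
  set a : Fin 6 → ZMod 3 := fun i => if i = 0 then ∑ j ∈ Finset.univ.erase 0, dlog (v j) else -dlog (v i) with ha
  have hsum : ∑ i, a i = 0 := by
    rw [← Finset.add_sum_erase _ _ (Finset.mem_univ (0 : Fin 6)), ha]
    simp only [if_true]
    rw [Finset.sum_congr rfl fun i hi => if_neg (Finset.ne_of_mem_erase hi), Finset.sum_neg_distrib, add_neg_cancel]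
  have hm := h.move v 1 (one_mem _) a hsum
  rw [← h.orb_eq hm]
  congr 1
  funext i
  show omp (a i) (v i) = _
  have hdl : ∀ (d : D4) (j : ZMod 3), d ≠ 0 → dlog d = j → d = omp j (1, 0) := by decide
  by_cases hi : i = 0
  · subst hi
    refine (hdl _ (cls v) ((omp_spec _ _).2 (hne 0)).1 ?_).trans rfl
    rw [((omp_spec _ _).2 (hne 0)).2, ha, cls, ← Finset.add_sum_erase _ _ (Finset.mem_univ (0 : Fin 6))]
    simp only [if_true]
    rw [add_comm]
  · rw [ha]
    simp only [if_neg hi]
    rw [dlog_spec _ (hne i)]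
    revert i
    generalize cls v = k
    revert k
    decide

theorem wt_cases {v : V6} (hq : qs v = 0) (hv : v ≠ 0) : wt v = 2 ∨ wt v = 4 ∨ wt v = 6 := by
  have h6 : wt v ≤ 6 := (Finset.card_filter_le _ _).trans (by simp)
  have h0 : wt v ≠ 0 := fun e => hv (funext fun i => by
    have := Finset.card_eq_zero.1 e
    rw [Finset.filter_eq_empty_iff] at this
    simpa using this (Finset.mem_univ i))
  rw [qs_eq_wt, ZMod.natCast_eq_zero_iff_even] at hq
  obtain ⟨j, hj⟩ := hq
  omega

theorem qs_zero_of_orb {v w : V6} (hw : w ∈ h.orb v) : qs w = qs v := by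
  obtain ⟨g, hg, rfl⟩ := h.mem_orb.1 hw
  exact h.quad g hg v

theorem ne_zero_of_orb {v w : V6} (hv : v ≠ 0) (hw : w ∈ h.orb v) : w ≠ 0 := by
  obtain ⟨g, -, rfl⟩ := h.mem_orb.1 hw
  exact fun e => hv (g.map_eq_zero_iff.1 e)

end Model

end CfsgLib.Sporadic.LargeFischer
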