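import Cfsg.Agent.Lib.Sporadic.LargeFischer.Pairs
import Cfsg.Agent.Lib.Sporadic.LargeFischer.Lifts

/-!
# Groups of large Fischer type: the pair attached to a conjugate of `z`, and the centraliser of the scalars
-/

set_option autoImplicit false
set_option linter.style.haveILetI false
set_option linter.unusedSectionVars false

namespace CfsgLib.Sporadic.LargeFischer

open CfsgLib.ThreeTransp.Extraspecial

namespace LF

variable {G : Type*} [Group G] [Finite G] {z : G} {Q : Subgroup (Subgroup.centralizer ({z} : Set G))} [Q.Normal]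
  {π : G → V6} {ψ : ↥(Subgroup.centralizer ({z} : Set G)) →* (V6 ≃ₗ[ZMod 2] V6)} (h : LF z (qImg Q) π ψ)
include h

theorem pair_data {g : G} (hu : g * z * g⁻¹ ∈ qImg Q) (hne : g * z * g⁻¹ ≠ z) :
    ∃ (R : AddSubgroup V6) (E : Subgroup (V6 ≃ₗ[ZMod 2] V6)), Pair h.model (π (g * z * g⁻¹)) R E ∧
      (∀ w, w ∈ R ↔ ∃ a ∈ qImg Q ⊓ (qImg Q).map (MulAut.conj g).toMonoidHom, π a = w) ∧
      (∀ e, e ∈ E ↔ ∃ c : ↥(Subgroup.centralizer ({z} : Set G)),
        (c : G) ∈ (qImg Q).map (MulAut.conj g).toMonoidHom ∧ ψ c = e) ∧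
      ∀ q ∈ qImg Q, (∀ a ∈ qImg Q ⊓ (qImg Q).map (MulAut.conj g).toMonoidHom, q * a = a * q) →
        q ∈ qImg Q ⊓ (qImg Q).map (MulAut.conj g).toMonoidHom := by
  classical
  obtain ⟨-, hcomm, hzR, hsR, -, -⟩ := h.inter_props hu hne
  obtain ⟨R, hR, hsing, hcard, hinv⟩ := h.inter_image hu hne
  have h' : Extra ((qImg Q).map (MulAut.conj g).toMonoidHom) (g * z * g⁻¹) := h.extra.map_conj g
  set A := ((qImg Q).map (MulAut.conj g).toMonoidHom ⊓ Subgroup.centralizer ({z} : Set G)).subgroupOf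
    (Subgroup.centralizer ({z} : Set G)) with hA
  obtain ⟨-, hR7, -, -, -, hE32, -⟩ := h.pair_structure hu hne _ _ rfl rfl
  have h64 : Nat.card R = 64 := by rw [hR7] at hcard; omega
  have hE : Nat.card (A.map ψ) = 32 := by
    rw [← hE32]
    have e : ψ = (ψ.range.subtype.comp h.quotEquiv.toMonoidHom).comp (QuotientGroup.mk' Q) :=
      MonoidHom.ext fun c => rfl
    rw [show A.map ψ = (A.map (QuotientGroup.mk' Q)).map (ψ.range.subtype.comp h.quotEquiv.toMonoidHom) by
      rw [Subgroup.map_map, ← e]]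
    exact Subgroup.card_map_of_injective (ψ.range.subtype_injective.comp h.quotEquiv.injective)
  have hmem : ∀ e, e ∈ A.map ψ ↔ ∃ c : ↥(Subgroup.centralizer ({z} : Set G)),
      (c : G) ∈ (qImg Q).map (MulAut.conj g).toMonoidHom ∧ ψ c = e := fun e => by
    constructor
    · rintro ⟨c, hc, rfl⟩; exact ⟨c, hc.1, rfl⟩
    · rintro ⟨c, hc, rfl⟩; exact ⟨c, ⟨hc, c.2⟩, rfl⟩
  have hvR : π (g * z * g⁻¹) ∈ R := (hR _).2 ⟨_, hsR, rfl⟩
  refine ⟨R, A.map ψ, ?_, hR, hmem, fun q hq hqc => ?_⟩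
  · refine ⟨h.fused_orbit hu hne ▸ h.model.self_mem _, hsing, h64, hvR, hinv, ?_, ?_, ?_, hE⟩
    · rintro _ ⟨c, -, rfl⟩; exact ⟨c, rfl⟩
    · rintro _ ⟨c, hc, rfl⟩
      have e1 : (c : G) * (g * z * g⁻¹) = g * z * g⁻¹ * (c : G) := (h'.z_comm hc.1).symm
      rw [← h.act c _ hu, e1, mul_inv_cancel_right]
    · rintro _ ⟨c, hc, rfl⟩ w hw
      obtain ⟨a, ha, rfl⟩ := (hR w).1 hw
      rw [← h.act c a ha.1]
      rcases h'.conj_cases ha.2 hc.1 with e | e
      · left; exact congrArg π e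
      · right
        exact (congrArg π e).trans (h.π_mul a ha.1 _ hu)
  · have hπ : π q ∈ R := perp_mem R hsing h64 fun w hw => by
      obtain ⟨a, ha, rfl⟩ := (hR w).1 hw
      exact h.bs_of_commute hq ha.1 (hqc a ha)
    obtain ⟨a, ha, e⟩ := (hR _).1 hπ
    rcases (h.π_eq_iff ha.1 hq).1 e with rfl | rfl
    · exact ha
    · exact mul_mem ha hzR

/-- Some element of `C(z)` inverts the scalar of order three. -/
theorem exists_inverting {g : G} (hu : g * z * g⁻¹ ∈ qImg Q) (hne : g * z * g⁻¹ ≠ z) :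
    ∃ c : ↥(Subgroup.centralizer ({z} : Set G)), ¬ ∀ w, ψ c (omV w) = omV (ψ c w) := by
  obtain ⟨R, E, P, -, hE, -⟩ := h.pair_data hu hne
  by_contra hall
  push Not at hall
  obtain ⟨rp, -, -, -, -, -, -, h16, -⟩ := P.exists_pairs
  have e : linPart E = E := le_antisymm (fun e he => he.1) fun e he => ⟨he, by
    obtain ⟨c, -, rfl⟩ := (hE e).1 he; exact hall c⟩
  rw [e, P.cardE] at h16
  omega

/-- The subgroup of `C(z)` commuting with the scalars modulo `Q`. -/
theorem exists_M {g : G} (hu : g * z * g⁻¹ ∈ qImg Q) (hne : g * z * g⁻¹ ≠ z) :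
    ∃ (N M : Subgroup ↥(Subgroup.centralizer ({z} : Set G))) (_ : N.Normal) (_ : M.Normal),
      N ≤ M ∧ M.index = 2 ∧ Nat.card N = 3 * 8192 ∧ Q ≤ N ∧ (∃ c ∈ N, ∀ v, ψ c v = omV v) ∧
      Nonempty (↥M ⧸ N.subgroupOf M ≃* U43) ∧ IsSimpleGroup U43 ∧ Nat.card U43 = 3265920 ∧
      Nat.card ↥(Subgroup.centralizer ({z} : Set G)) = 8192 * 19595520 ∧
      (∀ c, c ∈ M ↔ ∀ w, ψ c (omV w) = omV (ψ c w)) ∧
      ∀ c ∈ N, (c : ↥(Subgroup.centralizer ({z} : Set G))) ∈ Q ∨ (∀ v, ψ c v = omV v) ∨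
        ∀ v, ψ c v = omV (omV v) := by
  classical
  obtain ⟨N, M, hNn, hMn, hNM, hidx, hN, hQN, ⟨n, hn, hnω⟩, ⟨eU⟩⟩ := h.series
  have hQN' : Q ≤ N := fun c hc => hQN c (mem_qImg_coe.2 hc)
  have hsimp : IsSimpleGroup U43 := Cfsg.Agent.S0283.result (F := CfsgLib.Chevalley.G2Two.F9) (q := 3)
    CfsgLib.Chevalley.G2Two.F9.card_F9 4 (by norm_num) (by norm_num)
  have hU : Nat.card U43 = 3265920 := by
    rw [← Nat.card_congr (CfsgLib.Schur.PSUFourThree.psuEquiv (RingEquiv.refl _)).toEquiv,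
      CfsgLib.Schur.PSUFourThree.card_G]
  have hQcard : Nat.card Q = 8192 := by
    rw [← h.card_Q]
    exact Nat.card_congr (Subgroup.equivMapOfInjective _ _ (Subgroup.subtype_injective _)).toEquiv
  have hC : Nat.card ↥(Subgroup.centralizer ({z} : Set G)) = 8192 * 19595520 := by
    rw [Subgroup.card_eq_card_quotient_mul_card_subgroup Q, Nat.card_congr h.quotEquiv.toEquiv, h.model.card, hQcard]
  have hn1 : ψ n ≠ 1 := fun e => by
    have := hnω c2
    rw [e] at this
    revert this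
    decide
  have hNcases : ∀ c ∈ N, c ∈ Q ∨ (∀ v, ψ c v = omV v) ∨ ∀ v, ψ c v = omV (omV v) := by
    intro c hc
    have hord : orderOf (ψ n) = 3 := by
      refine orderOf_eq_prime (hp := ⟨Nat.prime_three⟩) (LinearEquiv.ext fun v => ?_) hn1
      rw [pow_succ, pow_two]
      show ψ n (ψ n (ψ n v)) = v
      rw [hnω, hnω, hnω, omV_cube]
    have hm : Nat.card (N.map ψ) = 3 := by
      have h1 := (ψ.subgroupMap N).ker.card_mul_index
      rw [Subgroup.index_ker, MonoidHom.range_eq_top.2 (MonoidHom.subgroupMap_surjective _ _), Subgroup.card_top] at h1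
      have h2 : (ψ.subgroupMap N).ker = Q.subgroupOf N := by
        ext a
        rw [MonoidHom.mem_ker, Subgroup.mem_subgroupOf, ← mem_qImg_coe, ← h.ker]
        exact Subtype.ext_iff
      rw [h2, Nat.card_congr (Subgroup.subgroupOfEquivOfLe hQN').toEquiv, hQcard, hN] at h1
      omega
    haveI : Finite ↥(N.map ψ) := Nat.finite_of_card_ne_zero (by rw [hm]; norm_num)
    have heq : Subgroup.zpowers (ψ n) = N.map ψ := Subgroup.eq_of_le_of_card_ge
      (Subgroup.zpowers_le.2 ⟨n, hn, rfl⟩) (by rw [hm, Nat.card_zpowers, hord])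
    have hmem : ψ c ∈ Subgroup.zpowers (ψ n) := heq ▸ ⟨c, hc, rfl⟩
    have hfin : IsOfFinOrder (ψ n) := orderOf_pos_iff.1 (by rw [hord]; norm_num)
    rw [← hfin.mem_powers_iff_mem_zpowers] at hmem
    obtain ⟨i, hi⟩ := hmem
    have hi' : ψ n ^ (i % 3) = ψ c := by rw [← hord, pow_mod_orderOf]; exact hi
    rcases (show i % 3 = 0 ∨ i % 3 = 1 ∨ i % 3 = 2 by omega) with e | e | e <;> rw [e] at hi'
    · exact Or.inl (mem_qImg_coe.1 ((h.ker c).1 (by rw [← hi', pow_zero])))
    · exact Or.inr (Or.inl fun v => by rw [← hi', pow_one, hnω])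
    · exact Or.inr (Or.inr fun v => by rw [← hi', pow_two]; show ψ n (ψ n v) = _; rw [hnω, hnω])
  let S : Subgroup ↥(Subgroup.centralizer ({z} : Set G)) :=
    { carrier := {c | ∀ w, ψ c (omV w) = omV (ψ c w)}
      one_mem' := fun w => by rw [map_one]; rfl
      mul_mem' := fun {a b} ha hb w => by
        rw [map_mul]
        show ψ a (ψ b (omV w)) = omV (ψ a (ψ b w))
        rw [hb, ha]
      inv_mem' := fun {a} ha w => (ψ a).injective (by
        rw [map_inv]
        show ψ a ((ψ a).symm (omV w)) = ψ a (omV ((ψ a).symm w))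
        rw [(ψ a).apply_symm_apply, ha, (ψ a).apply_symm_apply]) }
  have hS : ∀ c, c ∈ S ↔ ∀ w, ψ c (omV w) = omV (ψ c w) := fun c => Iff.rfl
  obtain ⟨a₀, ha₀⟩ := h.exists_inverting hu hne
  have hswap : ∀ c, c ∉ S → ∀ w, ψ c (omV w) = omV (omV (ψ c w)) := fun c hc =>
    (h.model.scal _ ⟨c, rfl⟩).resolve_left hc
  have hidxS : S.index = 2 := by
    refine Subgroup.index_eq_two_iff.2 ⟨a₀, fun b => ?_⟩
    by_cases hb : b ∈ S
    · refine Or.inr ⟨hb, fun hm => ha₀ ?_⟩
      have := mul_mem (inv_mem hb) hm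
      rwa [inv_mul_cancel_left] at this
    · refine Or.inl ⟨fun w => ?_, hb⟩
      rw [map_mul]
      show ψ b (ψ a₀ (omV w)) = omV (ψ b (ψ a₀ w))
      rw [hswap a₀ ha₀, hswap b hb, hswap b hb, omV_cube]
  haveI hSn : S.Normal := Subgroup.normal_of_index_eq_two hidxS
  have hNS : N ≤ S := fun c hc w => by
    rcases hNcases c hc with e | e | e
    · rw [(h.ker c).2 (mem_qImg_coe.2 e)]; rfl
    · rw [e, e]
    · rw [e, e]
  have hMS : M = S := by
    refine Subgroup.eq_of_le_of_card_ge ?_ (le_of_eq ?_)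
    · haveI := hNn
      haveI := hMn
      haveI : IsSimpleGroup (↥M ⧸ N.subgroupOf M) := eU.isSimpleGroup
      rcases (Subgroup.Normal.map (inferInstance : (S.subgroupOf M).Normal) _
        (QuotientGroup.mk'_surjective (N.subgroupOf M))).eq_bot_or_eq_top with e | e
      · exfalso
        rw [Subgroup.map_eq_bot_iff, QuotientGroup.ker_mk'] at e
        have h1 := Subgroup.card_le_of_le e
        rw [Nat.card_congr (Subgroup.subgroupOfEquivOfLe hNM).toEquiv, hN] at h1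
        have h2 := (S.subgroupOf M).card_mul_index
        have h3 : (S.subgroupOf M).index ≤ 2 := by
          rw [← hidxS]
          exact Subgroup.relIndex_le_of_le_right (le_top : M ≤ ⊤) (by rw [S.relIndex_top_right, hidxS]; norm_num)
            |>.trans (le_of_eq S.relIndex_top_right)
        have h4 := M.card_mul_index
        rw [hidx, hC] at h4
        nlinarith
      · intro c hc
        have hm : QuotientGroup.mk' (N.subgroupOf M) ⟨c, hc⟩ ∈ (S.subgroupOf M).map (QuotientGroup.mk' _) := by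
          rw [e]; trivial
        obtain ⟨d, hd, hde⟩ := hm
        have h1 : d⁻¹ * (⟨c, hc⟩ : ↥M) ∈ N.subgroupOf M := QuotientGroup.eq.1 hde
        have h2 : (d : ↥(Subgroup.centralizer ({z} : Set G))) * (((d : ↥(Subgroup.centralizer ({z} : Set G))))⁻¹ * c) ∈ S :=
          mul_mem hd (hNS h1)
        rwa [mul_inv_cancel_left] at h2
    · have h4 := M.card_mul_index
      have h5 := S.card_mul_index
      rw [hidx] at h4
      rw [hidxS] at h5
      omega
  exact ⟨N, M, hNn, hMn, hNM, hidx, hN, hQN', ⟨n, hn, hnω⟩, ⟨eU⟩, hsimp, hU, hC, fun c => by rw [hMS, hS], hNcases⟩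

end LF

end CfsgLib.Sporadic.LargeFischer
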