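import Cfsg.Agent.Lib.Sporadic.LargeFischer.Invariant

/-!
# The fifteen pairs in the singular subgroup
-/

set_option autoImplicit false
set_option linter.unusedSectionVars false

namespace CfsgLib.Sporadic.LargeFischer

/-- Four pairs generating all of them. -/
def gi : Fin 4 → Fin 6 := ![0, 1, 2, 3]

/-- Their second entries. -/
def gk : Fin 4 → Fin 6 := ![1, 2, 3, 4]

theorem cp_span : ∀ (c : ZMod 3) (i k : Fin 6), i ≠ k → ∃ (l : Fin 4 → ZMod 2) (a : D4),
    cp c i k = l 0 • cp c (gi 0) (gk 0) + l 1 • cp c (gi 1) (gk 1) + l 2 • cp c (gi 2) (gk 2) +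
      l 3 • cp c (gi 3) (gk 3) + cst a := by
  set_option maxRecDepth 100000 in decide +kernel

theorem cp_facts : ∀ c : ZMod 3, cp c 0 1 + cp c 1 2 = cp c 0 2 ∧ (∃ a, cp c 0 1 + cp c 2 3 + cp c 4 5 = cst a) ∧
    bs (cp c 1 2) (omV (cp c 0 1)) = 1 ∧ bs (cp c 2 3) (omV (cp c 0 1)) = 0 ∧
    bs (cp c 4 5) (omV (cp c 0 1 + cp c 2 3)) = 0 := by
  decide +kernel

theorem cp_classes : ∀ c c' : ZMod 3, bs (cp c 0 1) (cp c' 1 2) = 0 → c = c' := by decide +kernel

/-- Even permutations whose squares fix the first pair. -/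
def fixPair : Fin 3 → Equiv.Perm (Fin 6) :=
  ![Equiv.swap 2 3 * Equiv.swap 3 4, Equiv.swap 3 4 * Equiv.swap 4 5,
    Equiv.swap 0 2 * Equiv.swap 2 1 * Equiv.swap 1 3 * Equiv.swap 4 5]

theorem fixPair_mem : ∀ l, fixPair l ∈ alternatingGroup (Fin 6) := by
  intro l
  rw [Equiv.Perm.mem_alternatingGroup]
  revert l
  decide +kernel

theorem fixPair_facts : ∀ l c, cp c (fixPair l (fixPair l 0)) (fixPair l (fixPair l 1)) = cp c 0 1 := by decide +kernel

theorem moved_pair : ∀ (c : ZMod 3) (i k : Fin 6), i ≠ k → cp c i k ≠ cp c 0 1 →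
    ∃ l, ∀ a, cp c i k + cp c (fixPair l (fixPair l i)) (fixPair l (fixPair l k)) ≠ cst a := by
  set_option maxRecDepth 100000 in decide +kernel

theorem moved_any : ∀ (c : ZMod 3) (i k : Fin 6), i ≠ k →
    ∃ l, ∀ a, cp c i k + cp c (seven l (seven l i)) (seven l (seven l k)) ≠ cst a := by
  set_option maxRecDepth 100000 in decide +kernel

theorem exists_two : ∀ i k : Fin 6, ∃ u w : Fin 6, u ≠ i ∧ u ≠ k ∧ w ≠ i ∧ w ≠ k ∧ u ≠ w := by decide +kernel

theorem cp_perm (c : ZMod 3) (p : Equiv.Perm (Fin 6)) (i k : Fin 6) :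
    (fun l => cp c i k (p.symm l)) = cp c (p i) (p k) :=
  funext fun l => by simp only [cp, Equiv.symm_apply_eq]

theorem cst_perm (a : D4) (p : Equiv.Perm (Fin 6)) : (fun l => cst a (p.symm l)) = cst a := rfl

namespace Pair

variable {K : Subgroup (V6 ≃ₗ[ZMod 2] V6)} {h : Model K} {v : V6} {R : AddSubgroup V6}
  {E : Subgroup (V6 ≃ₗ[ZMod 2] V6)} (P : Pair h v R E)
include P

/-- The pairs, their relations, the action on them, and the elements of `E` attached to them. -/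
theorem exists_pairs : ∃ rp : Fin 6 → Fin 6 → V6,
    (∀ i k, i ≠ k → rp i k ∈ R) ∧
    (rp 0 1 + rp 1 2 = rp 0 2 ∧ bs (rp 1 2) (omV (rp 0 1)) = 1) ∧
    ((∃ a, rp 0 1 + rp 2 3 + rp 4 5 = sc v a) ∧ bs (rp 2 3) (omV (rp 0 1)) = 0 ∧
      bs (rp 4 5) (omV (rp 0 1 + rp 2 3)) = 0) ∧
    (∀ p : Equiv.Perm (Fin 6), p ∈ alternatingGroup (Fin 6) → ∃ g ∈ K, g v = v ∧
      (∀ w, g (omV w) = omV (g w)) ∧ ∀ i k, g (rp i k) = rp (p i) (p k)) ∧
    (∀ r ∈ R, (∀ q : Equiv.Perm (Fin 6), q ∈ alternatingGroup (Fin 6) → ∀ g ∈ K, g v = v →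
      (∀ w, g (omV w) = omV (g w)) → (∀ i k, g (rp i k) = rp (q i) (q k)) →
      ∃ a, g (g r) = r + sc v a) → ∃ a, r = sc v a) ∧
    (∀ r ∈ R, (∀ q : Equiv.Perm (Fin 6), q ∈ alternatingGroup (Fin 6) → ∀ g ∈ K, g v = v →
      (∀ w, g (omV w) = omV (g w)) → (∀ i k, g (rp i k) = rp (q i) (q k)) → g (g (rp 0 1)) = rp 0 1 →
      ∃ a, g (g r) = r + sc v a) → ∃ a, r = sc v a ∨ r = rp 0 1 + sc v a) ∧
    Nat.card (linPart E) ≤ 16 ∧
    ∀ i k, i ≠ k → ∃ e ∈ linPart E, ∀ r ∈ R, e r = r + bs r (omV (rp i k)) • v := by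
  classical
  obtain ⟨θ, hθv, hθq, hθom, hθp⟩ := exists_theta h P.orbit
  have hθb : ∀ u w, bs (θ u) (θ w) = bs u w := fun u w => by
    show qs _ + qs _ + qs _ = qs _ + qs _ + qs _
    rw [← map_add, hθq, hθq, hθq]
  have hline : ∀ a, ∃ a', θ (cst a) = sc v a' := fun a => by
    rw [cst_eq, sc, map_add, map_smul, map_smul, hθv]
    rcases hθom with e | e <;> rw [e, hθv]
    · exact ⟨a, rfl⟩
    · exact ⟨(a.1 + a.2, a.2), by rw [omV_sq, smul_add, sc, add_smul, add_assoc]⟩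
  have hline' : ∀ a, ∃ a', sc v a = θ (cst a') := fun a => by
    rcases hθom with e | e
    · exact ⟨a, by rw [cst_eq, sc, sc, map_add, map_smul, map_smul, e, hθv]⟩
    · refine ⟨(a.1 + a.2, a.2), ?_⟩
      rw [cst_eq, sc, sc, map_add, map_smul, map_smul, e, hθv, omV_sq, smul_add, add_smul]
      rw [show a.1 • v + a.2 • v + (a.2 • v + a.2 • omV v) = a.1 • v + a.2 • omV v + (a.2 • v + a.2 • v) by abel,
        two_V6, add_zero]
  have hcst : ∀ a, θ (cst a) ∈ R := fun a => by obtain ⟨a', e⟩ := hline a; rw [e]; exact P.sc_mem a'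
  have himg : ∀ p : Equiv.Perm (Fin 6), p ∈ alternatingGroup (Fin 6) → ∀ w, θ w ∈ R →
      θ (fun i => w (p.symm i)) ∈ R := fun p hp w hw => by
    obtain ⟨g, hg, hgv, -, hgθ⟩ := hθp p hp
    have := P.inv g hg hgv _ hw
    rwa [hgθ] at this
  have hshape : ∀ r₀, θ r₀ ∈ R →
      (∃ a, r₀ = cst a) ∨ ∃ c i k a, i ≠ k ∧ r₀ = cp c i k + cst a := fun r₀ hr => by
    refine shape r₀ (by rw [← hθq]; exact P.sing _ hr) (by rw [← hθb, hθv]; exact P.bs_R hr P.v_mem) ?_
      fun l => by rw [← hθb]; exact P.bs_R hr (by simpa [← Equiv.Perm.inv_def] using himg (seven l)⁻¹ (inv_mem (seven_mem l)) r₀ hr)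
    rw [← hθb]
    have : θ (omV one6) ∈ R := by
      rcases hθom with e | e <;> rw [e, hθv]
      · exact P.omv_mem
      · rw [omV_sq]; exact add_mem P.v_mem P.omv_mem
    exact P.bs_R hr this
  have hall : ∀ c i k, i ≠ k → θ (cp c i k) ∈ R → ∀ i' k', i' ≠ k' → θ (cp c i' k') ∈ R := by
    intro c i k hik hm i' k' hik'
    obtain ⟨u, w, hu⟩ := exists_two i' k'
    obtain ⟨p, hp, hpa, hpb⟩ := exists_even_move i k i' k' u w hik hik' hu
    have := himg p hp _ hm
    rwa [cp_perm, hpa, hpb] at this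
  obtain ⟨c, hc⟩ : ∃ c, ∀ i k, i ≠ k → θ (cp c i k) ∈ R := by
    by_contra hcon
    push Not at hcon
    have hle : Nat.card R ≤ Nat.card D4 := by
      refine Nat.card_le_card_of_injective (fun r : R => θ.symm r 0) fun r r' e => Subtype.ext ?_
      have hc : ∀ r : R, ∃ a, θ.symm r = cst a := fun r => by
        rcases hshape (θ.symm r) (by rw [θ.apply_symm_apply]; exact r.2) with ⟨a, ha⟩ | ⟨c, i, k, a, hik, ha⟩
        · exact ⟨a, ha⟩
        · exfalso
          obtain ⟨i', k', hik', hno⟩ := hcon c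
          refine hno (hall c i k hik ?_ i' k' hik')
          have h1 := add_mem (show θ (cp c i k + cst a) ∈ R by rw [← ha, θ.apply_symm_apply]; exact r.2) (hcst a)
          rwa [← map_add, add_assoc, two_V6, add_zero] at h1
      obtain ⟨a, ha⟩ := hc r
      obtain ⟨a', ha'⟩ := hc r'
      have e' : θ.symm r 0 = θ.symm r' 0 := e
      rw [ha, ha'] at e'
      apply θ.symm.injective
      rw [ha, ha', show a = a' from e']
    rw [P.cardR, Nat.card_eq_fintype_card] at hle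
    simp at hle
  have hdec : ∀ r ∈ R, ∃ a, r = sc v a ∨ ∃ i k, i ≠ k ∧ r = θ (cp c i k) + sc v a := fun r hr => by
    rcases hshape (θ.symm r) (by rw [θ.apply_symm_apply]; exact hr) with ⟨a, ha⟩ | ⟨c', i, k, a, hik, ha⟩
    · obtain ⟨a', ha'⟩ := hline a
      exact ⟨a', Or.inl (by rw [← ha', ← ha, θ.apply_symm_apply])⟩
    · obtain ⟨a', ha'⟩ := hline a
      have hr' : r = θ (cp c' i k) + sc v a' := by rw [← ha', ← map_add, ← ha, θ.apply_symm_apply]
      have h1 : θ (cp c' i k) ∈ R := by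
        have := add_mem hr (P.sc_mem a')
        rwa [hr', add_assoc, two_V6, add_zero] at this
      obtain rfl : c = c' := cp_classes c c' (by
        rw [← hθb]; exact P.bs_R (hc 0 1 (by decide)) (hall c' i k hik h1 1 2 (by decide)))
      exact ⟨a', Or.inr ⟨i, k, hik, hr'⟩⟩
  let F : linPart E → (Fin 4 → ZMod 2) := fun e l =>
    if (e : V6 ≃ₗ[ZMod 2] V6) (θ (cp c (gi l) (gk l))) = θ (cp c (gi l) (gk l)) then 0 else 1
  have hF : ∀ (e : linPart E) (l : Fin 4), (e : V6 ≃ₗ[ZMod 2] V6) (θ (cp c (gi l) (gk l))) =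
      θ (cp c (gi l) (gk l)) + F e l • v := fun e l => by
    have hm := hc (gi l) (gk l) (by revert l; decide)
    rcases P.E_act e e.2.1 _ hm with e1 | e1
    · simp only [F, if_pos e1, zero_smul, add_zero, e1]
    · have hn : ¬ (e : V6 ≃ₗ[ZMod 2] V6) (θ (cp c (gi l) (gk l))) = θ (cp c (gi l) (gk l)) :=
        fun e2 => P.v_ne (add_eq_left.1 (e1.symm.trans e2))
      simp only [F, if_neg hn, one_smul, e1]
  -- two additive maps agreeing on the generators agree on `R`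
  have hgen : ∀ f f' : V6 →+ V6, (∀ a, f (sc v a) = f' (sc v a)) →
      (∀ l, f (θ (cp c (gi l) (gk l))) = f' (θ (cp c (gi l) (gk l)))) → ∀ r ∈ R, f r = f' r := by
    intro f f' hs hg r hr
    have hz : ∀ (z : ZMod 2) (u : V6), f u = f' u → f (z • u) = f' (z • u) := fun z u hu => by
      rcases z2 z with rfl | rfl
      · simp
      · simpa using hu
    have hp : ∀ i k, i ≠ k → f (θ (cp c i k)) = f' (θ (cp c i k)) := fun i k hik => by
      obtain ⟨l, a, e⟩ := cp_span c i k hik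
      obtain ⟨a', ha'⟩ := hline a
      rw [e]
      simp only [map_add, map_smul, ha', hs]
      rw [hz _ _ (hg 0), hz _ _ (hg 1), hz _ _ (hg 2), hz _ _ (hg 3)]
    obtain ⟨a, rfl | ⟨i, k, hik, rfl⟩⟩ := hdec r hr
    · exact hs a
    · rw [map_add, map_add, hs, hp i k hik]
  have hinj : Function.Injective F := fun e e' hee => Subtype.ext (P.lin_ext e.2 e'.2
    (hgen (e : V6 ≃ₗ[ZMod 2] V6).toLinearMap.toAddMonoidHom (e' : V6 ≃ₗ[ZMod 2] V6).toLinearMap.toAddMonoidHom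
      (fun a => (P.E_fix_line e.2 a).trans (P.E_fix_line e'.2 a).symm)
      fun l => by show (e : V6 ≃ₗ[ZMod 2] V6) _ = (e' : V6 ≃ₗ[ZMod 2] V6) _; rw [hF, hF, hee]))
  have hcard16 : Nat.card (linPart E) ≤ 16 :=
    (Nat.card_le_card_of_injective F hinj).trans (le_of_eq (by simp))
  refine ⟨fun i k => θ (cp c i k), hc, ⟨by rw [← map_add, (cp_facts c).1], ?_⟩, ⟨?_, ?_, ?_⟩, ?_, ?_, ?_, hcard16, ?_⟩
  rotate_left
  · obtain ⟨a, ha⟩ := (cp_facts c).2.1
    obtain ⟨a', ha'⟩ := hline a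
    exact ⟨a', by rw [← map_add, ← map_add, ha, ha']⟩
  rotate_left
  rotate_left
  · intro p hp
    obtain ⟨g, hg, hgv, hgl, hgθ⟩ := hθp p hp
    exact ⟨g, hg, hgv, hgl, fun i k => by rw [hgθ, cp_perm]⟩
  · intro r hr hfix
    obtain ⟨a, rfl | ⟨i, k, hik, rfl⟩⟩ := hdec r hr
    · exact ⟨a, rfl⟩
    · exfalso
      obtain ⟨l, hl⟩ := moved_any c i k hik
      obtain ⟨g, hg, hgv, hgl, hgθ⟩ := hθp (seven l) (seven_mem l)
      obtain ⟨a', ha'⟩ := hfix _ (seven_mem l) g hg hgv hgl (fun i k => by rw [hgθ, cp_perm])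
      have hga : g (sc v a) = sc v a := by rw [sc, map_add, map_smul, map_smul, hgl, hgv]
      rw [map_add, hga, map_add, hga, hgθ, cp_perm, hgθ, cp_perm] at ha'
      obtain ⟨b, hb⟩ := hline' a'
      refine hl b (θ.injective ?_)
      have e1 : θ (cp c (seven l (seven l i)) (seven l (seven l k))) = θ (cp c i k) + sc v a' :=
        add_right_cancel (ha'.trans (add_right_comm _ _ _))
      rw [map_add, e1, ← add_assoc, two_V6, zero_add, hb]
  · intro r hr hfix
    obtain ⟨a, rfl | ⟨i, k, hik, rfl⟩⟩ := hdec r hr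
    · exact ⟨a, Or.inl rfl⟩
    · by_cases he : cp c i k = cp c 0 1
      · exact ⟨a, Or.inr (by rw [he])⟩
      exfalso
      obtain ⟨l, hl⟩ := moved_pair c i k hik he
      obtain ⟨g, hg, hgv, hgl, hgθ⟩ := hθp (fixPair l) (fixPair_mem l)
      obtain ⟨a', ha'⟩ := hfix _ (fixPair_mem l) g hg hgv hgl (fun i k => by rw [hgθ, cp_perm])
        (by rw [hgθ, cp_perm, hgθ, cp_perm, fixPair_facts])
      have hga : g (sc v a) = sc v a := by rw [sc, map_add, map_smul, map_smul, hgl, hgv]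
      rw [map_add, hga, map_add, hga, hgθ, cp_perm, hgθ, cp_perm] at ha'
      obtain ⟨b, hb⟩ := hline' a'
      refine hl b (θ.injective ?_)
      have e1 : θ (cp c (fixPair l (fixPair l i)) (fixPair l (fixPair l k))) = θ (cp c i k) + sc v a' :=
        add_right_cancel (ha'.trans (add_right_comm _ _ _))
      rw [map_add, e1, ← add_assoc, two_V6, zero_add, hb]
  · intro i₀ k₀ hik₀
    set ρ := θ (cp c i₀ k₀) with hρ
    have hρR : ρ ∈ R := hc i₀ k₀ hik₀
    haveI : Finite (linPart E) := Finite.of_injective F hinj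
    haveI := Fintype.ofFinite (linPart E)
    have hbij := (Fintype.bijective_iff_injective_and_card F).2 ⟨hinj, le_antisymm
      (Fintype.card_le_of_injective F hinj) (le_trans (le_of_eq (by simp)) (Nat.card_eq_fintype_card (α := linPart E) ▸ P.card_linPart))⟩
    obtain ⟨e, he⟩ := hbij.2 fun l => bs (θ (cp c (gi l) (gk l))) (omV ρ)
    refine ⟨e, e.2, ?_⟩
    let T : V6 →+ V6 := AddMonoidHom.mk' (fun r => r + bs r (omV ρ) • v) fun r r' => by
      rw [bs_add_left, add_smul]; abel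
    refine hgen (e : V6 ≃ₗ[ZMod 2] V6).toLinearMap.toAddMonoidHom T (fun a => ?_) fun l => ?_
    · show (e : V6 ≃ₗ[ZMod 2] V6) (sc v a) = sc v a + bs (sc v a) (omV ρ) • v
      have hz : bs (sc v a) (omV ρ) = 0 := by
        have h1 := P.bs_R hρR P.v_mem
        have h2 : bs v (omV ρ) = 0 := by
          rw [bs_comm, bs_om_swap, h1, P.bs_R hρR P.omv_mem, add_zero]
        rw [sc, bs_add_left, bs_smul_left, bs_smul_left, h2, bs_omV, P.bs_R P.v_mem hρR, mul_zero, mul_zero, add_zero]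
      rw [P.E_fix_line e.2, hz, zero_smul, add_zero]
    · show (e : V6 ≃ₗ[ZMod 2] V6) _ = θ (cp c (gi l) (gk l)) + bs _ (omV ρ) • v
      rw [hF, he]
  all_goals
    have hsw : ∀ x y, bs (θ x) (θ y) = 0 → bs (θ x) (omV (θ y)) = bs x (omV y) := fun x y hxy => by
      rw [← hθb x (omV y)]
      rcases hθom with e | e <;> rw [e]
      rw [omV_sq, bs_add, hxy, zero_add]
  · exact (hsw _ _ (P.bs_R (hc 1 2 (by decide)) (hc 0 1 (by decide)))).trans (cp_facts c).2.2.1
  · exact (hsw _ _ (P.bs_R (hc 2 3 (by decide)) (hc 0 1 (by decide)))).trans (cp_facts c).2.2.2.1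
  · show bs (θ (cp c 4 5)) (omV (θ (cp c 0 1) + θ (cp c 2 3))) = 0
    rw [← map_add]
    exact (hsw _ _ (P.bs_R (hc 4 5 (by decide)) (by rw [map_add]; exact add_mem (hc 0 1 (by decide)) (hc 2 3 (by decide))))).trans (cp_facts c).2.2.2.2

end Pair

end CfsgLib.Sporadic.LargeFischer
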