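import Cfsg.Agent.Lib.Sporadic.LargeFischer.InvolutionLine
import Cfsg.Agent.Lib.Sporadic.LargeFischer.Centralizer
import Cfsg.Agent.Lib.Sporadic.LargeFischer.EightLine

/-!
# Groups of large Fischer type: no semilinear element of `C(z)` squares to `z`
-/

set_option autoImplicit false
set_option linter.style.haveILetI false
set_option linter.unusedSectionVars false

namespace CfsgLib.Sporadic.LargeFischer

/-- All vectors, listed. -/
def allV : List V6 :=
  let d : List D4 := [(0, 0), (1, 0), (0, 1), (1, 1)]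
  d.flatMap fun a => d.flatMap fun b => d.flatMap fun c => d.flatMap fun e => d.flatMap fun f => d.map fun g =>
    ![a, b, c, e, f, g]

theorem mem_allV (v : V6) : v ∈ allV := by
  have hd : ∀ a : D4, a ∈ ([(0, 0), (1, 0), (0, 1), (1, 1)] : List D4) := by decide
  simp only [allV, List.mem_flatMap, List.mem_map]
  exact ⟨_, hd _, _, hd _, _, hd _, _, hd _, _, hd _, _, hd _, (vec6 v).symm⟩

/-- Membership in a set containing the orbit of the vectors of weight two. -/
def inShort (k : ZMod 3) (v : V6) : Bool := decide (wt v = 2 ∨ wt v = 6 ∧ cls v = k)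

/-- The members pairing with `c2`. -/
def withTwo (k : ZMod 3) : List V6 :=
  allV.filter fun a => inShort k a && inShort k (a + c2) && decide (a ≠ c2)

theorem no_eight_ok : ∀ k : ZMod 3, (withTwo k).all (fun a => (withTwo k).all fun b =>
    decide (b = a) || decide (b = a + c2) || !(inShort k (a + b) && inShort k (a + b + c2))) = true := by
  set_option maxRecDepth 100000 in decide +kernel

theorem no_eight (k : ZMod 3) {a b : V6} (ha : inShort k a = true) (ha' : inShort k (a + c2) = true) (h1 : a ≠ c2)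
    (hb : inShort k b = true) (hb' : inShort k (b + c2) = true) (h2 : b ≠ c2) (h3 : b ≠ a) (h4 : b ≠ a + c2)
    (hab : inShort k (a + b) = true) (hab' : inShort k (a + b + c2) = true) : False := by
  have hm : ∀ {x : V6}, inShort k x = true → inShort k (x + c2) = true → x ≠ c2 → x ∈ withTwo k := fun {x} e e' e'' =>
    List.mem_filter.2 ⟨mem_allV x, by rw [e, e', decide_eq_true e'']; rfl⟩
  have h := List.all_eq_true.1 (List.all_eq_true.1 (no_eight_ok k) a (hm ha ha' h1)) b (hm hb hb' h2)
  rw [decide_eq_false h3, decide_eq_false h4, hab, hab'] at h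
  exact Bool.noConfusion h

section

variable {K : Subgroup (V6 ≃ₗ[ZMod 2] V6)} (h : Model K)
include h

/-- The orbit of the vectors of weight two contains at most one class of weight six. -/
theorem Model.orb_two_short : ∃ k, ∀ v ∈ h.orb c2, inShort k v = true := by
  classical
  obtain ⟨k₀, hk₀⟩ : ∃ k, ∀ k', h.orb (c6 k') = h.orb c2 → k' = k := by
    by_contra hno
    push Not at hno
    obtain ⟨k, hk, -⟩ := hno 0
    obtain ⟨k', hk', hne⟩ := hno k
    have hsub : (Finset.univ.filter fun v : V6 => wt v = 2) ∪ (Finset.univ.filter fun v : V6 => wt v = 6 ∧ cls v = k) ∪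
        (Finset.univ.filter fun v : V6 => wt v = 6 ∧ cls v = k') ⊆ h.orb c2 := by
      intro v hv
      simp only [Finset.mem_union, Finset.mem_filter, Finset.mem_univ, true_and] at hv
      rcases hv with (hv | ⟨hv, e⟩) | ⟨hv, e⟩
      · exact h.canon_two hv ▸ h.self_mem v
      · exact (show h.orb v = h.orb c2 by rw [h.canon_six hv, e, hk]) ▸ h.self_mem v
      · exact (show h.orb v = h.orb c2 by rw [h.canon_six hv, e, hk']) ▸ h.self_mem v
    have hcard := Finset.card_le_card hsub
    rw [h.two_orbits.2.1, Finset.card_union_of_disjoint, Finset.card_union_of_disjoint, counts.1, counts.2.2.1,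
      counts.2.2.1] at hcard
    · omega
    · rw [Finset.disjoint_left]
      intro v hv hv'
      rw [Finset.mem_filter] at hv hv'
      omega
    · rw [Finset.disjoint_left]
      intro v hv hv'
      simp only [Finset.mem_union, Finset.mem_filter, Finset.mem_univ, true_and] at hv hv'
      rcases hv with hv | ⟨-, e⟩
      · omega
      · exact hne (hv'.2.symm.trans e)
  refine ⟨k₀, fun v hv => ?_⟩
  have he := h.orb_eq hv
  obtain ⟨g, hg, hgv⟩ := h.mem_orb.1 hv
  have hq : qs v = 0 := by rw [← hgv, h.quad g hg]; decide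
  have hne : v ≠ 0 := h.ne_zero_of_orb (by decide) hv
  refine decide_eq_true ?_
  rcases h.wt_cases hq hne with e | e | e
  · exact Or.inl e
  · exact absurd ((h.canon_four e).symm.trans he).symm h.two_orbits.1
  · exact Or.inr ⟨e, hk₀ _ ((h.canon_six e).symm.trans he)⟩

/-- An antilinear involution fixes a vector of the orbit of the vectors of weight four. -/
theorem Model.exists_fixed_c4 {g : V6 ≃ₗ[ZMod 2] V6} (hg : g ∈ K) (hg2 : ∀ w, g (g w) = w)
    (hsemi : ∀ w, g (omV w) = omV (omV (g w))) : ∃ u, g u = u ∧ u ∈ h.orb c4 := by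
  classical
  by_contra hno
  push Not at hno
  let F : AddSubgroup V6 :=
    { carrier := {w | g w = w}
      zero_mem' := map_zero g
      add_mem' := fun {a b} (ha : g a = a) (hb : g b = b) => by show g (a + b) = a + b; rw [map_add, ha, hb]
      neg_mem' := fun {a} (ha : g a = a) => by show g (-a) = -a; rw [map_neg, ha] }
  have hF64 : 64 ≤ Nat.card F := by
    have hmem : ∀ w, w + g w ∈ F := fun w => by show g (w + g w) = w + g w; rw [map_add, hg2, add_comm]
    have hinj : Function.Injective (fun w => ((⟨_, hmem w⟩ : F), (⟨_, hmem (omV w)⟩ : F))) := by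
      intro a b e
      simp only [Prod.mk.injEq, Subtype.mk.injEq] at e
      have h1 : g (a + b) = a + b := by
        refine eq_of_add_zero ?_
        rw [map_add, show g a + g b + (a + b) = (a + g a) + (b + g b) by abel, e.1, two_V6]
      have h2 : g (omV (a + b)) = omV (a + b) := by
        refine eq_of_add_zero ?_
        rw [omV_add, map_add, show g (omV a) + g (omV b) + (omV a + omV b) = (omV a + g (omV a)) + (omV b + g (omV b)) by abel,
          e.2, two_V6]
      rw [hsemi, h1, omV_sq] at h2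
      exact eq_of_add_zero (add_eq_right.1 h2)
    have := Nat.card_le_card_of_injective _ hinj
    rw [Nat.card_eq_fintype_card (α := V6), Nat.card_prod, show Fintype.card V6 = 4096 by simp] at this
    nlinarith
  have hbs : ∀ a ∈ F, ∀ b ∈ F, bs a b = 0 := fun a ha b hb => by
    have e : omV a + g (omV a) = a := by
      rw [hsemi, (ha : g a = a), omV_sq, add_left_comm, two_V6, add_zero]
    rw [← e, bs_add_left]
    have e2 : bs (g (omV a)) b = bs (omV a) b := by
      conv_lhs => rw [show b = g b from (hb : g b = b).symm]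
      exact h.bs_map hg _ _
    rw [e2, CharTwo.add_self_eq_zero]
  let f : F →+ ZMod 2 := AddMonoidHom.mk' (fun a => qs a) fun a b => by
    have := hbs a a.2 b b.2
    change qs ((a : V6) + b) + qs a + qs b = 0 at this
    show qs ((a : V6) + b) = qs a + qs b
    rw [add_assoc] at this
    exact CharTwo.add_eq_zero.1 this
  have hker : 32 ≤ Nat.card f.ker := by
    have h1 := f.ker.card_mul_index
    have h2 : f.ker.index ≤ 2 := by
      rw [AddSubgroup.index_ker]
      exact (Nat.card_le_card_of_injective _ Subtype.val_injective).trans (by rw [Nat.card_zmod])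
    nlinarith
  obtain ⟨k, hk⟩ := h.orb_two_short
  have hshort : ∀ a : V6, g a = a → qs a = 0 → a ≠ 0 → a ∈ h.orb c2 := fun a ha hq hne => by
    rcases h.two_orbits.2.2.2.1 a hq hne with e | e
    · exact e ▸ h.self_mem a
    · exact absurd (e ▸ h.self_mem a) (hno a ha)
  -- three independent members
  let F0 : Finset V6 := Finset.univ.filter fun a => g a = a ∧ qs a = 0
  have hF0 : 32 ≤ F0.card := by
    refine hker.trans ?_
    rw [← Nat.card_eq_finsetCard]
    refine Nat.card_le_card_of_injective (fun a => ⟨a.1.1, Finset.mem_filter.2 ⟨Finset.mem_univ _, a.1.2, a.2⟩⟩)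
      fun a b e => Subtype.ext (Subtype.ext (congrArg Subtype.val e : _))
  obtain ⟨c₀, hc₀, hc₀'⟩ := Finset.exists_mem_notMem_of_card_lt_card
    (show ({0} : Finset V6).card < F0.card by simp; omega)
  obtain ⟨a, ha, ha'⟩ := Finset.exists_mem_notMem_of_card_lt_card
    (show ({0, c₀} : Finset V6).card < F0.card by
      have := (Finset.card_insert_le (0 : V6) {c₀})
      rw [Finset.card_singleton] at this
      omega)
  obtain ⟨b, hb, hb'⟩ := Finset.exists_mem_notMem_of_card_lt_card
    (show ({0, c₀, a, c₀ + a} : Finset V6).card < F0.card by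
      have h1 := Finset.card_insert_le (0 : V6) ({c₀, a, c₀ + a} : Finset V6)
      have h2 := Finset.card_le_three (a := c₀) (b := a) (c := c₀ + a)
      omega)
  simp only [Finset.mem_insert, Finset.mem_singleton, not_or] at hc₀' ha' hb'
  simp only [F0, Finset.mem_filter, Finset.mem_univ, true_and] at hc₀ ha hb
  obtain ⟨m, hm, hmc⟩ := h.mem_orb.1 (show c2 ∈ h.orb c₀ by
    rw [h.orb_eq (hshort _ hc₀.1 hc₀.2 hc₀')]; exact h.self_mem c2)
  have hadd : ∀ {x y : V6}, g x = x ∧ qs x = 0 → g y = y ∧ qs y = 0 → g (x + y) = x + y ∧ qs (x + y) = 0 :=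
    fun {x y} hx hy => ⟨by rw [map_add, hx.1, hy.1], by
      have := map_add f ⟨x, hx.1⟩ ⟨y, hy.1⟩
      exact this.trans (by show qs x + qs y = 0; rw [hx.2, hy.2, add_zero])⟩
  have himg : ∀ {x : V6}, g x = x ∧ qs x = 0 → x ≠ 0 → inShort k (m x) = true := fun {x} hx hne => by
    refine hk _ ?_
    have h1 := hshort x hx.1 hx.2 hne
    rw [← h.orb_eq h1]
    exact h.mem_orb.2 ⟨m, hm, rfl⟩
  have hne : ∀ {x y : V6}, x ≠ y → x + y ≠ 0 := fun h e => h (eq_of_add_zero e)
  have hinj : ∀ {x y : V6}, x ≠ y → m x ≠ m y := fun h e => h (m.injective e)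
  refine no_eight k (a := m a) (b := m b) (himg ha ha'.1) ?_ ?_ (himg hb hb'.1) ?_ ?_ (hinj hb'.2.2.1) ?_ ?_ ?_
  · rw [← hmc, ← map_add]; exact himg (hadd ha hc₀) (hne ha'.2)
  · rw [← hmc]; exact hinj ha'.2
  · rw [← hmc, ← map_add]; exact himg (hadd hb hc₀) (hne hb'.2.1)
  · rw [← hmc]; exact hinj hb'.2.1
  · rw [← hmc, ← map_add]; exact hinj (by rw [add_comm a]; exact hb'.2.2.2)
  · rw [← map_add]; exact himg (hadd ha hb) (hne (Ne.symm hb'.2.2.1))
  · rw [← hmc, ← map_add, ← map_add]
    refine himg (hadd (hadd ha hb) hc₀) fun e => hb'.2.2.2 ?_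
    rw [← eq_of_add_zero (show b + (c₀ + a) = 0 by rw [← e]; abel)]

end

namespace LF

variable {G : Type*} [Group G] [Finite G] {z : G} {Q : Subgroup (Subgroup.centralizer ({z} : Set G))} [Q.Normal]
  {π : G → V6} {ψ : ↥(Subgroup.centralizer ({z} : Set G)) →* (V6 ≃ₗ[ZMod 2] V6)} (h : LF z (qImg Q) π ψ)
  {g : G} (hu : g * z * g⁻¹ ∈ qImg Q) (hne : g * z * g⁻¹ ≠ z)
include h hu hne

/-- An element of order three acting as the scalar. -/
theorem exists_scalar_cube : ∃ x : ↥(Subgroup.centralizer ({z} : Set G)),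
    (∀ v, ψ x v = omV v) ∧ x ^ 3 = 1 := by
  obtain ⟨N, M, -, -, -, -, hN, -, ⟨n, hn, hnω⟩, -⟩ := h.exists_M hu hne
  refine ⟨n ^ 16384, fun v => ?_, ?_⟩
  · have h3 : ψ n ^ 3 = 1 := LinearEquiv.ext fun w => by
      rw [pow_succ, pow_two]
      show ψ n (ψ n (ψ n w)) = w
      rw [hnω, hnω, hnω, omV_cube]
    rw [map_pow, pow_eq_pow_mod _ h3, show 16384 % 3 = 1 from rfl, pow_one, hnω]
  · have h1 : (⟨n, hn⟩ : N) ^ Nat.card N = 1 := pow_card_eq_one'
    have h2 : n ^ Nat.card N = 1 := congrArg Subtype.val h1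
    rw [← pow_mul, show 16384 * 3 = Nat.card N * 2 by rw [hN], pow_mul, h2, one_pow]

/-- A linear element squaring to the conjugate of `z` centralises the lifts of the multiples of its coordinates. -/
theorem linear_square_fixes {c : ↥(Subgroup.centralizer ({z} : Set G))} (hc : (c : G) * c = g * z * g⁻¹)
    {w : G} (hw : w ∈ h.lineGrp (π (g * z * g⁻¹))) (hcw : (c : G) * w * (c : G)⁻¹ = w * z) : False := by
  obtain ⟨R, E, P, hR, -, -⟩ := h.pair_data hu hne
  set v := π (g * z * g⁻¹) with hv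
  have hcu : (c : G) * (g * z * g⁻¹) = g * z * g⁻¹ * c := by rw [← hc, mul_assoc]
  have hψv : ψ c v = v := by rw [hv, ← h.act c _ hu, hcu, mul_inv_cancel_right]
  obtain ⟨hwQ, e, he⟩ := hw
  have hψw : ψ c (π w) = π w := by
    rw [← h.act c w hwQ, hcw, h.π_mul w hwQ z h.extra.z_mem, h.π_z, add_zero]
  have hcz : (c : G) * z = z * c := Subgroup.mem_centralizer_singleton_iff.1 c.2
  have he2 : e.2 = 1 := by
    refine (z2 _).resolve_left fun e0 => h.extra.z_ne ?_
    have hfix : (c : G) * w * (c : G)⁻¹ = w := by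
      obtain ⟨e1, e2⟩ := e
      simp only at e0
      subst e0
      rcases z2 e1 with rfl | rfl
      · rw [show ((0, 0) : D4) = 0 from rfl, sc_zero] at he
        rcases (h.π_ker w hwQ).1 he with rfl | rfl
        · group
        · rw [hcz, mul_inv_cancel_right]
      · rw [sc_one] at he
        rcases (h.π_eq_iff hu hwQ).1 he.symm with rfl | rfl
        · rw [hcu, mul_inv_cancel_right]
        · rw [show (c : G) * (g * z * g⁻¹ * z) * (c : G)⁻¹ = (c * (g * z * g⁻¹) * (c : G)⁻¹) * ((c : G) * z * (c : G)⁻¹) by group,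
            hcu, hcz, mul_inv_cancel_right, mul_inv_cancel_right]
    exact (mul_eq_left.1 (hfix.symm.trans hcw).symm)
  have hψom : ψ c (omV v) = omV v := by
    have := hψw
    rw [he, map_sc, hψv] at this
    rw [sc] at this
    rw [he2, one_smul, one_smul] at this
    exact add_left_cancel this
  have hlin : ∀ w, ψ c (omV w) = omV (ψ c w) := (h.model.scal _ ⟨c, rfl⟩).resolve_right fun e' => P.v_ne (by
    have := hψom
    rw [e', hψv, omV_sq] at this
    exact add_eq_right.1 this)
  obtain ⟨x, hx, hx3⟩ := h.exists_scalar_cube hu hne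
  obtain ⟨d, hdx, hψd⟩ := h.exists_commuting hx hx3 c hlin
  set q : G := ((d⁻¹ * c : ↥(Subgroup.centralizer ({z} : Set G))) : G) with hqdef
  have hq : q ∈ qImg Q := (h.ker _).1 (by rw [map_mul, map_inv, hψd, inv_mul_cancel])
  have hccQ : ψ (c * c) = 1 := (h.ker _).2 (by rw [Subgroup.coe_mul, hc]; exact hu)
  have hddQ : ((d * d : ↥(Subgroup.centralizer ({z} : Set G))) : G) ∈ qImg Q :=
    (h.ker _).1 (by rw [map_mul, hψd, ← map_mul, hccQ])
  have hdd0 : π ((d * d : ↥(Subgroup.centralizer ({z} : Set G))) : G) = 0 := by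
    set p := π ((d * d : ↥(Subgroup.centralizer ({z} : Set G))) : G) with hp
    have h1 : ψ x p = p := by
      rw [hp, ← h.act x _ hddQ]
      congr 1
      have e1 : (x * (d * d) * x⁻¹ : ↥(Subgroup.centralizer ({z} : Set G))) = d * d := by
        rw [((hdx.mul_left hdx).symm : Commute x (d * d)).eq, mul_inv_cancel_right]
      exact congrArg Subtype.val e1
    rw [hx] at h1
    have := congrArg omV h1
    rw [omV_sq, h1] at this
    exact add_eq_right.1 this
  have hdc : (c : G) = (d : G) * q := by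
    rw [hqdef, Subgroup.coe_mul, Subgroup.coe_inv, mul_inv_cancel_left]
  obtain ⟨hdq, hπdq⟩ := h.π_conj d hq
  have hmove : ψ d (π q) = π q + v := by
    have e1 : g * z * g⁻¹ = ((d : G) * q * (d : G)⁻¹) * ((d * d : ↥(Subgroup.centralizer ({z} : Set G))) : G) * q := by
      rw [← hc, hdc, Subgroup.coe_mul]; group
    have e2 := congrArg π e1
    rw [h.π_mul _ (mul_mem hdq hddQ) _ hq, h.π_mul _ hdq _ hddQ, hdd0, hπdq, add_zero, ← hv] at e2
    rw [e2, add_comm (π q), add_assoc, two_V6, add_zero]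
  have hdv : ψ d v = v := hψd ▸ hψv
  have hbv : bs (π q) v = 0 := by
    show qs (π q + v) + qs (π q) + qs v = 0
    rw [← hmove, h.model.quad _ ⟨d, rfl⟩, P.sing v P.v_mem, add_zero, CharTwo.add_self_eq_zero]
  have hswap := h.swap hwQ hq
  have hfix := h.fix_pointwise hx hdx hwQ (by rw [hψd]; exact hψw)
  have hdz : (d : G) * z = z * d := Subgroup.mem_centralizer_singleton_iff.1 d.2
  have hb : bs (π w) (π q) = 1 := by
    refine h.zp_inj (mul_left_cancel (a := w) ?_)
    rw [zp_one]
    calc w * zp z (bs (π w) (π q)) = (d : G) * w * (d : G)⁻¹ * zp z (bs (π w) (π q)) := by rw [hfix]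
      _ = (d : G) * w * zp z (bs (π w) (π q)) * (d : G)⁻¹ := by
        rw [mul_assoc _ (zp z (bs (π w) (π q))) (d : G)⁻¹,
          (show Commute (zp z (bs (π w) (π q))) (d : G) from h.zp_comm _ hdz).inv_right.eq, ← mul_assoc]
      _ = (d : G) * (w * q * zp z (bs (π w) (π q))) * q⁻¹ * (d : G)⁻¹ := by
        rw [show w * q * zp z (bs (π w) (π q)) = w * (zp z (bs (π w) (π q)) * q) by
          rw [h.zp_comm _ (h.cent_z hq), mul_assoc]]
        group
      _ = (c : G) * w * (c : G)⁻¹ := by rw [← hswap, hdc]; group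
      _ = w * z := hcw
  refine P.involution_line ⟨d, rfl⟩ (by rw [hψd]; exact hlin) (by rw [hψd, ← map_mul, hccQ]) hmove ?_
  rw [he, sc, bs_add_left, bs_smul_left, bs_smul_left, he2, bs_comm v, hbv, mul_zero, zero_add, one_mul,
    bs_comm] at hb
  exact hb

/-- No element of `C(z)` inverting the scalars squares to `z`. -/
theorem no_semilinear_square {c : ↥(Subgroup.centralizer ({z} : Set G))}
    (hsem : ∀ w, ψ c (omV w) = omV (omV (ψ c w))) (hc : (c : G) * c = z) : False := by
  have hcc : ∀ w, ψ c (ψ c w) = w := fun w => by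
    have h1 : ψ (c * c) = 1 := (h.ker _).2 (by rw [Subgroup.coe_mul, hc]; exact h.extra.z_mem)
    rw [map_mul] at h1
    exact congrArg (fun e : V6 ≃ₗ[ZMod 2] V6 => e w) h1
  obtain ⟨u₀, hfix, horb⟩ := h.model.exists_fixed_c4 ⟨c, rfl⟩ hcc hsem
  have hq0 : qs u₀ = 0 := by
    obtain ⟨k, hk, e⟩ := h.model.mem_orb.1 horb
    rw [← e, h.model.quad k hk]; decide
  have hne0 : u₀ ≠ 0 := h.model.ne_zero_of_orb (by decide) horb
  obtain ⟨b, hb, hπb⟩ := h.π_surj (omV u₀)
  obtain ⟨hb', hπb'⟩ := h.π_conj c hb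
  rw [hπb, hsem, hfix] at hπb'
  set b' := (c : G) * b * (c : G)⁻¹ with hb'def
  have hcz : (c : G) * z = z * c := Subgroup.mem_centralizer_singleton_iff.1 c.2
  have hcomm : b * b' = b' * b := h.commute_of_bs hb hb' (by rw [hπb, hπb', bs_omV, bs_om_self, hq0])
  have hbb : b * b = 1 := (h.q_iff b hb).1 (by rw [hπb, qs_omV, hq0])
  have hπr : π (b * b') = u₀ := by
    rw [h.π_mul b hb b' hb', hπb, hπb', omV_sq, add_left_comm, two_V6, add_zero]
  have hcr : (c : G) * (b * b') = b * b' * c := by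
    have e : (c : G) * b' * (c : G)⁻¹ = b := by
      rw [hb'def, show (c : G) * (c * b * (c : G)⁻¹) * (c : G)⁻¹ = (c * c : G) * b * ((c : G) * c)⁻¹ by group, hc,
        ← h.cent_z hb, mul_inv_cancel_right]
    rw [← mul_inv_eq_iff_eq_mul, show (c : G) * (b * b') * (c : G)⁻¹ = (c * b * (c : G)⁻¹) * (c * b' * (c : G)⁻¹) by group,
      e, ← hb'def, hcomm]
  obtain ⟨k, hk, hkv⟩ := h.model.mem_orb.1 (show u₀ ∈ h.model.orb (π (g * z * g⁻¹)) by rw [h.fused_orbit hu hne]; exact horb)
  obtain ⟨cc, rfl⟩ := hk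
  obtain ⟨dd, hdd⟩ := h.conj_of_π hu (mul_mem hb hb') (by rw [hπr]; exact hne0) cc (by rw [hkv, hπr])
  set r := b * b' with hr
  have hgr : ((dd : G) * g) * z * ((dd : G) * g)⁻¹ = r := by rw [← hdd]; group
  have hru : (dd : G) * g * z * ((dd : G) * g)⁻¹ ∈ qImg Q := hgr ▸ mul_mem hb hb'
  have hrne : (dd : G) * g * z * ((dd : G) * g)⁻¹ ≠ z := fun e => hne0 (by
    rw [← hπr, ← hgr, e, h.π_z])
  obtain ⟨t, htN, ht1, ht2, -⟩ := h.exists_swap hru hrne
  rw [hgr] at ht1 ht2 htN
  have htz : t⁻¹ * r * t = z := by rw [← ht1]; group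
  have htr : t⁻¹ * z * t = r := by
    conv_lhs => rw [← ht2]
    group
  let c' : ↥(Subgroup.centralizer ({z} : Set G)) := ⟨t⁻¹ * c * t, Subgroup.mem_centralizer_singleton_iff.2 (by
    calc t⁻¹ * (c : G) * t * z = t⁻¹ * c * t * (t⁻¹ * r * t) := congrArg _ htz.symm
      _ = t⁻¹ * ((c : G) * r) * t := by group
      _ = (t⁻¹ * r * t) * (t⁻¹ * c * t) := by rw [hcr]; group
      _ = z * (t⁻¹ * c * t) := congrArg (· * (t⁻¹ * (c : G) * t)) htz)⟩
  refine h.linear_square_fixes hru hrne (c := c') (w := t⁻¹ * b * t) ?_ ?_ ?_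
  · show t⁻¹ * (c : G) * t * (t⁻¹ * c * t) = _
    calc t⁻¹ * (c : G) * t * (t⁻¹ * c * t) = t⁻¹ * ((c : G) * c) * t := by group
      _ = t⁻¹ * z * t := congrArg (fun a => t⁻¹ * a * t) hc
      _ = _ := htr.trans hgr.symm
  · rw [hgr]
    refine (Subgroup.mem_normalizer_iff''.1 htN b).1 ⟨hb, (0, 1), ?_⟩
    rw [hπr, sc_om, hπb]
  · show t⁻¹ * (c : G) * t * (t⁻¹ * b * t) * (t⁻¹ * c * t)⁻¹ = _
    have e : b' = b * r := by rw [hr, ← mul_assoc, hbb, one_mul]
    calc _ = t⁻¹ * b' * t := by rw [hb'def]; group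
      _ = t⁻¹ * b * t * (t⁻¹ * r * t) := by rw [e]; group
      _ = _ := by rw [htz]

end LF

end CfsgLib.Sporadic.LargeFischer
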