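import Cfsg.Agent.Lib.Sporadic.LargeFischer.ModelFrom
import Cfsg.Agent.Lib.Sporadic.LargeFischer.Stabilizers
import Cfsg.Agent.Lib.Characterizations.CoType.Setup
import Cfsg.Agent.Lib.Schur.PSUFourThree.Main
import Cfsg.Agent.Lib.ThreeTransp.ExtraspecialOut
import Cfsg.Prelude.Def_MonsterType
import Cfsg.Agent.S0283

/-!
# Groups of large Fischer type: coordinates on `Q/⟨z⟩`
-/

set_option autoImplicit false
set_option linter.style.haveILetI false
set_option linter.unusedSectionVars false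

namespace CfsgLib.Sporadic.LargeFischer

open CfsgLib.ThreeTransp.Extraspecial CfsgLib.ThreeTransp.ExtraspecialOut

/-- Coordinates on an extraspecial subgroup of order `2¹³` normalised by the centraliser of `z`. -/
structure LFBase {G : Type*} [Group G] [Finite G] (z : G) (Q : Subgroup G) (π : G → V6)
    (ψ : ↥(Subgroup.centralizer ({z} : Set G)) →* (V6 ≃ₗ[ZMod 2] V6)) : Prop where
  ord_z : orderOf z = 2
  extra : Extra Q z
  card_Q : Nat.card Q = 8192
  norm : ∀ c, c * z = z * c → ∀ a ∈ Q, c * a * c⁻¹ ∈ Q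
  cent_le : ∀ c, (∀ a ∈ Q, c * a = a * c) → c ∈ Q
  π_mul : ∀ a ∈ Q, ∀ b ∈ Q, π (a * b) = π a + π b
  π_surj : ∀ v, ∃ a ∈ Q, π a = v
  π_ker : ∀ a ∈ Q, π a = 0 ↔ a = 1 ∨ a = z
  q_iff : ∀ a ∈ Q, qs (π a) = 0 ↔ a * a = 1
  act : ∀ c : ↥(Subgroup.centralizer ({z} : Set G)), ∀ a ∈ Q, π (c * a * (c : G)⁻¹) = ψ c (π a)
  ker : ∀ c : ↥(Subgroup.centralizer ({z} : Set G)), ψ c = 1 ↔ (c : G) ∈ Q

/-- The configuration: `Q` is extraspecial of order `2¹³` with coordinates `π`, and the centraliser of `z` acts on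
them through the model. -/
structure LF {G : Type*} [Group G] [Finite G] (z : G) (Q : Subgroup G) (π : G → V6)
    (ψ : ↥(Subgroup.centralizer ({z} : Set G)) →* (V6 ≃ₗ[ZMod 2] V6)) : Prop extends LFBase z Q π ψ where
  model : Model ψ.range
  series : ∃ (N M : Subgroup ↥(Subgroup.centralizer ({z} : Set G))) (_ : N.Normal) (_ : M.Normal),
    N ≤ M ∧ M.index = 2 ∧ Nat.card N = 3 * 8192 ∧ (∀ c : ↥(Subgroup.centralizer ({z} : Set G)), (c : G) ∈ Q → c ∈ N) ∧
    (∃ c ∈ N, ∀ v, ψ c v = omV v) ∧ Nonempty (↥M ⧸ N.subgroupOf M ≃* U43)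

/-- The image of the given subgroup in `G`. -/
def qImg {G : Type*} [Group G] {z : G} (Q : Subgroup (Subgroup.centralizer ({z} : Set G))) : Subgroup G :=
  Q.map (Subgroup.centralizer ({z} : Set G)).subtype

theorem mem_qImg {G : Type*} [Group G] {z : G} {Q : Subgroup (Subgroup.centralizer ({z} : Set G))} {a : G} :
    a ∈ qImg Q ↔ ∃ h : a ∈ Subgroup.centralizer ({z} : Set G), (⟨a, h⟩ : Subgroup.centralizer ({z} : Set G)) ∈ Q := by
  constructor
  · rintro ⟨x, hx, rfl⟩; exact ⟨x.2, hx⟩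
  · rintro ⟨h, hx⟩; exact ⟨_, hx, rfl⟩

theorem mem_qImg_coe {G : Type*} [Group G] {z : G} {Q : Subgroup (Subgroup.centralizer ({z} : Set G))}
    {a : Subgroup.centralizer ({z} : Set G)} : (a : G) ∈ qImg Q ↔ a ∈ Q :=
  Subgroup.mem_map_iff_mem (Subgroup.subtype_injective _)

/-- The hypotheses of the statements give the configuration. -/
theorem exists_lf {G : Type*} [Group G] [Finite G] (z : G) (Q : Subgroup (Subgroup.centralizer ({z} : Set G)))
    [Q.Normal] (hF : Cfsg.IsOfLargeFischerTypeAt z Q) : ∃ π ψ, LF z (qImg Q) π ψ := by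
  classical
  obtain ⟨⟨hz, hGF, hQ, hcard, -⟩, N, M, hNn, hMn, hQN, hNM, hNcard, ⟨K, _, _, hK, ⟨eK⟩⟩, hMidx⟩ := hF
  haveI : Fact (Nat.Prime 2) := ⟨Nat.prime_two⟩
  have hcentz : ∀ c, c ∈ (Subgroup.centralizer ({z} : Set G)) ↔ c * z = z * c := fun c => Subgroup.mem_centralizer_singleton_iff
  have hz1 : z ≠ 1 := fun h => by simp [h] at hz
  have hzC : z ∈ (Subgroup.centralizer ({z} : Set G)) := (hcentz z).2 rfl
  have hcent : Subgroup.centralizer (Q : Set ↥(Subgroup.centralizer ({z} : Set G))) ≤ Q :=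
    hGF ▸ CfsgLib.Components.centralizer_generalizedFitting_le
  have hzQ : (⟨z, hzC⟩ : ↥(Subgroup.centralizer ({z} : Set G))) ∈ Q := hcent fun q _ => Subtype.ext ((hcentz q).1 q.2)
  have eQ : ↥Q ≃* ↥(qImg Q) := Subgroup.equivMapOfInjective _ _ (Subgroup.centralizer ({z} : Set G)).subtype_injective
  have hQC : qImg Q ≤ (Subgroup.centralizer ({z} : Set G)) := Subgroup.map_subtype_le _
  have hE' : Cfsg.IsExtraspecial 2 ↥(qImg Q) := CfsgLib.Characterizations.CoType.isExtraspecial_congr' eQ hQ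
  have hextra : Extra (qImg Q) z := by
    obtain ⟨z', hz'⟩ := exists_extra hE'
    rcases hz'.mem_center_cases (mem_qImg.2 ⟨hzC, hzQ⟩) (fun q hq => ((hcentz q).1 (hQC hq)).symm) with h | h
    · exact absurd h hz1
    · exact h ▸ hz'
  have hnorm : ∀ c, c * z = z * c → ∀ q ∈ qImg Q, c * q * c⁻¹ ∈ qImg Q := by
    rintro c hc _ ⟨q, hq, rfl⟩
    exact ⟨⟨c, (hcentz c).2 hc⟩ * q * ⟨c, (hcentz c).2 hc⟩⁻¹,
      Subgroup.Normal.conj_mem inferInstance q hq _, rfl⟩
  have hcentle : ∀ c, (∀ q ∈ qImg Q, c * q = q * c) → c ∈ qImg Q := fun c hfix =>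
    ⟨⟨c, (hcentz c).2 (hfix z (mem_qImg.2 ⟨hzC, hzQ⟩))⟩,
      hcent fun q hq => Subtype.ext (hfix q ⟨q, hq, rfl⟩).symm, rfl⟩
  have hQcard : Nat.card ↥(qImg Q) = 8192 := by rw [← Nat.card_congr eQ.toEquiv, hcard]; norm_num
  -- coordinates
  obtain ⟨k, ⟨f⟩⟩ := exists_frame hE'
  have hk : k = 12 := by
    have h := card_E f
    rw [hQcard] at h
    exact Nat.pow_right_injective (le_refl 2) (show 2 ^ k = 2 ^ 12 by norm_num; omega)
  subst hk
  have hfz : (f.z : G) = z := by
    rcases hextra.mem_center_cases f.z.2 (fun q hq => congrArg Subtype.val (f.z_comm ⟨q, hq⟩)) with h | h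
    · exact absurd (Subtype.ext h) f.z_ne
    · exact h
  -- the action
  let conjC : ↥(Subgroup.centralizer ({z} : Set G)) →* MulAut ↥(qImg Q) :=
    { toFun := fun c =>
        { toFun := fun x => ⟨c * x * (c : G)⁻¹, hnorm c ((hcentz c).1 c.2) x x.2⟩
          invFun := fun x => ⟨(c : G)⁻¹ * x * c, by
            have h := hnorm (c⁻¹ : ↥(Subgroup.centralizer ({z} : Set G))) ((hcentz _).1 (c⁻¹).2) x x.2
            simpa using h⟩
          left_inv := fun x => Subtype.ext (by simp [mul_assoc])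
          right_inv := fun x => Subtype.ext (by simp [mul_assoc])
          map_mul' := fun x y => Subtype.ext (by simp [mul_assoc]) }
      map_one' := MulEquiv.ext fun x => Subtype.ext (by simp)
      map_mul' := fun c d => MulEquiv.ext fun x => Subtype.ext (by simp [mul_assoc]) }
  let ψ₀ := ((CfsgLib.Orth.orthGroup (CfsgLib.ThreeTransp.ExtraspecialOut.Q f)).subtype).comp ((toO f).comp conjC)
  have hker : ∀ c : ↥(Subgroup.centralizer ({z} : Set G)), ψ₀ c = 1 ↔ c ∈ Q := by
    intro c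
    constructor
    · intro hc
      have hin : conjC c ∈ Cfsg.Inn ↥(qImg Q) := by rw [← ker_toO f]; exact Subtype.ext hc
      obtain ⟨a, ha⟩ := hin
      have hm : ((a : G))⁻¹ * c ∈ qImg Q := hcentle _ fun q hq => by
        have h := congrArg (fun φ : MulAut ↥(qImg Q) => ((φ ⟨q, hq⟩ : ↥(qImg Q)) : G)) ha
        change (a : G) * q * (a : G)⁻¹ = (c : G) * q * (c : G)⁻¹ at h
        calc (a : G)⁻¹ * c * q = (a : G)⁻¹ * (c * q * (c : G)⁻¹) * c := by group
          _ = q * ((a : G)⁻¹ * c) := by rw [← h]; group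
      exact mem_qImg_coe.1 (by simpa using mul_mem a.2 hm)
    · intro hc
      have h1 : toO f (conjC c) = 1 := by
        show conjC c ∈ (toO f).ker
        rw [ker_toO f]
        exact ⟨⟨(c : G), mem_qImg_coe.2 hc⟩, MulEquiv.ext fun x => rfl⟩
      exact congrArg Subtype.val h1
  let ρ : ↥(Subgroup.centralizer ({z} : Set G)) ⧸ Q →* (W12 ≃ₗ[ZMod 2] W12) := QuotientGroup.lift Q ψ₀ fun c hc => (hker c).2 hc
  let M' : Subgroup (↥(Subgroup.centralizer ({z} : Set G)) ⧸ Q) := M.map (QuotientGroup.mk' Q)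
  let φ : ↥M →* ↥M' := (QuotientGroup.mk' Q).subgroupMap M
  have hφ : Function.Surjective φ := MonoidHom.subgroupMap_surjective _ _
  let eU : ↥M ⧸ N.subgroupOf M ≃* U43 := eK.trans
    ((CfsgLib.Schur.PSUFourThree.psuEquiv (FiniteField.ringEquivOfCardEq
      (CfsgLib.Chevalley.G2Two.F9.card_F9.trans hK.symm))).symm.trans
      (CfsgLib.Schur.PSUFourThree.psuEquiv (RingEquiv.refl _)))
  let g₀ : ↥M →* U43 := eU.toMonoidHom.comp (QuotientGroup.mk' _)
  have hg₀ : φ.ker ≤ g₀.ker := by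
    intro m hm
    have h1 : (QuotientGroup.mk' Q) (m : ↥(Subgroup.centralizer ({z} : Set G))) = 1 := congrArg Subtype.val hm
    have h2 : (m : ↥(Subgroup.centralizer ({z} : Set G))) ∈ N := hQN ((QuotientGroup.eq_one_iff _).1 h1)
    show eU ((m : ↥M ⧸ N.subgroupOf M)) = 1
    rw [(QuotientGroup.eq_one_iff m).2 (Subgroup.mem_subgroupOf.2 h2), map_one]
  let pM : ↥M' →* U43 := MonoidHom.liftOfSurjective φ hφ ⟨g₀, hg₀⟩
  have hpM : ∀ m, pM (φ m) = g₀ m := fun m => MonoidHom.liftOfRightInverse_comp_apply _ _ _ _ m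
  -- the element of order three
  let N' : Subgroup (↥(Subgroup.centralizer ({z} : Set G)) ⧸ Q) := N.map (QuotientGroup.mk' Q)
  have hN' : Nat.card N' = 3 := by
    have h1 := Subgroup.card_mul_index ((QuotientGroup.mk' Q).subgroupMap N).ker
    rw [Subgroup.index_ker, MonoidHom.range_eq_top.2 (MonoidHom.subgroupMap_surjective _ _), Subgroup.card_top] at h1
    have h2 : Nat.card ((QuotientGroup.mk' Q).subgroupMap N).ker = Nat.card Q := by
      have : ((QuotientGroup.mk' Q).subgroupMap N).ker = Q.subgroupOf N := by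
        ext n
        rw [MonoidHom.mem_ker, Subgroup.mem_subgroupOf, ← QuotientGroup.eq_one_iff]
        exact Subtype.ext_iff
      rw [this, Nat.card_congr (Subgroup.subgroupOfEquivOfLe hQN).toEquiv]
    rw [h2, hNcard, mul_comm 3] at h1
    exact Nat.eq_of_mul_eq_mul_left (by rw [hcard]; norm_num) h1
  haveI : Fact (Nat.Prime 3) := ⟨Nat.prime_three⟩
  obtain ⟨x₀, hx₀⟩ := exists_prime_orderOf_dvd_card' (G := N') 3 (dvd_of_eq hN'.symm)
  have hN'z : N' = Subgroup.zpowers (x₀ : ↥(Subgroup.centralizer ({z} : Set G)) ⧸ Q) := (Subgroup.eq_of_le_of_card_ge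
    (Subgroup.zpowers_le.2 x₀.2) (by rw [Nat.card_zpowers, Subgroup.orderOf_coe, hx₀, hN'])).symm
  have hN'M : N' ≤ M' := Subgroup.map_mono hNM
  let x : ↥M' := ⟨x₀, hN'M x₀.2⟩
  haveI : N'.Normal := Subgroup.Normal.map hNn _ (QuotientGroup.mk'_surjective Q)
  have hcfg : Cfg (↥(Subgroup.centralizer ({z} : Set G)) ⧸ Q) tHom.range lHom.range M' x pM ρ (qf f) := by
    refine ⟨exists_frame81, ?_, ?_, ?_, ?_, ?_, ?_, ?_, ?_, ?_, qf_zero f, ?_, ?_⟩
    · exact Cfsg.Agent.S0283.result (F := CfsgLib.Chevalley.G2Two.F9) (q := 3)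
        CfsgLib.Chevalley.G2Two.F9.card_F9 4 (by norm_num) (by norm_num)
    · show Nat.card U43 = _
      rw [← Nat.card_congr (CfsgLib.Schur.PSUFourThree.psuEquiv (RingEquiv.refl _)).toEquiv,
        CfsgLib.Schur.PSUFourThree.card_G]
    · intro u
      obtain ⟨m, hm⟩ := QuotientGroup.mk'_surjective (N.subgroupOf M) (eU.symm u)
      exact ⟨φ m, by rw [hpM]; show eU (QuotientGroup.mk' _ m) = u; rw [hm, eU.apply_symm_apply]⟩
    · ext y
      obtain ⟨m, rfl⟩ := hφ y
      rw [MonoidHom.mem_ker, hpM]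
      show eU (m : ↥M ⧸ N.subgroupOf M) = 1 ↔ _
      rw [MulEquiv.map_eq_one_iff, QuotientGroup.eq_one_iff, Subgroup.mem_subgroupOf]
      have hx : (φ m ∈ Subgroup.zpowers x) ↔ ((φ m : ↥M') : ↥(Subgroup.centralizer ({z} : Set G)) ⧸ Q) ∈ N' := by
        rw [hN'z]
        constructor
        · rintro ⟨i, hi⟩; exact ⟨i, (congrArg Subtype.val hi : _)⟩
        · rintro ⟨i, hi⟩; exact ⟨i, Subtype.ext hi⟩
      rw [hx]
      constructor
      · intro hm; exact ⟨_, hm, rfl⟩
      · rintro ⟨n, hn, e⟩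
        have h1 : n⁻¹ * (m : ↥(Subgroup.centralizer ({z} : Set G))) ∈ Q := QuotientGroup.eq.1 e
        simpa using mul_mem hn (hQN h1)
    · rw [← Subgroup.orderOf_coe, ← hx₀, ← Subgroup.orderOf_coe x₀]
    · intro g
      have h1 : g * (x : ↥(Subgroup.centralizer ({z} : Set G)) ⧸ Q) * g⁻¹ ∈ N' := Subgroup.Normal.conj_mem inferInstance _ x₀.2 g
      rw [hN'z, ← mem_powers_iff_mem_zpowers] at h1
      obtain ⟨i, hi⟩ := h1
      have hi' : (x₀ : ↥(Subgroup.centralizer ({z} : Set G)) ⧸ Q) ^ i = g * (x : ↥(Subgroup.centralizer ({z} : Set G)) ⧸ Q) * g⁻¹ := hi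
      have hord : orderOf (x₀ : ↥(Subgroup.centralizer ({z} : Set G)) ⧸ Q) = 3 := by rw [Subgroup.orderOf_coe, hx₀]
      rw [← pow_mod_orderOf, hord] at hi'
      have : i % 3 = 0 ∨ i % 3 = 1 ∨ i % 3 = 2 := by omega
      rcases this with e | e | e <;> rw [e] at hi'
      · exfalso
        rw [pow_zero, eq_comm, conj_eq_one_iff] at hi'
        rw [show (x₀ : ↥(Subgroup.centralizer ({z} : Set G)) ⧸ Q) = 1 from hi', orderOf_one] at hord
        omega
      · exact Or.inl (by rw [← hi', pow_one])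
      · refine Or.inr (hi'.symm.trans (eq_inv_of_mul_eq_one_left ?_))
        rw [← pow_succ, show (2 + 1) = orderOf (x₀ : ↥(Subgroup.centralizer ({z} : Set G)) ⧸ Q) from hord.symm, pow_orderOf_eq_one]
    · rw [← hMidx]
      refine Subgroup.index_map_eq _ (QuotientGroup.mk'_surjective Q) ?_
      rw [QuotientGroup.ker_mk']
      exact hQN.trans hNM
    · refine (injective_iff_map_eq_one ρ).2 fun c hc => ?_
      induction c using QuotientGroup.induction_on with | _ c =>
      exact (QuotientGroup.eq_one_iff c).2 ((hker c).1 hc)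
    · intro c v
      induction c using QuotientGroup.induction_on with | _ c =>
      exact CfsgLib.Orth.apply_quad ((toO f) (conjC c)) v
    · intro u v w
      have h := polar_add_right' f u v w
      simp only [QuadraticMap.polar, ← CharTwo.sub_eq_add] at h ⊢
      exact h
    · intro u hu
      refine (nondeg f).1 u fun v => ?_
      show QuadraticMap.polar (qf f) u v = 0
      simp only [QuadraticMap.polar, CharTwo.sub_eq_add]
      exact hu v
  obtain ⟨Φ, hΦ, ψ', hψinj, hψ', hψx, hmod⟩ := hcfg.exists_model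
  let π : G → V6 := fun a => if h : a ∈ qImg Q then Φ.symm (f.π ⟨a, h⟩) else 0
  have hπ : ∀ a (h : a ∈ qImg Q), π a = Φ.symm (f.π ⟨a, h⟩) := fun a h => dif_pos h
  refine ⟨π, ψ'.comp (QuotientGroup.mk' Q),
    { ord_z := hz
      extra := hextra
      card_Q := hQcard
      norm := hnorm
      cent_le := hcentle
      π_mul := fun a ha b hb => by
        rw [hπ a ha, hπ b hb, hπ _ (mul_mem ha hb), ← map_add, ← f.π_mul]
        rfl
      π_surj := fun v => by
        obtain ⟨a, ha⟩ := f.π_surj (Φ v)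
        exact ⟨a, a.2, by rw [hπ _ a.2]; show Φ.symm (f.π a) = v; rw [ha, Φ.symm_apply_apply]⟩
      π_ker := fun a ha => by
        rw [hπ a ha, LinearEquiv.map_eq_zero_iff, f.π_ker]
        constructor
        · rintro (h | h)
          · exact Or.inl (congrArg Subtype.val h)
          · exact Or.inr ((congrArg Subtype.val h).trans hfz)
        · rintro (h | h)
          · exact Or.inl (Subtype.ext h)
          · exact Or.inr (Subtype.ext (h.trans hfz.symm))
      q_iff := fun a ha => by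
        rw [hπ a ha, ← hΦ, Φ.apply_symm_apply, qf_π]
        constructor
        · intro h
          have h' := ε_inj f (sq_cases f ⟨a, ha⟩) (Or.inl rfl) (by rw [h, ε, if_pos rfl])
          exact congrArg Subtype.val h'
        · intro h
          rw [show (⟨a, ha⟩ : ↥(qImg Q)) * ⟨a, ha⟩ = 1 from Subtype.ext h, ε, if_pos rfl]
      act := fun c a ha => by
        rw [hπ a ha, hπ _ (hnorm c ((hcentz c).1 c.2) a ha)]
        rw [Φ.symm_apply_eq]
        refine Eq.trans ?_ (hψ' (QuotientGroup.mk c) (Φ.symm (f.π ⟨a, ha⟩))).symm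
        rw [Φ.apply_symm_apply]
        exact (toO_apply f (conjC c) ⟨a, ha⟩).symm
      ker := fun c => by
        rw [mem_qImg_coe, ← QuotientGroup.eq_one_iff (N := Q)]
        show ψ' (QuotientGroup.mk c) = 1 ↔ _
        exact map_eq_one_iff ψ' hψinj
      model := by
        rw [MonoidHom.range_comp, MonoidHom.range_eq_top.2 (QuotientGroup.mk'_surjective Q), ← MonoidHom.range_eq_map]
        exact hmod
      series := ?_ }⟩
  obtain ⟨n, hn, hne⟩ := x₀.2
  refine ⟨N, M, hNn, hMn, hNM, hMidx, by rw [hNcard, hcard]; norm_num,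
    fun c hc => hQN (mem_qImg_coe.1 hc), ⟨n, hn, fun v => ?_⟩, ⟨eU⟩⟩
  show ψ' (QuotientGroup.mk' Q n) v = _
  rw [hne]
  exact funext fun i => hψx v i

end CfsgLib.Sporadic.LargeFischer
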