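import Cfsg.Agent.Lib.Sporadic.LargeFischer.PairData

/-!
# Groups of large Fischer type: the centraliser of `x` does not split over `⟨z⟩`
-/

set_option autoImplicit false
set_option linter.style.haveILetI false
set_option linter.unusedSectionVars false

namespace CfsgLib.Sporadic.LargeFischer

open CfsgLib.ThreeTransp.Extraspecial

theorem sc_eq_zero {v : V6} (hv : v ≠ 0) {a : D4} (e : sc v a = 0) : a = 0 := by
  have ho : omV v ≠ 0 := fun e1 => hv (omV_inj (e1.trans omV_zero.symm))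
  rcases z2 a.1 with e1 | e1 <;> rcases z2 a.2 with e2 | e2 <;> rw [sc, e1, e2] at e
  · exact Prod.ext e1 e2
  · simp only [zero_smul, one_smul, zero_add] at e
    exact absurd e ho
  · simp only [zero_smul, one_smul, add_zero] at e
    exact absurd e hv
  · simp only [one_smul] at e
    rw [← omV_sq] at e
    exact absurd (omV_inj (omV_inj (e.trans (omV_zero.symm.trans (congrArg omV omV_zero.symm))))) hv

theorem sc_add_vec (u w : V6) (a : D4) : sc (u + w) a = sc u a + sc w a := by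
  simp only [sc, smul_add, omV_add]; abel

theorem sc_zero_vec (a : D4) : sc 0 a = 0 := by simp [sc, omV_zero]

theorem sc_smul_vec (c : ZMod 2) (u : V6) (a : D4) : sc (c • u) a = c • sc u a := by
  rcases z2 c with rfl | rfl
  · rw [zero_smul, zero_smul, sc_zero_vec]
  · rw [one_smul, one_smul]

theorem sc_sc (v : V6) : ∀ l a : D4, ∃ b, sc (sc v l) a = sc v b := fun l a => by
  refine ⟨a.1 • l + a.2 • om l, ?_⟩
  rw [sc_add]
  show a.1 • sc v l + a.2 • omV (sc v l) = _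
  rw [omV_sc]
  congr 1
  · rcases z2 a.1 with e | e <;> rw [e] <;> simp [sc_zero]
  · rcases z2 a.2 with e | e <;> rw [e] <;> simp [sc_zero]

/-- Square roots of permutations moving the first pair. -/
def rootMove : Fin 4 → Equiv.Perm (Fin 6) :=
  ![Equiv.swap 0 2 * Equiv.swap 2 1, Equiv.swap 1 3 * Equiv.swap 3 2,
    Equiv.swap 0 1 * Equiv.swap 1 2 * Equiv.swap 2 3 * Equiv.swap 3 4,
    Equiv.swap 0 2 * Equiv.swap 2 4 * Equiv.swap 1 3 * Equiv.swap 3 5]

theorem rootMove_mem : ∀ t, rootMove t ∈ alternatingGroup (Fin 6) := by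
  intro t
  rw [Equiv.Perm.mem_alternatingGroup]
  revert t
  decide +kernel

theorem rootMove_facts : ∀ t, rootMove t (rootMove t 0) = (![1, 0, 2, 4] : Fin 4 → Fin 6) t ∧
    rootMove t (rootMove t 1) = (![2, 2, 3, 5] : Fin 4 → Fin 6) t := by
  decide +kernel

namespace LF

variable {G : Type*} [Group G] [Finite G] {z : G} {Q : Subgroup (Subgroup.centralizer ({z} : Set G))} [Q.Normal]
  {π : G → V6} {ψ : ↥(Subgroup.centralizer ({z} : Set G)) →* (V6 ≃ₗ[ZMod 2] V6)} (h : LF z (qImg Q) π ψ)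
include h

set_option maxHeartbeats 1600000 in
/-- No subgroup commuting with `x` is a complement to `Q` in the centraliser of the scalars. -/
theorem no_complement {g₀ : G} (hu₀ : g₀ * z * g₀⁻¹ ∈ qImg Q) (hne₀ : g₀ * z * g₀⁻¹ ≠ z)
    {x : ↥(Subgroup.centralizer ({z} : Set G))} (hx : ∀ v, ψ x v = omV v)
    (D : Subgroup ↥(Subgroup.centralizer ({z} : Set G))) (hDx : ∀ d ∈ D, Commute d x)
    (hDQ : ∀ d ∈ D, (d : G) ∈ qImg Q → d = 1)
    (hD : ∀ c, (∀ w, ψ c (omV w) = omV (ψ c w)) → ∃ d ∈ D, ψ d = ψ c) : False := by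
  classical
  -- the conjugate of `z` which is a canonical lift
  obtain ⟨g, hu, hne, hcan⟩ : ∃ g : G, g * z * g⁻¹ ∈ qImg Q ∧ g * z * g⁻¹ ≠ z ∧
      h.can hx (π (g * z * g⁻¹)) = g * z * g⁻¹ := by
    set s₀ := g₀ * z * g₀⁻¹ with hs₀
    rcases (h.π_eq_iff hu₀ (h.can_mem hx (π s₀))).1 (h.π_can hx (π s₀)).symm with e | e
    · exact ⟨g₀, hu₀, hne₀, e⟩
    · have hs1 : s₀ ≠ 1 := fun e1 => h.extra.z_ne (conj_eq_one_iff.1 e1)
      obtain ⟨q, hq, hqe⟩ := h.extra.exists_conj_eq hu₀ hs1 hne₀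
      have e' : q * g₀ * z * (q * g₀)⁻¹ = s₀ * z := by rw [← hqe, hs₀]; group
      have hπ : π (s₀ * z) = π s₀ := ((h.π_eq_iff hu₀ (mul_mem hu₀ h.extra.z_mem)).2 (Or.inr rfl)).symm
      refine ⟨q * g₀, by rw [e']; exact mul_mem hu₀ h.extra.z_mem, ?_, by rw [e', hπ]; exact e⟩
      rw [e']
      exact fun e1 => hs1 (mul_eq_right.1 e1)
  obtain ⟨hsq, hRcomm, hzR, hsR, -, hRinv⟩ := h.inter_props hu hne
  obtain ⟨R, E, P, hR, hE, hperp⟩ := h.pair_data hu hne
  obtain ⟨rp, hrp, ⟨htri, htri'⟩, ⟨⟨al, hal⟩, hd1, hd2⟩, hact, hfixall, hfixpair, -, hexE⟩ := P.exists_pairs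
  have hu' : g⁻¹ * z * g⁻¹⁻¹ ∈ qImg Q := by rw [inv_inv]; exact h.symm_mem hu hne
  have hne' : g⁻¹ * z * g⁻¹⁻¹ ≠ z := fun e => hne (calc
    g * z * g⁻¹ = g * (g⁻¹ * z * g⁻¹⁻¹) * g⁻¹ := by rw [e]
    _ = z := by group)
  obtain ⟨R', E', P', hR', -, -⟩ := h.pair_data hu' hne'
  have h' : Extra ((qImg Q).map (MulAut.conj g).toMonoidHom) (g * z * g⁻¹) := h.extra.map_conj g
  rw [inv_inv] at P'
  set s := g * z * g⁻¹ with hs
  set v := π s with hv
  set v' := π (g⁻¹ * z * g) with hv'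
  set R0 := qImg Q ⊓ (qImg Q).map (MulAut.conj g).toMonoidHom with hR0
  let pp : G → V6 := fun a => π (g⁻¹ * a * g)
  have hQs : ∀ {a}, a ∈ (qImg Q).map (MulAut.conj g).toMonoidHom ↔ g⁻¹ * a * g ∈ qImg Q := mem_map_conj
  have pp_mul : ∀ a b, a ∈ (qImg Q).map (MulAut.conj g).toMonoidHom →
      b ∈ (qImg Q).map (MulAut.conj g).toMonoidHom → pp (a * b) = pp a + pp b := fun a b ha hb => by
    show π (g⁻¹ * (a * b) * g) = _
    rw [show g⁻¹ * (a * b) * g = (g⁻¹ * a * g) * (g⁻¹ * b * g) by group]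
    exact h.π_mul _ (hQs.1 ha) _ (hQs.1 hb)
  have pp_ker : ∀ a, a ∈ (qImg Q).map (MulAut.conj g).toMonoidHom → pp a = 0 → a = 1 ∨ a = s := fun a ha e => by
    have ea : a = g * (g⁻¹ * a * g) * g⁻¹ := by group
    rcases (h.π_ker _ (hQs.1 ha)).1 e with e1 | e1 <;> rw [e1] at ea
    · exact Or.inl (by rw [ea]; group)
    · exact Or.inr ea
  have hR'0 : ∀ {a}, a ∈ R0 → pp a ∈ R' := fun {a} ha => (hR' _).2 ⟨_, ⟨hQs.1 ha.2,
    mem_map_conj.2 (by rw [inv_inv, show g * (g⁻¹ * a * g) * g⁻¹ = a by group]; exact ha.1)⟩, rfl⟩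
  have hR'1 : ∀ {ρ}, ρ ∈ R' → ∃ a ∈ R0, pp a = ρ := fun {ρ} hρ => by
    obtain ⟨b, ⟨hb, hb'⟩, rfl⟩ := (hR' ρ).1 hρ
    refine ⟨g * b * g⁻¹, ⟨?_, hQs.2 (by simpa [mul_assoc] using hb)⟩, by simp [pp, mul_assoc]⟩
    simpa using mem_map_conj.1 hb'
  have hvR : v ∈ R := P.v_mem
  -- canonical lifts
  have hcanR : ∀ {w}, w ∈ R → h.can hx w ∈ R0 := fun {w} hw => by
    obtain ⟨a, ha, e⟩ := (hR w).1 hw
    rcases (h.π_eq_iff ha.1 (h.can_mem hx w)).1 (e.trans (h.π_can hx w).symm) with e1 | e1 <;> rw [e1]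
    · exact ha
    · exact mul_mem ha hzR
  let y : V6 → V6 := fun w => pp (h.can hx w)
  have hzp : ∀ c, zp z c ∈ R0 := fun c => by
    rcases z2 c with rfl | rfl
    · exact one_mem _
    · exact hzR
  have ppzp : ∀ c, pp (zp z c) = c • v' := fun c => by
    rcases z2 c with rfl | rfl
    · rw [zero_smul]
      show π (g⁻¹ * 1 * g) = 0
      rw [mul_one, inv_mul_cancel, h.π_one]
    · rw [one_smul]; rfl
  have y_add : ∀ {u w}, u ∈ R → w ∈ R → y u + y w = y (u + w) + bs w (omV u) • v' := fun {u w} hu hw => by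
    show pp _ + pp _ = pp _ + _
    rw [← pp_mul _ _ (hcanR hu).2 (hcanR hw).2, h.can_mul hx (P.bs_R hu hw),
      pp_mul _ _ (hcanR (add_mem hu hw)).2 (hzp _).2, ppzp]
  have y_v : y v = 0 := by
    show pp (h.can hx v) = 0
    rw [hcan]
    show π (g⁻¹ * (g * z * g⁻¹) * g) = 0
    rw [show g⁻¹ * (g * z * g⁻¹) * g = z by group, h.π_z]
  have bs_v_om : ∀ {w}, w ∈ R → bs v (omV w) = 0 := fun {w} hw => by
    rw [bs_comm, bs_om_swap, P.bs_R hw hvR, P.bs_R hw P.omv_mem, add_zero]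
  have y_addv : ∀ {w}, w ∈ R → y (w + v) = y w := fun {w} hw => by
    have e := y_add hw hvR
    rw [y_v, add_zero, bs_v_om hw, zero_smul, add_zero] at e
    exact e.symm
  have y_mem : ∀ {w}, w ∈ R → y w ∈ R' := fun {w} hw => hR'0 (hcanR hw)
  have R'_exp : ∀ {ρ}, ρ ∈ R' → ∃ w ∈ R, ∃ c : ZMod 2, ρ = y w + c • v' := fun {ρ} hρ => by
    obtain ⟨a, ha, rfl⟩ := hR'1 hρ
    have hw : π a ∈ R := (hR _).2 ⟨a, ha, rfl⟩
    refine ⟨π a, hw, ?_⟩
    rcases (h.π_eq_iff (h.can_mem hx (π a)) ha.1).1 (h.π_can hx (π a)) with e | e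
    · exact ⟨0, by rw [zero_smul, add_zero]; exact congrArg pp e⟩
    · exact ⟨1, by rw [← ppzp]; exact (congrArg pp e).trans (pp_mul _ _ (hcanR hw).2 (hzp 1).2)⟩
  -- lifts in `D`
  have hinj : ∀ {d d'}, d ∈ D → d' ∈ D → ψ d = ψ d' → d = d' := fun {d d'} hd hd' e =>
    inv_mul_eq_one.1 (hDQ _ (mul_mem (inv_mem hd) hd') ((h.ker _).1 (by rw [map_mul, map_inv, e, inv_mul_cancel])))
  have hlift : ∀ {k}, k ∈ ψ.range → (∀ w, k (omV w) = omV (k w)) → ∃ d ∈ D, ψ d = k := by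
    rintro k ⟨c, rfl⟩ hk
    exact hD c hk
  have hfixs : ∀ {d}, d ∈ D → ψ d v = v → (d : G) * s = s * d := fun {d} hd e =>
    mul_inv_eq_iff_eq_mul.1 (h.fix_pointwise hx (hDx d hd) hu e)
  have hnormQs : ∀ {d : ↥(Subgroup.centralizer ({z} : Set G))}, (d : G) * s = s * d →
      ∀ {a}, a ∈ (qImg Q).map (MulAut.conj g).toMonoidHom →
      (d : G) * a * (d : G)⁻¹ ∈ (qImg Q).map (MulAut.conj g).toMonoidHom := fun {d} hd {a} ha =>
    hQs.2 (centralizer_conj_le h.normalizer g hd (hQs.1 ha))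
  -- lifts of the linear part of `E` lie in the conjugate of `Q`
  have hQsD : ∀ {d}, d ∈ D → ψ d ∈ linPart E → (d : G) ∈ (qImg Q).map (MulAut.conj g).toMonoidHom := by
    intro d hd he
    obtain ⟨a, ha, hae⟩ := (hE _).1 he.1
    set qc := a * d⁻¹ with hqc
    have hq : (qc : G) ∈ qImg Q := (h.ker _).1 (by rw [hqc, map_mul, map_inv, hae, mul_inv_cancel])
    have hrd : ∀ r ∈ R0, (a : G) * r * (a : G)⁻¹ = (d : G) * r * (d : G)⁻¹ := fun r hr => by
      have hw : π r ∈ R := (hR _).2 ⟨r, hr, rfl⟩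
      have hca : (a : G) * r * (a : G)⁻¹ = r ∨ (a : G) * r * (a : G)⁻¹ = r * s := h'.conj_cases hr.2 ha
      have hae' : ψ d (π r) = π ((a : G) * r * (a : G)⁻¹) := by rw [h.act a r hr.1, hae]
      rcases hca with e | e
      · rw [e] at hae'
        rw [e, h.fix_pointwise hx (hDx d hd) hr.1 hae']
      · rw [e, h.π_mul r hr.1 s hu] at hae'
        obtain ⟨c, hc⟩ : ∃ c, r = h.can hx (π r) * zp z c := by
          rcases (h.π_eq_iff (h.can_mem hx (π r)) hr.1).1 (h.π_can hx (π r)) with e1 | e1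
          · exact ⟨0, by rw [zp_zero, mul_one]; exact e1⟩
          · exact ⟨1, e1⟩
        have hdz : (d : G) * zp z c * (d : G)⁻¹ = zp z c := by
          rw [← h.zp_comm c (Subgroup.mem_centralizer_singleton_iff.1 d.2), mul_inv_cancel_right]
        have hcs : h.can hx (π r + v) = h.can hx (π r) * s := by
          have e1 := h.can_mul hx (P.bs_R hw hvR)
          rw [bs_v_om hw, zp_zero, mul_one, hcan] at e1
          exact e1.symm
        rw [e]
        conv_rhs => rw [hc]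
        rw [show (d : G) * (h.can hx (π r) * zp z c) * (d : G)⁻¹ =
            (d : G) * h.can hx (π r) * (d : G)⁻¹ * ((d : G) * zp z c * (d : G)⁻¹) by group, hdz,
          h.can_conj hx (hDx d hd), hae', hcs, mul_assoc (h.can hx (π r)) s, ← h.zp_comm c (h.cent_z hu),
          ← mul_assoc (h.can hx (π r)), ← hc]
    have hq0 : (qc : G) ∈ R0 := by
      refine hperp _ hq fun r hr => ?_
      have hfix : (d : G) * s = s * d := hfixs hd (P.E_fix _ he.1)
      have hr' : (d : G)⁻¹ * r * d ∈ R0 := by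
        have := hRinv d⁻¹ (Commute.inv_left hfix) r hr
        simpa using this
      have h1 := hrd _ hr'
      rw [show (d : G) * ((d : G)⁻¹ * r * d) * (d : G)⁻¹ = r by group] at h1
      show (a : G) * (d : G)⁻¹ * r = r * ((a : G) * (d : G)⁻¹)
      calc (a : G) * (d : G)⁻¹ * r = ((a : G) * ((d : G)⁻¹ * r * d) * (a : G)⁻¹) * a * (d : G)⁻¹ := by group
        _ = r * ((a : G) * (d : G)⁻¹) := by rw [h1]; group
    have : (d : G) = (qc : G)⁻¹ * a := by rw [hqc]; show (d : G) = ((a : G) * (d : G)⁻¹)⁻¹ * a; group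
    rw [this]
    exact mul_mem (inv_mem hq0.2) ha
  -- action in the second system
  have hsys : ∀ {a}, a ∈ D → ψ a v = v → ∃ k ∈ ψ.range, k v' = v' ∧
      (∀ r, r ∈ (qImg Q).map (MulAut.conj g).toMonoidHom → pp ((a : G) * r * (a : G)⁻¹) = k (pp r)) ∧
      (∀ w, k (y w) = y (ψ a w) ∨ w ∉ R) := by
    intro a ha hav
    have hc := hfixs ha hav
    have hm : g⁻¹ * (a : G) * g ∈ Subgroup.centralizer ({z} : Set G) := by
      rw [Subgroup.mem_centralizer_singleton_iff]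
      calc g⁻¹ * (a : G) * g * z = g⁻¹ * ((a : G) * s) * g := by rw [hs]; group
        _ = z * (g⁻¹ * (a : G) * g) := by rw [hc, hs]; group
    have key : ∀ r, r ∈ (qImg Q).map (MulAut.conj g).toMonoidHom →
        pp ((a : G) * r * (a : G)⁻¹) = ψ ⟨_, hm⟩ (pp r) := fun r hr => by
      show π (g⁻¹ * ((a : G) * r * (a : G)⁻¹) * g) = _
      rw [show g⁻¹ * ((a : G) * r * (a : G)⁻¹) * g = (g⁻¹ * (a : G) * g) * (g⁻¹ * r * g) * (g⁻¹ * (a : G) * g)⁻¹ by group]
      exact h.act ⟨_, hm⟩ _ (hQs.1 hr)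
    refine ⟨ψ ⟨_, hm⟩, ⟨_, rfl⟩, ?_, key, fun w => ?_⟩
    · have haz : (a : G) * z * (a : G)⁻¹ = z := mul_inv_eq_iff_eq_mul.2 (Subgroup.mem_centralizer_singleton_iff.1 a.2)
      have := key z hzR.2
      rw [haz] at this
      exact this.symm
    · by_cases hw : w ∈ R
      · exact Or.inl (by rw [← key _ (hcanR hw).2, h.can_conj hx (hDx a ha)])
      · exact Or.inr hw
  have hroot : ∀ {q : V6 ≃ₗ[ZMod 2] V6}, q ∈ ψ.range → q v = v → (∀ w, q (omV w) = omV (q w)) →
      ∃ a, a ∈ D ∧ ψ a = q * q ∧ (a : G) * s = s * a ∧ ∃ k ∈ ψ.range, k v' = v' ∧ (∀ w, k (omV w) = omV (k w)) ∧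
        (∀ r, r ∈ (qImg Q).map (MulAut.conj g).toMonoidHom → pp ((a : G) * r * (a : G)⁻¹) = k (pp r)) ∧
        ∀ w ∈ R, k (y w) = y (q (q w)) := by
    intro q hq hqv hql
    obtain ⟨b, hb, hbq⟩ := hlift hq hql
    obtain ⟨k, hk, hkv, hkact, hky⟩ := hsys hb (by rw [hbq, hqv])
    refine ⟨b * b, mul_mem hb hb, by rw [map_mul, hbq], ?_, k * k, mul_mem hk hk, ?_, fun w => ?_, fun r hr => ?_, fun w hw => ?_⟩
    · have hc := hfixs hb (by rw [hbq, hqv])
      exact Commute.mul_left hc hc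
    · show k (k v') = v'
      rw [hkv, hkv]
    · show k (k (omV w)) = omV (k (k w))
      rcases h.model.scal k hk with e | e
      · rw [e, e]
      · rw [e, e, e, omV_cube]
    · show _ = k (k (pp r))
      have hc := hfixs hb (by rw [hbq, hqv])
      rw [← hkact r hr, ← hkact _ (hnormQs hc hr)]
      congr 1
      show (b : G) * b * r * ((b : G) * b)⁻¹ = _
      group
    · show k (k (y w)) = _
      have hw' : q w ∈ R := P.inv q hq hqv w hw
      rw [(hky w).resolve_right (not_not.2 hw), hbq, (hky (q w)).resolve_right (not_not.2 hw'), hbq]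
  -- the line
  have hv'ne : v' ≠ 0 := P'.v_ne
  have hgz : ∀ {w}, w ∈ R → ∀ {c : ZMod 2}, y w + c • v' = 0 → (c = 0 ∧ (w = 0 ∨ w = v)) := by
    intro w hw c e
    have e1 : pp (h.can hx w * zp z c) = 0 := by rw [pp_mul _ _ (hcanR hw).2 (hzp c).2, ppzp]; exact e
    rcases pp_ker _ (mul_mem (hcanR hw).2 (hzp c).2) e1 with e2 | e2
    · have e3 : h.can hx w = zp z c := by
        have hh := (mul_eq_one_iff_eq_inv.1 e2)
        rcases z2 c with rfl | rfl
        · rw [hh, zp_zero, inv_one]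
        · rw [hh, zp_one, h.extra.inv_z]
      have hw0 : w = 0 := by rw [← h.π_can hx w, e3, h.π_zp]
      rw [hw0, h.can_zero hx] at e3
      exact ⟨h.zp_inj (e3.symm.trans (zp_zero z).symm), Or.inl hw0⟩
    · have e3 : h.can hx w = s * zp z c := by
        rcases z2 c with rfl | rfl
        · rw [zp_zero, mul_one] at e2 ⊢; exact e2
        · rw [zp_one] at e2 ⊢; rw [← e2, mul_assoc, h.extra.z_sq, mul_one]
      have hw0 : w = v := by
        rw [← h.π_can hx w, e3, h.π_mul _ hu _ (h.zp_mem c), h.π_zp, add_zero]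
      rw [hw0, hcan] at e3
      exact ⟨h.zp_inj ((left_eq_mul.1 e3).trans (zp_zero z).symm), Or.inr hw0⟩
  have hyv : ∀ {w}, w ∈ R → ∀ {w'}, w' ∈ R → ∀ {c : ZMod 2}, y w = y w' + c • v' →
      w + w' = 0 ∨ w + w' = v := by
    intro w hw w' hw' c e
    refine (hgz (add_mem hw hw') (c := c + bs w' (omV w)) ?_).2
    have e1 := y_add hw hw'
    rw [e, add_right_comm, two_V6, zero_add] at e1
    rw [add_smul, add_left_comm, ← e1, two_V6]
  have hωv : ∃ c : ZMod 2, y (omV v) = omV v' + c • v' := by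
    obtain ⟨w, hw, c, hc⟩ := R'_exp P'.omv_mem
    obtain ⟨a, ha⟩ := hfixall w hw fun q hq k hk hkv hkl hkact => by
      obtain ⟨b, hb, hbk, -, k', hk', hk'v, hk'l, -, hk'y⟩ := hroot hk hkv hkl
      have hkw : k (k w) ∈ R := P.inv k hk hkv _ (P.inv k hk hkv w hw)
      have e1 : k' (omV v') = omV v' := by rw [hk'l, hk'v]
      rw [hc, map_add, map_smul, hk'v, hk'y w hw, add_left_inj] at e1
      rcases hyv hkw hw (c := 0) (by rw [e1, zero_smul, add_zero]) with e2 | e2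
      · exact ⟨0, by rw [sc_zero, add_zero]; exact eq_of_add_zero e2⟩
      · exact ⟨(1, 0), by rw [sc_one, ← e2, add_left_comm, two_V6, add_zero]⟩
    subst ha
    refine ⟨c, ?_⟩
    have hne2 : a.2 ≠ 0 := by
      intro e
      have ha0 : sc v a = 0 ∨ sc v a = v := by
        rcases z2 a.1 with e1 | e1
        · left; rw [sc, e, e1]; simp
        · right; rw [sc, e, e1]; simp
      have : omV v' = c • v' := by
        rcases ha0 with e1 | e1 <;> rw [e1] at hc
        · rw [hc, show y 0 = 0 by show pp _ = 0; rw [h.can_zero hx]; exact ppzp 0 |>.trans (zero_smul _ _), zero_add]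
        · rw [hc, y_v, zero_add]
      rcases z2 c with rfl | rfl
      · rw [zero_smul, ← omV_zero] at this; exact hv'ne (omV_inj this)
      · rw [one_smul] at this
        have e2 := congrArg omV this
        rw [omV_sq, this, two_V6] at e2
        exact hv'ne (e2 ▸ rfl : v' = 0)
    have ha2 : a.2 = 1 := (z2 _).resolve_left hne2
    have e : y (sc v a) = y (omV v) := by
      rcases z2 a.1 with e1 | e1
      · rw [sc, e1, ha2]; simp
      · rw [sc, e1, ha2, one_smul, one_smul, add_comm, y_addv P.omv_mem]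
    rw [← e, hc, add_assoc, two_V6, add_zero]
  obtain ⟨cω, hcω⟩ := hωv
  have y_line : ∀ a, ∃ b, y (sc v a) = sc v' b := fun a => by
    have e0 : y 0 = 0 := by show pp _ = 0; rw [h.can_zero hx]; exact (ppzp 0).trans (zero_smul _ _)
    have eω : ∃ b, y (omV v) = sc v' b := ⟨(cω, 1), by rw [hcω, sc, one_smul, add_comm]⟩
    rcases z2 a.1 with e1 | e1 <;> rcases z2 a.2 with e2 | e2 <;> rw [sc, e1, e2]
    · exact ⟨0, by simp [e0, sc_zero]⟩
    · simpa using eω
    · exact ⟨0, by simp [y_v, sc_zero]⟩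
    · obtain ⟨b, hb⟩ := eω
      exact ⟨b, by rw [one_smul, one_smul, add_comm, y_addv P.omv_mem, hb]⟩
  have hω'y : ∀ {w}, w ∈ R → ∀ b, y w = sc v' b → ∃ a, w = sc v a := by
    intro w hw b e
    have hb : b = (b.1, b.2) := rfl
    rcases z2 b.2 with e2 | e2
    · obtain ⟨-, h2⟩ := hgz hw (c := b.1) (by
        rw [e, sc, e2, zero_smul, add_zero, two_V6])
      rcases h2 with rfl | rfl
      · exact ⟨0, (sc_zero v).symm⟩
      · exact ⟨(1, 0), (sc_one v).symm⟩
    · have : y w = y (omV v) + (b.1 + cω) • v' := by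
        rw [e, sc, e2, one_smul, hcω, add_smul, add_assoc, add_left_comm (cω • v'), two_V6, add_zero, add_comm]
      rcases hyv hw P.omv_mem this with e3 | e3
      · exact ⟨(0, 1), by rw [sc_om]; exact eq_of_add_zero e3⟩
      · refine ⟨(1, 1), ?_⟩
        rw [sc, one_smul, one_smul]
        calc w = (w + omV v) + omV v := by rw [add_assoc, two_V6, add_zero]
          _ = v + omV v := by rw [e3]
  -- the elements attached to the pairs
  have hd : ∀ i k, i ≠ k → ∃ d, d ∈ D ∧ (d : G) ∈ (qImg Q).map (MulAut.conj g).toMonoidHom ∧ ψ d ∈ linPart E ∧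
      ∀ r ∈ R, ψ d r = r + bs r (omV (rp i k)) • v := fun i k hik => by
    obtain ⟨e, he, hact⟩ := hexE i k hik
    obtain ⟨d, hdD, rfl⟩ := hlift (P.E_le he.1) he.2
    exact ⟨d, hdD, hQsD hdD he, he, hact⟩
  choose! dd hdD hdQs hdE hdact using hd
  let δ : Fin 6 → Fin 6 → V6 := fun i k => pp (dd i k)
  -- `δ 0 1` lies in the plane spanned by the images of the first pair and of `z`
  have h01 : (0 : Fin 6) ≠ 1 := by decide
  have hδperp : bs (δ 0 1) v' = 0 ∧ bs (δ 0 1) (omV v') = 0 := by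
    have hdz : (dd 0 1 : G) * z = z * (dd 0 1 : G) := Subgroup.mem_centralizer_singleton_iff.1 (dd 0 1).2
    have h1 : bs (δ 0 1) v' = 0 := by
      refine h.bs_of_commute (hQs.1 (hdQs 0 1 h01)) (hQs.1 hzR.2) ?_
      calc g⁻¹ * (dd 0 1 : G) * g * (g⁻¹ * z * g) = g⁻¹ * ((dd 0 1 : G) * z) * g := by group
        _ = _ := by rw [hdz]; group
    refine ⟨h1, ?_⟩
    have hfix : ψ (dd 0 1) (π (h.can hx (omV v))) = π (h.can hx (omV v)) := by
      rw [h.π_can hx, (hdE 0 1 h01).2, P.E_fix _ (hdE 0 1 h01).1]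
    have hc := h.fix_pointwise hx (hDx _ (hdD 0 1 h01)) (h.can_mem hx (omV v)) hfix
    have h2 : bs (δ 0 1) (y (omV v)) = 0 := by
      refine h.bs_of_commute (hQs.1 (hdQs 0 1 h01)) (hQs.1 (hcanR P.omv_mem).2) ?_
      have hc' := mul_inv_eq_iff_eq_mul.1 hc
      calc g⁻¹ * (dd 0 1 : G) * g * (g⁻¹ * h.can hx (omV v) * g) = g⁻¹ * ((dd 0 1 : G) * h.can hx (omV v)) * g := by group
        _ = _ := by rw [hc']; group
    rwa [hcω, bs_add, bs_smul_right, h1, mul_zero, add_zero] at h2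
  have hdecomp : ∀ u, bs u v' = 0 → bs u (omV v') = 0 → ∃ ρ ∈ R', ∃ ρ' ∈ R', u = omV ρ + ρ' := by
    let φ : R' × R' →+ V6 := AddMonoidHom.mk' (fun p => omV (p.1 : V6) + (p.2 : V6)) fun p q => by
      show omV ((p.1 : V6) + q.1) + ((p.2 : V6) + q.2) = _
      rw [omV_add]; abel
    let χ : V6 →+ ZMod 2 × ZMod 2 := AddMonoidHom.mk' (fun u => (bs u v', bs u (omV v'))) fun p q =>
      Prod.ext (bs_add_left _ _ _) (bs_add_left _ _ _)
    have hline : ∀ p : φ.ker, ∃ a, ((p : R' × R').1 : V6) = sc v' a := fun p => by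
      have e : omV ((p : R' × R').1 : V6) + ((p : R' × R').2 : V6) = 0 := p.2
      exact P'.line_of_both (p : R' × R').1.2 (eq_of_add_zero e ▸ (p : R' × R').2.2)
    choose af haf using hline
    have hk : Nat.card φ.ker ≤ 4 := by
      refine (Nat.card_le_card_of_injective af fun p q e => ?_).trans (le_of_eq (by simp))
      have e1 : ((p : R' × R').1 : V6) = ((q : R' × R').1 : V6) := by rw [haf, haf, e]
      have ep : omV ((p : R' × R').1 : V6) + ((p : R' × R').2 : V6) = 0 := p.2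
      have eq : omV ((q : R' × R').1 : V6) + ((q : R' × R').2 : V6) = 0 := q.2
      refine Subtype.ext (Prod.ext (Subtype.ext e1) (Subtype.ext ?_))
      rw [← eq_of_add_zero ep, ← eq_of_add_zero eq, e1]
    have hsurj : Function.Surjective χ := by
      obtain ⟨t, ht⟩ : ∃ t, bs t v' = 1 := by
        by_contra hc
        push Not at hc
        refine hv'ne (bs_nondeg fun u => ?_)
        rw [bs_comm]
        exact (z2 _).resolve_right (hc u)
      obtain ⟨t₁, t₂, h1, h2⟩ : ∃ t₁ t₂, χ t₁ = (1, 0) ∧ χ t₂ = (0, 1) := by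
        have hw : χ (omV t) = (1 + bs t (omV v'), 1) := by
          show (bs (omV t) v', bs (omV t) (omV v')) = _
          rw [bs_om_swap t v', bs_omV, ht]
        rcases z2 (bs t (omV v')) with e | e
        · refine ⟨t, omV t + t, ?_, ?_⟩
          · show (bs t v', bs t (omV v')) = _; rw [ht, e]
          · rw [map_add, hw, e, show χ t = (1, 0) by show (bs t v', bs t (omV v')) = _; rw [ht, e]]; rfl
        · refine ⟨omV t + t, omV t, ?_, ?_⟩
          · rw [map_add, hw, e, show χ t = (1, 1) by show (bs t v', bs t (omV v')) = _; rw [ht, e]]; rfl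
          · rw [hw, e]; rfl
      rintro ⟨p, q⟩
      rcases z2 p with rfl | rfl <;> rcases z2 q with rfl | rfl
      · exact ⟨0, map_zero χ⟩
      · exact ⟨t₂, h2⟩
      · exact ⟨t₁, h1⟩
      · exact ⟨t₁ + t₂, by rw [map_add, h1, h2]; rfl⟩
    have hle : φ.range ≤ χ.ker := by
      rintro _ ⟨p, rfl⟩
      show (bs (omV _ + _) v', bs (omV _ + _) (omV v')) = (0, 0)
      rw [bs_add_left, bs_add_left, bs_omV, P'.bs_R p.2.2 P'.v_mem, P'.bs_R p.1.2 P'.v_mem,
        P'.bs_R p.2.2 P'.omv_mem, bs_om_swap, P'.bs_R p.1.2 P'.v_mem, P'.bs_R p.1.2 P'.omv_mem, add_zero]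
      rfl
    have c1 := φ.ker.card_mul_index
    rw [AddSubgroup.index_ker, Nat.card_prod, P'.cardR] at c1
    have c2 := χ.ker.card_mul_index
    rw [AddSubgroup.index_ker, AddMonoidHom.range_eq_top.2 hsurj, AddSubgroup.card_top, Nat.card_prod, Nat.card_zmod,
      show Nat.card V6 = 4096 by rw [Nat.card_eq_fintype_card]; simp] at c2
    have heq : φ.range = χ.ker := AddSubgroup.eq_of_le_of_card_ge hle (by nlinarith)
    intro u h1 h2
    obtain ⟨p, hp⟩ : u ∈ φ.range := by rw [heq]; exact Prod.ext h1 h2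
    exact ⟨_, p.1.2, _, p.2.2, hp.symm⟩
  obtain ⟨ρ, hρ, ρ', hρ', hδ01⟩ := hdecomp _ hδperp.1 hδperp.2
  -- conjugation of the attached elements
  have hequiv : ∀ {q : V6 ≃ₗ[ZMod 2] V6}, q ∈ ψ.range → q v = v → (∀ w, q (omV w) = omV (q w)) →
      ∀ {a}, a ∈ D → ψ a = q → (a : G) * s = s * a → ∀ {i k i' k'}, i ≠ k → i' ≠ k' → q (rp i k) = rp i' k' →
      a * dd i k * a⁻¹ = dd i' k' := by
    intro q hq hqv hql a ha haq has i k i' k' hik hik' hmv
    have hm : a * dd i k * a⁻¹ ∈ D := mul_mem (mul_mem ha (hdD i k hik)) (inv_mem ha)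
    refine hinj hm (hdD i' k' hik') ?_
    have hqs : ((a * dd i k * a⁻¹ : ↥(Subgroup.centralizer ({z} : Set G))) : G) ∈ (qImg Q).map (MulAut.conj g).toMonoidHom :=
      hnormQs has (hdQs i k hik)
    have hcomm : ∀ c ∈ D, ∀ w, ψ c (omV w) = omV (ψ c w) := fun c hc w => by
      rw [← hx, ← hx, ← LinearEquiv.mul_apply, ← map_mul, (hDx c hc).eq, map_mul, LinearEquiv.mul_apply]
    refine P.lin_ext ⟨(hE _).2 ⟨_, hqs, rfl⟩, hcomm _ hm⟩ (hdE i' k' hik') fun r hr => ?_
    rw [map_mul, map_mul, map_inv, haq]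
    show q (ψ (dd i k) (q.symm r)) = _
    have hr' : q.symm r ∈ R := P.inv q⁻¹ (inv_mem hq) (by
      show q.symm v = v
      conv_lhs => rw [← hqv]
      exact q.symm_apply_apply v) r hr
    rw [hdact i k hik _ hr', hdact i' k' hik' r hr, map_add, map_smul, hqv, q.apply_symm_apply, ← hmv, ← hql,
      ← h.model.bs_map hq (q.symm r) (omV (rp i k)), q.apply_symm_apply]
  have hfixρ : ∀ ρ₀ ∈ R', (∀ q : Equiv.Perm (Fin 6), q ∈ alternatingGroup (Fin 6) → ∀ k ∈ ψ.range, k v = v →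
      (∀ w, k (omV w) = omV (k w)) → (∀ i j, k (rp i j) = rp (q i) (q j)) → k (k (rp 0 1)) = rp 0 1 →
      ∀ k' ∈ ψ.range, k' v' = v' → (∀ w, k' (omV w) = omV (k' w)) → (∀ w ∈ R, k' (y w) = y (k (k w))) →
        ∀ a, a ∈ D → ψ a = k * k → (a : G) * s = s * a →
        (∀ r, r ∈ (qImg Q).map (MulAut.conj g).toMonoidHom → pp ((a : G) * r * (a : G)⁻¹) = k' (pp r)) →
        ∃ b, k' ρ₀ = ρ₀ + sc v' b) →
      ∃ a b, ρ₀ = sc (y (rp 0 1)) a + sc v' b := by
    intro ρ₀ hρ₀ hfix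
    obtain ⟨w, hw, c, rfl⟩ := R'_exp hρ₀
    obtain ⟨a, ha⟩ := hfixpair w hw fun q hq k hk hkv hkl hkact hk01 => by
      obtain ⟨a, haD, hak, has, k', hk', hk'v, hk'l, hk'act, hk'y⟩ := hroot hk hkv hkl
      obtain ⟨b, hb⟩ := hfix q hq k hk hkv hkl hkact hk01 k' hk' hk'v hk'l hk'y a haD hak has hk'act
      rw [map_add, map_smul, hk'v, hk'y w hw, add_right_comm (y w) _ (sc v' b), add_left_inj] at hb
      have hkw : k (k w) ∈ R := P.inv k hk hkv _ (P.inv k hk hkv w hw)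
      have hs1 : k (k w) + w ∈ R := add_mem hkw hw
      have e2 := y_add hkw hw
      rw [hb, add_right_comm, two_V6, zero_add] at e2
      obtain ⟨a', ha'⟩ := hω'y hs1 (b + (bs w (omV (k (k w))), 0)) (by
        rw [sc_add, show sc v' (bs w (omV (k (k w))), (0 : ZMod 2)) = bs w (omV (k (k w))) • v' by simp [sc], e2,
          add_assoc, two_V6, add_zero])
      exact ⟨a', by rw [← ha', add_left_comm, two_V6, add_zero]⟩
    obtain ⟨b, hb⟩ := y_line a
    have hsc1 : sc (y (rp 0 1)) (1, 0) = y (rp 0 1) := sc_one _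
    rcases ha with rfl | rfl
    · refine ⟨0, b + (c, 0), ?_⟩
      rw [sc_zero, zero_add, sc_add, hb, show sc v' (c, (0 : ZMod 2)) = c • v' by simp [sc]]
    · have e := y_add (hrp 0 1 h01) (P.sc_mem a)
      refine ⟨(1, 0), b + (bs (sc v a) (omV (rp 0 1)) + c, 0), ?_⟩
      rw [sc_one, sc_add, show sc v' (bs (sc v a) (omV (rp 0 1)) + c, (0 : ZMod 2)) =
        (bs (sc v a) (omV (rp 0 1)) + c) • v' by simp [sc], ← hb, add_smul, ← add_assoc, ← add_assoc, e,
        add_assoc (y _) (_ • v'), two_V6, add_zero]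
  have hδfix : ∀ q : Equiv.Perm (Fin 6), q ∈ alternatingGroup (Fin 6) → ∀ k ∈ ψ.range, k v = v →
      (∀ w, k (omV w) = omV (k w)) → (∀ i j, k (rp i j) = rp (q i) (q j)) → k (k (rp 0 1)) = rp 0 1 →
      ∀ k' ∈ ψ.range, k' v' = v' → (∀ w, k' (omV w) = omV (k' w)) → ∀ a, a ∈ D → ψ a = k * k →
      (a : G) * s = s * a →
      (∀ r, r ∈ (qImg Q).map (MulAut.conj g).toMonoidHom → pp ((a : G) * r * (a : G)⁻¹) = k' (pp r)) →
      (∃ b, k' ρ = ρ + sc v' b) ∧ ∃ b, k' ρ' = ρ' + sc v' b := by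
    intro q hq k hk hkv hkl hkact hk01 k' hk' hk'v hk'l a ha hak has hact'
    have e : k' (δ 0 1) = δ 0 1 := by
      show k' (pp (dd 0 1)) = pp (dd 0 1)
      rw [← hact' _ (hdQs 0 1 h01)]
      have := hequiv (mul_mem hk hk) (show k (k v) = v by rw [hkv, hkv])
        (fun w => by show k (k (omV w)) = omV (k (k w)); rw [hkl, hkl]) ha hak has h01 h01 hk01
      exact congrArg pp (congrArg Subtype.val this)
    rw [hδ01, map_add, hk'l] at e
    have hk'ρ : k' ρ ∈ R' := P'.inv k' hk' hk'v ρ hρ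
    have hk'ρ' : k' ρ' ∈ R' := P'.inv k' hk' hk'v ρ' hρ'
    have e1 : omV (k' ρ + ρ) = k' ρ' + ρ' := by
      rw [omV_add]
      refine eq_of_add_zero ?_
      rw [show omV (k' ρ) + omV ρ + (k' ρ' + ρ') = omV (k' ρ) + k' ρ' + (omV ρ + ρ') by abel, e, two_V6]
    obtain ⟨b, hb⟩ := P'.line_of_both (add_mem hk'ρ hρ) (by rw [e1]; exact add_mem hk'ρ' hρ')
    refine ⟨⟨b, ?_⟩, ⟨om b, ?_⟩⟩
    · rw [← hb, add_left_comm, two_V6, add_zero]
    · rw [← omV_sc, ← hb, e1, add_left_comm, two_V6, add_zero]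
  obtain ⟨a₁, b₁, hρ1⟩ := hfixρ ρ hρ fun q hq k hk hkv hkl hkact hk01 k' hk' hk'v hk'l _ a ha hak has hact' =>
    (hδfix q hq k hk hkv hkl hkact hk01 k' hk' hk'v hk'l a ha hak has hact').1
  obtain ⟨a₂, b₂, hρ2⟩ := hfixρ ρ' hρ' fun q hq k hk hkv hkl hkact hk01 k' hk' hk'v hk'l _ a ha hak has hact' =>
    (hδfix q hq k hk hkv hkl hkact hk01 k' hk' hk'v hk'l a ha hak has hact').2
  obtain ⟨A, B, hAB⟩ : ∃ A B, δ 0 1 = sc (y (rp 0 1)) A + sc v' B :=
    ⟨om a₁ + a₂, om b₁ + b₂, by rw [hδ01, hρ1, hρ2, omV_add, omV_sc, omV_sc, sc_add, sc_add]; abel⟩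
  have hmove : ∀ t, δ (rootMove t (rootMove t 0)) (rootMove t (rootMove t 1)) =
      sc (y (rp (rootMove t (rootMove t 0)) (rootMove t (rootMove t 1)))) A + sc v' B := by
    intro t
    obtain ⟨k, hk, hkv, hkl, hkact⟩ := hact _ (rootMove_mem t)
    obtain ⟨a, ha, hak, has, k', hk', hk'v, hk'l, hk'act, hk'y⟩ := hroot hk hkv hkl
    have hne2 : rootMove t (rootMove t 0) ≠ rootMove t (rootMove t 1) := fun e =>
      h01 ((rootMove t).injective ((rootMove t).injective e))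
    have hmv : k (k (rp 0 1)) = rp (rootMove t (rootMove t 0)) (rootMove t (rootMove t 1)) := by rw [hkact, hkact]
    have := hequiv (mul_mem hk hk) (show k (k v) = v by rw [hkv, hkv])
      (fun w => by show k (k (omV w)) = omV (k (k w)); rw [hkl, hkl]) ha hak has h01 hne2 hmv
    show pp (dd _ _) = _
    rw [← this]
    show pp ((a : G) * (dd 0 1 : G) * (a : G)⁻¹) = _
    rw [hk'act _ (hdQs 0 1 h01), show pp (dd 0 1) = δ 0 1 from rfl, hAB, map_add, sc, sc, sc, map_add, map_smul,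
      map_smul, map_add, map_smul, map_smul, hk'l, hk'l, hk'v, hk'y _ (hrp 0 1 h01), hmv]
  have h12 : δ 1 2 = sc (y (rp 1 2)) A + sc v' B := by
    have := hmove 0; rwa [(rootMove_facts 0).1, (rootMove_facts 0).2] at this
  have h02 : δ 0 2 = sc (y (rp 0 2)) A + sc v' B := by
    have := hmove 1; rwa [(rootMove_facts 1).1, (rootMove_facts 1).2] at this
  have h23 : δ 2 3 = sc (y (rp 2 3)) A + sc v' B := by
    have := hmove 2; rwa [(rootMove_facts 2).1, (rootMove_facts 2).2] at this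
  have h45 : δ 4 5 = sc (y (rp 4 5)) A + sc v' B := by
    have := hmove 3; rwa [(rootMove_facts 3).1, (rootMove_facts 3).2] at this
  have hmulD : ∀ {i k i' k'}, i ≠ k → i' ≠ k' → ∀ r ∈ R, ψ (dd i k * dd i' k') r =
      r + (bs r (omV (rp i k)) + bs r (omV (rp i' k'))) • v := fun {i k i' k'} hik hik' r hr => by
    rw [map_mul]
    show ψ (dd i k) (ψ (dd i' k') r) = _
    rw [hdact i' k' hik' r hr, map_add, map_smul, hdact i k hik r hr, P.E_fix _ (hdE i k hik).1, add_smul, add_assoc]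
  -- the two relations
  have htr : sc v' (A + B) = 0 := by
    have e : dd 0 1 * dd 1 2 = dd 0 2 := by
      refine hinj (mul_mem (hdD 0 1 h01) (hdD 1 2 (by decide))) (hdD 0 2 (by decide)) ?_
      refine P.lin_ext (by rw [map_mul]; exact mul_mem (hdE 0 1 h01) (hdE 1 2 (by decide))) (hdE 0 2 (by decide)) fun r hr => ?_
      rw [hmulD h01 (by decide) r hr, hdact 0 2 (by decide) r hr, ← htri, omV_add, bs_add]
    have e1 : δ 0 1 + δ 1 2 = δ 0 2 := by
      show pp _ + pp _ = pp _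
      rw [← pp_mul _ _ (hdQs 0 1 h01) (hdQs 1 2 (by decide)), ← e]; rfl
    have e2 : y (rp 0 1) + y (rp 1 2) = y (rp 0 2) + v' := by
      rw [y_add (hrp 0 1 h01) (hrp 1 2 (by decide)), htri, htri', one_smul]
    rw [hAB, h12, h02, show sc (y (rp 0 1)) A + sc v' B + (sc (y (rp 1 2)) A + sc v' B) =
      sc (y (rp 0 1)) A + sc (y (rp 1 2)) A + (sc v' B + sc v' B) by abel, two_V6, add_zero, ← sc_add_vec, e2,
      sc_add_vec] at e1
    rw [sc_add]
    rw [add_left_cancel e1, two_V6]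
  have hdis : sc (y (sc v al) + v') A = 0 := by
    have e : dd 0 1 * dd 2 3 * dd 4 5 = 1 := by
      refine hinj (mul_mem (mul_mem (hdD 0 1 h01) (hdD 2 3 (by decide))) (hdD 4 5 (by decide))) (one_mem D) ?_
      rw [map_one]
      refine P.lin_eq_one (by rw [map_mul, map_mul]; exact mul_mem (mul_mem (hdE 0 1 h01) (hdE 2 3 (by decide))) (hdE 4 5 (by decide))) fun r hr => ?_
      rw [map_mul]
      show ψ (dd 0 1 * dd 2 3) (ψ (dd 4 5) r) = r
      rw [hdact 4 5 (by decide) r hr, map_add, map_smul, hmulD h01 (by decide) r hr,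
        hmulD h01 (by decide) v hvR, bs_v_om (hrp 0 1 h01), bs_v_om (hrp 2 3 (by decide)), add_zero, zero_smul, add_zero,
        add_assoc, ← add_smul, ← bs_add, ← bs_add, ← omV_add, ← omV_add, hal]
      rw [show bs r (omV (sc v al)) = 0 by rw [omV_sc]; exact P.bs_R hr (P.sc_mem _), zero_smul, add_zero]
    have e1 : δ 0 1 + δ 2 3 + δ 4 5 = 0 := by
      show pp _ + pp _ + pp _ = 0
      rw [← pp_mul _ _ (hdQs 0 1 h01) (hdQs 2 3 (by decide)),
        ← pp_mul _ _ (mul_mem (hdQs 0 1 h01) (hdQs 2 3 (by decide))) (hdQs 4 5 (by decide))]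
      have := congrArg Subtype.val e
      change (dd 0 1 : G) * (dd 2 3 : G) * (dd 4 5 : G) = 1 at this
      rw [this]
      exact (ppzp 0).trans (zero_smul _ _)
    have e2 : y (rp 0 1) + y (rp 2 3) + y (rp 4 5) = y (sc v al) := by
      rw [y_add (hrp 0 1 h01) (hrp 2 3 (by decide)), hd1, zero_smul, add_zero,
        y_add (add_mem (hrp 0 1 h01) (hrp 2 3 (by decide))) (hrp 4 5 (by decide)), hd2, zero_smul, add_zero, hal]
    rw [hAB, h23, h45, show sc (y (rp 0 1)) A + sc v' B + (sc (y (rp 2 3)) A + sc v' B) + (sc (y (rp 4 5)) A + sc v' B) =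
      sc (y (rp 0 1)) A + sc (y (rp 2 3)) A + sc (y (rp 4 5)) A + sc v' B + (sc v' B + sc v' B) by abel, two_V6,
      add_zero, ← sc_add_vec, ← sc_add_vec, e2] at e1
    have hAB' : sc v' A = sc v' B := by rw [sc_add] at htr; exact eq_of_add_zero htr
    rw [sc_add_vec, hAB']
    exact e1
  have hABeq : A = B := by
    have := sc_eq_zero hv'ne htr
    exact Prod.ext (CharTwo.add_eq_zero.1 (congrArg Prod.fst this)) (CharTwo.add_eq_zero.1 (congrArg Prod.snd this))
  obtain ⟨l, hl⟩ := y_line al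
  have hl1 : l ≠ (1, 0) := fun e => by
    rw [e, sc_one] at hl
    obtain ⟨hc, -⟩ := hgz (P.sc_mem al) (c := 1) (by rw [hl, one_smul, two_V6])
    exact one_ne_zero hc
  have hA0 : A = 0 := by
    rw [hl, ← sc_one v', sc_one v', show sc v' l + v' = sc v' (l + (1, 0)) by rw [sc_add, sc_one]] at hdis
    have hne2 : sc v' (l + (1, 0)) ≠ 0 := fun e => hl1 (Prod.ext
      (CharTwo.add_eq_zero.1 (congrArg Prod.fst (sc_eq_zero hv'ne e)))
      (CharTwo.add_eq_zero.1 (congrArg Prod.snd (sc_eq_zero hv'ne e))))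
    exact sc_eq_zero hne2 hdis
  have hδ0 : δ 0 1 = 0 := by rw [hAB, ← hABeq, hA0, sc_zero, sc_zero, add_zero]
  have hd1 : dd 0 1 = 1 := by
    rcases pp_ker _ (hdQs 0 1 h01) hδ0 with e | e
    · exact Subtype.ext e
    · exact hDQ _ (hdD 0 1 h01) (e ▸ hu)
  have hcon := hdact 0 1 h01 (rp 1 2) (hrp 1 2 (by decide))
  rw [hd1, map_one, htri', one_smul] at hcon
  exact P.v_ne (add_eq_left.1 (hcon.symm.trans rfl))

end LF

end CfsgLib.Sporadic.LargeFischer
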