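import Cfsg.Prelude.Def_Classical
import Cfsg.Agent.Lib.Chevalley.G2Two.Transfer
import Cfsg.Agent.Lib.Schur.PSUFourThree.Model
import Cfsg.Agent.Lib.Classical.SLBasic
import Cfsg.Agent.Lib.Classical.SL2Fours
import Cfsg.Agent.S0283

/-!
# An elementary abelian subgroup of order 81 of `PSU₄(3)` normalised by `SL₂(9)`

In a hyperbolic basis the stabiliser of a totally isotropic line of the unitary space contains the group of
skew hermitian translations, of order 81, and `SL₂(9)`; the latter fixes no linear form and no alternating form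
on the former.
-/

set_option autoImplicit false
set_option linter.unusedSectionVars false
set_option maxRecDepth 20000

namespace CfsgLib.Sporadic.LargeFischer

open Matrix CfsgLib.Chevalley.G2Two

/-- The data extracted from `PSU₄(3)`: an elementary abelian subgroup of order 81 and a group normalising it
which has no small quotient and fixes no linear or alternating form. -/
structure Frame81 (P : Type) [Group P] (A B : Subgroup P) : Prop where
  cardA : Nat.card A = 81
  commA : ∀ a ∈ A, ∀ a' ∈ A, a * a' = a' * a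
  cubeA : ∀ a ∈ A, a ^ 3 = 1
  norm : ∀ b ∈ B, ∀ a ∈ A, b * a * b⁻¹ ∈ A
  big : ∀ N : Subgroup B, N.Normal → N ≠ ⊤ → 360 ≤ N.index
  noLin : ∀ f : P → ZMod 3, (∀ a ∈ A, ∀ a' ∈ A, f (a * a') = f a + f a') →
    (∀ b ∈ B, ∀ a ∈ A, f (b * a * b⁻¹) = f a) → ∀ a ∈ A, f a = 0
  noAlt : ∀ β : P → P → ZMod 3, (∀ a ∈ A, ∀ a' ∈ A, ∀ c ∈ A, β (a * a') c = β a c + β a' c) →
    (∀ a ∈ A, ∀ c ∈ A, ∀ c' ∈ A, β a (c * c') = β a c + β a c') →
    (∀ a ∈ A, β a a = 0) → (∀ b ∈ B, ∀ a ∈ A, ∀ c ∈ A, β (b * a * b⁻¹) (b * c * b⁻¹) = β a c) →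
    ∀ a ∈ A, ∀ c ∈ A, β a c = 0

abbrev M2 : Type := Matrix (Fin 2) (Fin 2) F9
abbrev MB : Type := Matrix (Fin 2 ⊕ Fin 2) (Fin 2 ⊕ Fin 2) F9
abbrev SL29 : Type := Matrix.SpecialLinearGroup (Fin 2) F9

/-- Entrywise conjugation. -/
def cm {m n : Type} (S : Matrix m n F9) : Matrix m n F9 := S.map F9.conj

theorem cm_mul {n : Type} [Fintype n] (S T : Matrix n n F9) : cm (S * T) = cm S * cm T := Matrix.map_mul

theorem cm_cm {m n : Type} (S : Matrix m n F9) : cm (cm S) = S := by
  refine Matrix.ext fun i j => ?_; exact F9.conj_conj _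

theorem cm_one {n : Type} [DecidableEq n] : cm (1 : Matrix n n F9) = 1 :=
  Matrix.map_one _ (map_zero _) (map_one _)

/-- The matrix of an element of `SL₂(9)`. -/
def mt (g : SL29) : M2 := g.1

theorem mt_mul (g h : SL29) : mt (g * h) = mt g * mt h := rfl

theorem mt_one : mt 1 = 1 := rfl

theorem mt_det (g : SL29) : (mt g).det = 1 := g.2

/-- Conjugate transpose. -/
def star2 (S : M2) : M2 := (cm S)ᵀ

theorem star2_mul (S T : M2) : star2 (S * T) = star2 T * star2 S := by
  rw [star2, cm_mul, transpose_mul]; rfl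

theorem star2_star2 (S : M2) : star2 (star2 S) = S := by
  show (cm (cm S)ᵀ)ᵀ = S
  rw [show cm (cm S)ᵀ = (cm (cm S))ᵀ from rfl, transpose_transpose, cm_cm]

/-- Skew hermitian matrices in coordinates. -/
def skew (v : Fin 4 → ZMod 3) : M2 := !![⟨0, v 0⟩, ⟨v 2, v 3⟩; ⟨-v 2, v 3⟩, ⟨0, v 1⟩]

theorem skew_star : ∀ v, star2 (skew v) = -skew v := by decide +kernel

theorem skew_add : ∀ v w, skew (v + w) = skew v + skew w := by
  intro v w
  ext i j <;> fin_cases i <;> fin_cases j <;> simp [skew] <;> abel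

theorem skew_inj (v w : Fin 4 → ZMod 3) (h : skew v = skew w) : v = w := by
  funext i
  fin_cases i
  · exact congrArg (fun S : M2 => (S 0 0).im) h
  · exact congrArg (fun S : M2 => (S 1 1).im) h
  · exact congrArg (fun S : M2 => (S 0 1).re) h
  · exact congrArg (fun S : M2 => (S 0 1).im) h

theorem conj_fix : ∀ x : F9, F9.conj x = -x → x.re = 0 := by decide

theorem skew_surj (S : M2) (h : star2 S = -S) : ∃ v, skew v = S := by
  refine ⟨![(S 0 0).im, (S 1 1).im, (S 0 1).re, (S 0 1).im], ?_⟩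
  have h00 := conj_fix _ (congrFun (congrFun h 0) 0)
  have h11 := conj_fix _ (congrFun (congrFun h 1) 1)
  have h10 : F9.conj (S 0 1) = -(S 1 0) := congrFun (congrFun h 1) 0
  ext i j <;> fin_cases i <;> fin_cases j
  all_goals simp [skew, h00, h11]
  · have e := congrArg F9.re h10
    have e' : (S 0 1).re = -(S 1 0).re := e
    rw [e', neg_neg]
  · have e := congrArg F9.im h10
    have e' : -(S 0 1).im = -(S 1 0).im := e
    exact neg_injective e'

/-- The action on the skew hermitian coordinates. -/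
noncomputable def act (g : SL29) (v : Fin 4 → ZMod 3) : Fin 4 → ZMod 3 :=
  (skew_surj ((mt g) * skew v * star2 (mt g)) (by
    rw [star2_mul, star2_mul, star2_star2, skew_star]; simp [mul_assoc])).choose

theorem skew_act (g : SL29) (v : Fin 4 → ZMod 3) :
    skew (act g v) = (mt g) * skew v * star2 (mt g) :=
  (skew_surj _ (by rw [star2_mul, star2_mul, star2_star2, skew_star]; simp [mul_assoc])).choose_spec

/-- The hyperbolic form. -/
def hyp : MB := fromBlocks 0 1 1 0

/-- Translations. -/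
def tra (S : M2) : MB := fromBlocks 1 S 0 1

/-- The Levi element. -/
def lev (g : SL29) : MB := fromBlocks (mt g) 0 0 (star2 (mt g⁻¹))

theorem tra_mul (S T : M2) : tra S * tra T = tra (S + T) := by
  rw [tra, tra, tra, fromBlocks_multiply]; simp [add_comm]

theorem lev_mul (g h : SL29) : lev g * lev h = lev (g * h) := by
  rw [lev, lev, lev, fromBlocks_multiply, _root_.mul_inv_rev]; simp [star2_mul, mt_mul]

theorem lev_tra (g : SL29) (v : Fin 4 → ZMod 3) : lev g * tra (skew v) = tra (skew (act g v)) * lev g := by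
  have h : star2 (mt g) * star2 (mt g⁻¹) = 1 := by
    rw [← star2_mul, ← mt_mul, inv_mul_cancel, mt_one, star2, cm_one,
      transpose_one]
  rw [lev, tra, tra, fromBlocks_multiply, fromBlocks_multiply, skew_act]
  simp [mul_assoc, h]

theorem tra_isom (v : Fin 4 → ZMod 3) : (tra (skew v))ᵀ * hyp * cm (tra (skew v)) = hyp := by
  have h : cm (skew v) + (skew v)ᵀ = 0 := by
    have e := congrArg transpose (skew_star v)
    rw [star2, transpose_transpose, transpose_neg] at e
    rw [e, neg_add_cancel]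
  rw [show cm (tra (skew v)) = fromBlocks 1 (cm (skew v)) 0 1 by
      rw [tra, cm, fromBlocks_map, ← cm, ← cm, ← cm, cm_one]; simp [cm],
    tra, hyp, fromBlocks_transpose, fromBlocks_multiply, fromBlocks_multiply]
  simp [h, add_comm]

theorem lev_isom (g : SL29) : (lev g)ᵀ * hyp * cm (lev g) = hyp := by
  have h1 : ((mt g))ᵀ * (mt g⁻¹)ᵀ = 1 := by
    rw [← transpose_mul, ← mt_mul, inv_mul_cancel, mt_one, transpose_one]
  have h2 : cm (mt g⁻¹) * cm (mt g) = 1 := by
    rw [← cm_mul, ← mt_mul, inv_mul_cancel, mt_one, cm_one]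
  rw [show cm (lev g) = fromBlocks (cm (mt g)) 0 0 (mt g⁻¹)ᵀ by
      rw [lev, cm, fromBlocks_map]
      refine fromBlocks_inj.2 ⟨rfl, by simp, by simp, ?_⟩
      show cm ((cm (mt g⁻¹))ᵀ) = _
      rw [show cm ((cm (mt g⁻¹))ᵀ) = (cm (cm (mt g⁻¹)))ᵀ from rfl, cm_cm],
    lev, hyp, fromBlocks_transpose, fromBlocks_multiply, fromBlocks_multiply]
  simp [star2, h1, h2]

theorem tra_det (S : M2) : (tra S).det = 1 := by rw [tra, det_fromBlocks_zero₂₁]; simp

theorem lev_det (g : SL29) : (lev g).det = 1 := by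
  rw [lev, det_fromBlocks_zero₂₁, mt_det, star2, det_transpose, one_mul]
  exact ((F9.conj).map_det _).symm.trans (by rw [mt_det, map_one])

/-- The change of basis to an orthonormal basis. -/
def bas : Matrix (Fin 4) (Fin 2 ⊕ Fin 2) F9 :=
  Matrix.of fun i s => Sum.elim
    (fun j => (![![1, 0], ![⟨1, 1⟩, 0], ![0, 1], ![0, ⟨1, 1⟩]] : Fin 4 → Fin 2 → F9) i j)
    (fun j => (![![-1, 0], ![⟨1, 1⟩, 0], ![0, -1], ![0, ⟨1, 1⟩]] : Fin 4 → Fin 2 → F9) i j) s

/-- The inverse of `bas`. -/
def basInv : Matrix (Fin 2 ⊕ Fin 2) (Fin 4) F9 := hyp * (cm bas)ᵀ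

theorem bas_form : basᵀ * cm bas = hyp ∧ bas * basInv = 1 ∧ basInv * bas = 1 := by decide +kernel

/-- The matrix in the standard basis. -/
def toStd (M : MB) : Matrix (Fin 4) (Fin 4) F9 := bas * M * basInv

theorem toStd_mul (M N : MB) : toStd M * toStd N = toStd (M * N) := by
  rw [toStd, toStd, toStd]
  calc bas * M * basInv * (bas * N * basInv) = bas * (M * (basInv * bas) * N) * basInv := by
        simp only [Matrix.mul_assoc]
    _ = _ := by rw [bas_form.2.2, Matrix.mul_one]

theorem toStd_one : toStd 1 = 1 := by rw [toStd, Matrix.mul_one, bas_form.2.1]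

theorem toStd_inj {M N : MB} (h : toStd M = toStd N) : M = N := by
  have e := congrArg (fun X => basInv * X * bas) h
  simp only [toStd, ← Matrix.mul_assoc, bas_form.2.2, Matrix.one_mul] at e
  simpa only [Matrix.mul_assoc, bas_form.2.2, Matrix.mul_one] using e

theorem toStd_det (M : MB) (h : M.det = 1) : (toStd M).det = 1 := by
  rw [toStd, Matrix.det_conj_of_mul_eq_one bas_form.2.1 bas_form.2.2]
  exact h

end CfsgLib.Sporadic.LargeFischer
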