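import Cfsg.Agent.Lib.Sporadic.LargeFischer.Unitary
import Cfsg.Agent.Lib.Classical.SL2Sylow

/-!
# The frame of order 81 inside `PSU₄(3)`
-/

set_option autoImplicit false
set_option linter.unusedSectionVars false
set_option maxRecDepth 20000

namespace CfsgLib.Sporadic.LargeFischer

open Matrix CfsgLib.Chevalley.G2Two
open scoped commutatorElement

abbrev SU49 : Type := ↥(Cfsg.SU 4 F9 3)
abbrev U43 : Type := Cfsg.PSU 4 F9 3

theorem cube_eq (x : F9) : x ^ 3 = F9.conj x := by
  rw [pow_succ, pow_two]; exact F9.conj_eq x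

theorem toStd_isom (M : MB) (h : Mᵀ * hyp * cm M = hyp) : (toStd M)ᵀ * cm (toStd M) = 1 := by
  have e : cm (toStd M) = cm bas * cm M * cm basInv := by
    simp only [toStd, cm, Matrix.map_mul]
  have e1 : cm bas * cm basInv = 1 := by
    rw [cm, cm, ← Matrix.map_mul, bas_form.2.1]; exact cm_one
  rw [e, toStd, transpose_mul, transpose_mul]
  calc basInvᵀ * (Mᵀ * basᵀ) * (cm bas * cm M * cm basInv)
      = basInvᵀ * (Mᵀ * (basᵀ * cm bas) * cm M) * cm basInv := by simp only [Matrix.mul_assoc]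
    _ = basInvᵀ * (basᵀ * cm bas) * cm basInv := by rw [bas_form.1, h]
    _ = (bas * basInv)ᵀ * (cm bas * cm basInv) := by simp only [transpose_mul, Matrix.mul_assoc]
    _ = 1 := by rw [bas_form.2.1, e1, transpose_one, Matrix.one_mul]

theorem mem_su (M : MB) (hd : M.det = 1) (h : Mᵀ * hyp * cm M = hyp) :
    (⟨toStd M, toStd_det M hd⟩ : Matrix.SpecialLinearGroup (Fin 4) F9) ∈ Cfsg.SU 4 F9 3 := by
  intro u v
  show Cfsg.hermForm 4 F9 3 (toStd M *ᵥ u) (toStd M *ᵥ v) = Cfsg.hermForm 4 F9 3 u v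
  have e : ∀ a b : Fin 4 → F9, Cfsg.hermForm 4 F9 3 a b = a ⬝ᵥ fun i => F9.conj (b i) := fun a b => by
    simp only [Cfsg.hermForm, dotProduct, cube_eq]
  have e2 : (fun i => F9.conj ((toStd M *ᵥ v) i)) = cm (toStd M) *ᵥ fun i => F9.conj (v i) := by
    funext i; exact RingHom.map_mulVec F9.conj _ v i
  rw [e, e, e2, dotProduct_mulVec, ← vecMul_transpose (toStd M) u, vecMul_vecMul, toStd_isom M h, vecMul_one]

/-- An element of the unitary group from its matrix in the hyperbolic basis. -/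
def suOf (M : MB) (hd : M.det = 1) (h : Mᵀ * hyp * cm M = hyp) : SU49 := ⟨⟨toStd M, toStd_det M hd⟩, mem_su M hd h⟩

theorem suOf_val (M : MB) (hd : M.det = 1) (h : Mᵀ * hyp * cm M = hyp) :
    ((suOf M hd h).1 : Matrix (Fin 4) (Fin 4) F9) = toStd M := rfl

/-- The translation with given coordinates. -/
def tSU (v : Fin 4 → ZMod 3) : SU49 := suOf (tra (skew v)) (tra_det _) (tra_isom v)

/-- The Levi element in the unitary group. -/
def lSU (g : SL29) : SU49 := suOf (lev g) (lev_det g) (lev_isom g)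

theorem tSU_mul (v w : Fin 4 → ZMod 3) : tSU v * tSU w = tSU (v + w) := Subtype.ext (Subtype.ext (by
  show toStd (tra (skew v)) * toStd (tra (skew w)) = toStd (tra (skew (v + w)))
  rw [toStd_mul, tra_mul, skew_add]))

theorem lSU_mul (g h : SL29) : lSU g * lSU h = lSU (g * h) := Subtype.ext (Subtype.ext (by
  show toStd (lev g) * toStd (lev h) = toStd (lev (g * h))
  rw [toStd_mul, lev_mul]))

theorem tSU_zero : tSU 0 = 1 := by
  have h := tSU_mul 0 0
  rw [add_zero] at h
  exact mul_left_cancel (h.trans (mul_one _).symm)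

theorem lSU_tSU (g : SL29) (v : Fin 4 → ZMod 3) : lSU g * tSU v = tSU (act g v) * lSU g := by
  refine Subtype.ext (Subtype.ext ?_)
  show toStd (lev g) * toStd (tra (skew v)) = toStd (tra (skew (act g v))) * toStd (lev g)
  rw [toStd_mul, toStd_mul, lev_tra]

/-- The homomorphism of `SL₂(9)`. -/
def lHom : SL29 →* U43 where
  toFun g := QuotientGroup.mk (lSU g)
  map_one' := by
    have h := lSU_mul 1 1
    rw [one_mul] at h
    rw [mul_left_cancel (h.trans (mul_one _).symm)]
    rfl
  map_mul' g h := by rw [← lSU_mul]; rfl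

/-- The homomorphism of the translations. -/
def tHom : Multiplicative (Fin 4 → ZMod 3) →* U43 where
  toFun v := QuotientGroup.mk (tSU (Multiplicative.toAdd v))
  map_one' := by rw [toAdd_one, tSU_zero]; rfl
  map_mul' v w := by rw [toAdd_mul, ← tSU_mul]; rfl

theorem lHom_apply (g : SL29) : lHom g = QuotientGroup.mk (lSU g) := rfl

theorem tHom_apply (v : Fin 4 → ZMod 3) : tHom (Multiplicative.ofAdd v) = QuotientGroup.mk (tSU v) := rfl

theorem tSU_pow_three (v : Fin 4 → ZMod 3) : tSU v ^ 3 = 1 := by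
  rw [pow_succ, pow_two, tSU_mul, tSU_mul, ← tSU_zero]
  congr 1
  funext i
  show v i + v i + v i = 0
  generalize v i = x
  revert x; decide

theorem tHom_injective : Function.Injective tHom := by
  refine (injective_iff_map_eq_one tHom).2 fun v hv => ?_
  have hm : tSU (Multiplicative.toAdd v) ∈ Subgroup.center SU49 := (QuotientGroup.eq_one_iff _).1 hv
  have hc : Nat.card (Subgroup.center SU49) = 4 := by
    rw [CfsgLib.Classical.card_center_SU (F := F9) (q := 3) rfl (by norm_num)]; rfl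
  have h4 : tSU (Multiplicative.toAdd v) ^ 4 = 1 := by
    have h : (⟨_, hm⟩ : Subgroup.center SU49) ^ Nat.card (Subgroup.center SU49) = 1 := pow_card_eq_one'
    rw [hc] at h
    exact congrArg Subtype.val h
  rw [pow_succ, tSU_pow_three, one_mul, ← tSU_zero] at h4
  have h5 : toStd (tra (skew (Multiplicative.toAdd v))) = toStd (tra (skew 0)) :=
    congrArg (fun g : SU49 => (g.1 : Matrix (Fin 4) (Fin 4) F9)) h4
  exact skew_inj _ _ (fromBlocks_inj.1 (toStd_inj h5)).2.1

theorem lHom_tHom (g : SL29) (v : Fin 4 → ZMod 3) :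
    lHom g * tHom (Multiplicative.ofAdd v) * (lHom g)⁻¹ = tHom (Multiplicative.ofAdd (act g v)) := by
  rw [mul_inv_eq_iff_eq_mul, lHom_apply, tHom_apply, tHom_apply, ← QuotientGroup.mk_mul, ← QuotientGroup.mk_mul,
    lSU_tSU]

/-- Three elements of `SL₂(9)`. -/
def gen : Fin 3 → SL29 :=
  ![⟨!![1, 1; 0, 1], by decide +kernel⟩, ⟨!![0, 1; -1, 0], by decide +kernel⟩,
    ⟨!![⟨1, 1⟩, 0; 0, ⟨2, 1⟩], by decide +kernel⟩]

/-- Their images of the basis vectors. -/
def img : Fin 3 → Fin 4 → Fin 4 → ZMod 3 :=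
  ![![![1, 0, 0, 0], ![1, 1, 0, 1], ![0, 0, 1, 0], ![2, 0, 0, 1]],
    ![![0, 1, 0, 0], ![1, 0, 0, 0], ![0, 0, 1, 0], ![0, 0, 0, 2]],
    ![![2, 0, 0, 0], ![0, 2, 0, 0], ![0, 0, 0, 1], ![0, 0, 2, 0]]]

/-- The standard basis. -/
def bv (j : Fin 4) : Fin 4 → ZMod 3 := fun i => if i = j then 1 else 0

theorem img_spec : ∀ k j, mt (gen k) * skew (bv j) * star2 (mt (gen k)) = skew (img k j) := by decide +kernel

theorem act_bv (k : Fin 3) (j : Fin 4) : act (gen k) (bv j) = img k j :=
  skew_inj _ _ ((skew_act _ _).trans (img_spec k j))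

theorem no_lin : ∀ c : Fin 4 → ZMod 3,
    (∀ k j, img k j 0 * c 0 + img k j 1 * c 1 + img k j 2 * c 2 + img k j 3 * c 3 = c j) → c = 0 := by
  decide +kernel

/-- An alternating form from six parameters. -/
def alt6 (x : Fin 6 → ZMod 3) (i j : Fin 4) : ZMod 3 :=
  (![![0, x 0, x 1, x 2], ![-x 0, 0, x 3, x 4], ![-x 1, -x 3, 0, x 5], ![-x 2, -x 4, -x 5, 0]] :
    Fin 4 → Fin 4 → ZMod 3) i j

theorem no_alt : ∀ x : Fin 6 → ZMod 3,
    (∀ k j l, ∑ a, ∑ b, img k j a * img k l b * alt6 x a b = alt6 x j l) → x = 0 := by decide +kernel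

theorem sum_bv (v : Fin 4 → ZMod 3) : v = ∑ i, v i • bv i := by
  funext k; simp [bv, Finset.sum_apply]

theorem big_sl (N : Subgroup SL29) (hN : N.Normal) (hne : N ≠ ⊤) : 360 ≤ N.index := by
  haveI : IsSimpleGroup (Matrix.ProjectiveSpecialLinearGroup (Fin 2) F9) :=
    CfsgLib.Classical.psl_fin_isSimpleGroup le_rfl fun _ => by rw [F9.card_F9]; norm_num
  set Z := Subgroup.center SL29 with hZ
  have hperf : commutator SL29 = ⊤ := CfsgLib.Classical.sl_subgroup_eq_top _ fun i j hij c => by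
    rw [commutator_eq_closure]
    exact Subgroup.subset_closure (CfsgLib.Classical.transvection_mem_commutatorSet_two
      (a := (⟨1, 1⟩ : F9)) (by decide +kernel) (by decide +kernel) hij c)
  have hle : N ≤ Z := by
    rcases (hN.map (QuotientGroup.mk' Z) (QuotientGroup.mk'_surjective Z)).eq_bot_or_eq_top with h | h
    · rwa [Subgroup.map_eq_bot_iff, QuotientGroup.ker_mk'] at h
    · refine absurd ?_ hne
      rw [eq_top_iff, ← hperf, commutator_eq_closure, Subgroup.closure_le]
      rintro _ ⟨a, b, rfl⟩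
      have hlift : ∀ a : SL29, ∃ n ∈ N, ∃ c ∈ Z, a = n * c := fun a => by
        obtain ⟨n, hn, e⟩ : (QuotientGroup.mk' Z a) ∈ N.map (QuotientGroup.mk' Z) := by rw [h]; trivial
        exact ⟨n, hn, n⁻¹ * a, QuotientGroup.eq.1 e, (mul_inv_cancel_left n a).symm⟩
      obtain ⟨n, hn, c, hc, rfl⟩ := hlift a
      obtain ⟨m, hm, d, hd, rfl⟩ := hlift b
      have h1 := Subgroup.mem_center_iff.1 hc
      have h2 := Subgroup.mem_center_iff.1 hd
      have e : ⁅n * c, m * d⁆ = ⁅n, m⁆ := by
        simp only [commutatorElement_def, _root_.mul_inv_rev]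
        calc n * c * (m * d) * (c⁻¹ * n⁻¹) * (d⁻¹ * m⁻¹)
            = n * (c * (m * d) * c⁻¹) * n⁻¹ * d⁻¹ * m⁻¹ := by group
          _ = n * (m * d) * n⁻¹ * d⁻¹ * m⁻¹ := by rw [← h1 (m * d), mul_inv_cancel_right]
          _ = n * m * (d * n⁻¹ * d⁻¹) * m⁻¹ := by group
          _ = n * m * n⁻¹ * m⁻¹ := by rw [← h2 n⁻¹, mul_inv_cancel_right]
      show ⁅n * c, m * d⁆ ∈ N
      rw [e, commutatorElement_def]
      exact mul_mem (mul_mem (mul_mem hn hm) (inv_mem hn)) (inv_mem hm)
  have hz : Nat.card Z ≤ 2 := by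
    show Nat.card (Z : Set SL29) ≤ 2
    rw [Nat.card_coe_set_eq]
    refine (Set.ncard_le_ncard (t := {1, -1}) (fun z hz => ?_) (Set.toFinite _)).trans ?_
    · rcases CfsgLib.Classical.sl2_center_eq hz with h | h <;> simp [h]
    · exact (Set.ncard_insert_le _ _).trans (by simp)
  have hc : Nat.card SL29 = 720 := by
    rw [CfsgLib.Classical.card_sl2 F9.card_F9]
    norm_num
  have h1 := N.card_mul_index
  rw [hc] at h1
  have h2 : Nat.card N ≤ 2 := (Subgroup.card_le_of_le hle).trans hz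
  nlinarith

/-- The frame. -/
theorem exists_frame81 : Frame81 U43 tHom.range lHom.range where
  cardA := by
    rw [← Nat.card_congr (MonoidHom.ofInjective tHom_injective).toEquiv]
    simp [Nat.card_eq_fintype_card]
  commA := by rintro _ ⟨v, rfl⟩ _ ⟨w, rfl⟩; rw [← map_mul, ← map_mul, mul_comm]
  cubeA := by
    rintro _ ⟨v, rfl⟩
    show ((tSU (Multiplicative.toAdd v) : U43)) ^ 3 = 1
    rw [← QuotientGroup.mk_pow, tSU_pow_three]; rfl
  norm := by rintro _ ⟨g, rfl⟩ _ ⟨v, rfl⟩; exact ⟨_, (lHom_tHom g (Multiplicative.toAdd v)).symm⟩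
  big := by
    intro N hN hne
    have hs := lHom.rangeRestrict_surjective
    rw [← Subgroup.index_comap_of_surjective N hs]
    exact big_sl _ (hN.comap _) fun h => hne (Subgroup.comap_injective hs (h.trans (Subgroup.comap_top _).symm))
  noLin := by
    intro f hadd hinv
    let φ : (Fin 4 → ZMod 3) →+ ZMod 3 := AddMonoidHom.mk' (fun v => f (tHom (Multiplicative.ofAdd v)))
      fun v w => by rw [ofAdd_add, map_mul]; exact hadd _ ⟨_, rfl⟩ _ ⟨_, rfl⟩
    have hlin : ∀ v, φ v = ∑ i, v i * φ (bv i) := fun v => by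
      conv_lhs => rw [sum_bv v]
      rw [map_sum]
      exact Finset.sum_congr rfl fun i _ => ((φ.toZModLinearMap 3).map_smul (v i) (bv i)).trans rfl
    have hc : (fun i => φ (bv i)) = 0 := no_lin _ fun k j => by
      have e : φ (img k j) = φ (bv j) := by
        rw [← act_bv]
        show f (tHom _) = f (tHom _)
        rw [← lHom_tHom]
        exact hinv _ ⟨_, rfl⟩ _ ⟨_, rfl⟩
      rwa [hlin (img k j), Fin.sum_univ_four] at e
    rintro _ ⟨v, rfl⟩
    show φ (Multiplicative.toAdd v) = 0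
    rw [hlin]
    exact Finset.sum_eq_zero fun i _ => by rw [show φ (bv i) = 0 from congrFun hc i, mul_zero]
  noAlt := by
    intro β hl hr halt hinv
    let e : (Fin 4 → ZMod 3) → U43 := fun v => tHom (Multiplicative.ofAdd v)
    have he : ∀ v, e v ∈ tHom.range := fun v => ⟨_, rfl⟩
    have hemul : ∀ v w, e (v + w) = e v * e w := fun v w => by
      show tHom _ = _; rw [ofAdd_add, map_mul]
    let L (w : Fin 4 → ZMod 3) : (Fin 4 → ZMod 3) →+ ZMod 3 := AddMonoidHom.mk' (fun v => β (e v) (e w))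
      fun v v' => by rw [hemul]; exact hl _ (he _) _ (he _) _ (he _)
    let R (v : Fin 4 → ZMod 3) : (Fin 4 → ZMod 3) →+ ZMod 3 := AddMonoidHom.mk' (fun w => β (e v) (e w))
      fun w w' => by rw [hemul]; exact hr _ (he _) _ (he _) _ (he _)
    have hbil : ∀ v w, β (e v) (e w) = ∑ a, ∑ b, v a * w b * β (e (bv a)) (e (bv b)) := fun v w => by
      have h1 : β (e v) (e w) = ∑ a, v a * β (e (bv a)) (e w) := by
        show L w v = _
        conv_lhs => rw [sum_bv v]
        rw [map_sum]
        exact Finset.sum_congr rfl fun i _ => (((L w).toZModLinearMap 3).map_smul (v i) (bv i)).trans rfl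
      rw [h1]
      refine Finset.sum_congr rfl fun a _ => ?_
      have h2 : β (e (bv a)) (e w) = ∑ b, w b * β (e (bv a)) (e (bv b)) := by
        show R (bv a) w = _
        conv_lhs => rw [sum_bv w]
        rw [map_sum]
        exact Finset.sum_congr rfl fun i _ => (((R (bv a)).toZModLinearMap 3).map_smul (w i) (bv i)).trans rfl
      rw [h2, Finset.mul_sum]
      exact Finset.sum_congr rfl fun b _ => (mul_assoc _ _ _).symm
    set c : Fin 4 → Fin 4 → ZMod 3 := fun a b => β (e (bv a)) (e (bv b)) with hc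
    have hskew : ∀ a b, c b a = -c a b := fun a b => by
      have h := halt _ (he (bv a + bv b))
      rw [hemul, hl _ (he _) _ (he _) _ (mul_mem (he _) (he _)), hr _ (he _) _ (he _) _ (he _),
        hr _ (he _) _ (he _) _ (he _), halt _ (he _), halt _ (he _), zero_add, add_zero] at h
      exact eq_neg_of_add_eq_zero_right h
    set x : Fin 6 → ZMod 3 := ![c 0 1, c 0 2, c 0 3, c 1 2, c 1 3, c 2 3] with hx
    have hcx : ∀ a b, alt6 x a b = c a b := by
      intro a b
      fin_cases a <;> fin_cases b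
      all_goals simp [alt6, hx]
      all_goals first
        | exact (halt _ (he _)).symm
        | exact (hskew _ _).symm
        | rfl
    have hx0 : x = 0 := no_alt x fun k j l => by
      simp only [hcx]
      show _ = β (e (bv j)) (e (bv l))
      rw [← hbil, ← hinv _ ⟨gen k, rfl⟩ _ (he (bv j)) _ (he (bv l))]
      show β (e (img k j)) (e (img k l)) = β (lHom _ * tHom _ * _) (lHom _ * tHom _ * _)
      rw [lHom_tHom, lHom_tHom, act_bv, act_bv]
    rintro _ ⟨v, rfl⟩ _ ⟨w, rfl⟩
    show β (e (Multiplicative.toAdd v)) (e (Multiplicative.toAdd w)) = 0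
    rw [hbil]
    refine Finset.sum_eq_zero fun a _ => Finset.sum_eq_zero fun b _ => ?_
    have h0 : c a b = 0 := by
      rw [← hcx, hx0]
      revert a b; decide +kernel
    show _ * _ * c a b = 0
    rw [h0, mul_zero]

end CfsgLib.Sporadic.LargeFischer
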